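import Cfsg.Prelude.Def_ClassificationK
import Cfsg.Agent.PGroups.Basic

/-!
2-groups of symplectic type of exponent dividing 4: squares and commutators lie in the central group
of order 2.
-/

namespace Cfsg.Agent.H46

open Subgroup
open scoped commutatorElement

variable {Q : Type*} [Group Q]

/-- The preimage of the centre of `Q / Z(Q)`. -/
def zTwo (Q : Type*) [Group Q] : Subgroup Q where
  carrier := {u | ∀ x : Q, u * x * u⁻¹ * x⁻¹ ∈ center Q}
  one_mem' x := by simp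
  mul_mem' {a b} ha hb x := by
    have e : (a * b) * x * (a * b)⁻¹ * x⁻¹ = a * (b * x * b⁻¹ * x⁻¹) * a⁻¹ * (a * x * a⁻¹ * x⁻¹) := by group
    rw [e, mem_center_iff.mp (hb x) a, mul_inv_cancel_right]
    exact mul_mem (hb x) (ha x)
  inv_mem' {a} ha x := by
    have e : a⁻¹ * x * a⁻¹⁻¹ * x⁻¹ = a⁻¹ * (a * x * a⁻¹ * x⁻¹)⁻¹ * a := by group
    rw [e, mem_center_iff.mp (inv_mem (ha x)) a⁻¹, inv_mul_cancel_right]
    exact inv_mem (ha x)

theorem mem_zTwo {u : Q} : u ∈ zTwo Q ↔ ∀ x : Q, u * x * u⁻¹ * x⁻¹ ∈ center Q := Iff.rfl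

instance zTwo_characteristic : (zTwo Q).Characteristic := by
  rw [characteristic_iff_map_le]
  rintro e _ ⟨u, hu, rfl⟩ x
  have h := mem_center_iff.mp (hu (e.symm x))
  refine mem_center_iff.mpr fun w => ?_
  have := congrArg e (h (e.symm w))
  simpa using this

theorem zTwo_comm_commutator {u : Q} (hu : u ∈ zTwo Q) {v : Q} (hv : v ∈ commutator Q) : u * v = v * u := by
  have hcen : centralizer ({u} : Set Q) ⊔ ⊥ = centralizer ({u} : Set Q) := sup_bot_eq _
  let φ : Q →* ↥(center Q) :=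
    { toFun := fun x => ⟨u * x * u⁻¹ * x⁻¹, hu x⟩
      map_one' := Subtype.ext (by simp)
      map_mul' := fun a b => Subtype.ext (by
        show u * (a * b) * u⁻¹ * (a * b)⁻¹ = u * a * u⁻¹ * a⁻¹ * (u * b * u⁻¹ * b⁻¹)
        have h1 := mem_center_iff.mp (hu b) a
        calc u * (a * b) * u⁻¹ * (a * b)⁻¹ = (u * a * u⁻¹) * (u * b * u⁻¹ * b⁻¹) * a⁻¹ := by group
          _ = (u * a * u⁻¹) * (a⁻¹ * (a * (u * b * u⁻¹ * b⁻¹))) * a⁻¹ := by rw [inv_mul_cancel_left]
          _ = (u * a * u⁻¹) * (a⁻¹ * ((u * b * u⁻¹ * b⁻¹) * a)) * a⁻¹ := by rw [h1]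
          _ = _ := by group) }
  have hker : commutator Q ≤ φ.ker := by
    rw [_root_.commutator_def, Subgroup.commutator_le]
    intro a _ b _
    rw [MonoidHom.mem_ker, map_commutatorElement, commutatorElement_eq_one_iff_mul_comm]
    exact Subtype.ext (mem_center_iff.mp (φ b).2 (φ a : Q))
  have h := hker hv
  have h1 : u * v * u⁻¹ * v⁻¹ = 1 := congrArg Subtype.val (MonoidHom.mem_ker.mp h)
  calc u * v = (u * v * u⁻¹ * v⁻¹) * (v * u) := by group
    _ = v * u := by rw [h1, one_mul]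

theorem exists_zTwo_noncentral [Finite Q] (hQ : IsPGroup 2 Q) (h : ¬ commutator Q ≤ center Q) :
    ∃ n ∈ commutator Q, n ∈ zTwo Q ∧ n ∉ center Q := by
  haveI : Fact (Nat.Prime 2) := ⟨Nat.prime_two⟩
  set q := QuotientGroup.mk' (center Q)
  haveI : ((commutator Q).map q).Normal := Subgroup.Normal.map inferInstance _ (QuotientGroup.mk'_surjective _)
  have hne : (commutator Q).map q ≠ ⊥ := by
    rw [Ne, Subgroup.map_eq_bot_iff, QuotientGroup.ker_mk']; exact h
  obtain ⟨⟨w, hw⟩, hw1⟩ := Subgroup.ne_bot_iff_exists_ne_one.mp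
    (PGroups.inf_center_ne_bot (hQ.to_quotient _) _ hne)
  obtain ⟨⟨n, hn, rfl⟩, hwc⟩ := Subgroup.mem_inf.mp hw
  refine ⟨n, hn, fun x => ?_, fun hc => hw1 (Subtype.ext ((QuotientGroup.eq_one_iff n).mpr hc))⟩
  rw [← QuotientGroup.eq_one_iff, QuotientGroup.mk_mul, QuotientGroup.mk_mul, QuotientGroup.mk_mul]
  have h1 := mem_center_iff.mp hwc (q x)
  show q n * q x * q n⁻¹ * q x⁻¹ = 1
  rw [← h1, map_inv, map_inv, mul_inv_cancel_right, mul_inv_cancel]

theorem involution_mem_cyclic [Finite Q] {A : Subgroup Q} [IsCyclic ↥A] {a b : Q} (ha : a ∈ A) (hb : b ∈ A)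
    (ha2 : a ^ 2 = 1) (hb2 : b ^ 2 = 1) (hb1 : b ≠ 1) : a = 1 ∨ a = b := by
  classical
  by_cases ha1 : a = 1
  · exact Or.inl ha1
  right
  haveI := Fintype.ofFinite ↥A
  have h2 : ∀ c : Q, c ∈ A → c ^ 2 = 1 → c ≠ 1 → orderOf c = 2 := fun c _ h h1 => orderOf_eq_prime h h1
  have hd : 2 ∣ Fintype.card ↥A := by
    rw [← h2 a ha ha2 ha1, ← Subgroup.orderOf_mk a ha]; exact orderOf_dvd_card
  have hcard := IsCyclic.card_orderOf_eq_totient (α := ↥A) hd
  rw [Nat.totient_two, Finset.card_eq_one] at hcard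
  obtain ⟨w, hw⟩ := hcard
  have key : ∀ c : Q, ∀ hc : c ∈ A, c ^ 2 = 1 → c ≠ 1 → (⟨c, hc⟩ : ↥A) = w := fun c hc h h1 =>
    Finset.mem_singleton.mp (hw ▸ Finset.mem_filter.mpr
      ⟨Finset.mem_univ _, by rw [Subgroup.orderOf_mk]; exact h2 c hc h h1⟩)
  exact Subtype.ext_iff.mp ((key a ha ha2 ha1).trans (key b hb hb2 hb1).symm)

/-- Squares and commutators lie in `{1, z}`, `z` a central involution. -/
def SmallPhi (Q : Type*) [Group Q] (z : Q) : Prop :=
  (∀ a : Q, a ^ 2 = 1 ∨ a ^ 2 = z) ∧ ∀ a b : Q, a * b * a⁻¹ * b⁻¹ = 1 ∨ a * b * a⁻¹ * b⁻¹ = z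

theorem symp_class_two [Finite Q] (h4 : ∀ a : Q, a ^ 4 = 1) [IsCyclic ↥(center Q)]
    (hcl : commutator Q ≤ center Q) {z : Q} (hz : z ∈ center Q) (hz2 : z ^ 2 = 1) (hz1 : z ≠ 1) :
    SmallPhi Q z := by
  have hcen : ∀ a b : Q, a * b * a⁻¹ * b⁻¹ ∈ center Q := fun a b =>
    hcl (Subgroup.commutator_mem_commutator (mem_top a) (mem_top b))
  have hsmall : ∀ w ∈ center Q, w ^ 2 = 1 → w = 1 ∨ w = z := fun w hw hw2 =>
    involution_mem_cyclic hw hz hw2 hz2 hz1
  have hk : ∀ a b : Q, (a * b * a⁻¹ * b⁻¹) ^ 2 = 1 := by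
    intro a b
    set k := a * b * a⁻¹ * b⁻¹ with hk
    have hc : ∀ w : Q, Commute w k := fun w => mem_center_iff.mp (hcen a b) w
    have hab : a * b = k * (b * a) := by rw [hk]; group
    have h2 : (a * b) ^ 2 = k⁻¹ * (a ^ 2 * b ^ 2) := by
      have hba : b * a = k⁻¹ * (a * b) := by rw [hab, inv_mul_cancel_left]
      calc (a * b) ^ 2 = a * (b * a) * b := by simp only [pow_two, mul_assoc]
        _ = a * (k⁻¹ * (a * b)) * b := by rw [hba]
        _ = k⁻¹ * (a * (a * b)) * b := by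
            rw [← mul_assoc a k⁻¹, (hc a).inv_right.eq]; simp only [mul_assoc]
        _ = _ := by simp only [pow_two, mul_assoc]
    set m := a ^ 2 * b ^ 2 * (a ^ 2)⁻¹ * (b ^ 2)⁻¹ with hm
    have hmc : ∀ w : Q, Commute w m := fun w => mem_center_iff.mp (hcen (a ^ 2) (b ^ 2)) w
    have hm1 : m = 1 := by
      have hkp : ∀ n : ℕ, a ^ n * b = k ^ n * b * a ^ n := by
        intro n
        induction n with
        | zero => simp
        | succ n ih =>
          calc a ^ (n + 1) * b = a * (a ^ n * b) := by rw [pow_succ', mul_assoc]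
            _ = (a * k ^ n) * b * a ^ n := by rw [ih]; simp only [mul_assoc]
            _ = k ^ n * (a * b) * a ^ n := by rw [((hc a).pow_right n).eq]; simp only [mul_assoc]
            _ = _ := by rw [hab, pow_succ, pow_succ' a]; simp only [mul_assoc]
      have hk4 : k ^ 4 = 1 := by
        have := hkp 4
        rw [h4, one_mul, mul_one] at this
        exact mul_eq_right.mp this.symm
      rw [hm, mul_inv_eq_one, mul_inv_eq_iff_eq_mul]
      calc a ^ 2 * b ^ 2 = (a ^ 2 * b) * b := by rw [pow_two b, ← mul_assoc]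
        _ = k ^ 2 * b * (a ^ 2 * b) := by conv_lhs => rw [hkp 2]
                                          simp only [mul_assoc]
        _ = k ^ 2 * (b * k ^ 2) * b * a ^ 2 := by rw [hkp 2]; simp only [mul_assoc]
        _ = k ^ 4 * (b * b) * a ^ 2 := by
            rw [((hc b).pow_right 2).eq, show (4 : ℕ) = 2 + 2 from rfl, pow_add]; simp only [mul_assoc]
        _ = b ^ 2 * a ^ 2 := by rw [hk4, one_mul, pow_two b]
    have hcomm : Commute (a ^ 2) (b ^ 2) := by
      show a ^ 2 * b ^ 2 = b ^ 2 * a ^ 2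
      rw [hm, mul_inv_eq_one, mul_inv_eq_iff_eq_mul] at hm1
      exact hm1
    have h := h4 (a * b)
    rw [show (4 : ℕ) = 2 * 2 from rfl, pow_mul, h2, ((hc (a ^ 2 * b ^ 2)).inv_right.symm).mul_pow,
      hcomm.mul_pow, ← pow_mul, ← pow_mul, h4, h4, mul_one, mul_one, inv_pow, inv_eq_one] at h
    exact h
  refine ⟨fun a => hsmall _ ?_ (by rw [← pow_mul]; exact h4 a), fun a b => hsmall _ (hcen a b) (hk a b)⟩
  refine mem_center_iff.mpr fun b => ?_
  set k := a * b * a⁻¹ * b⁻¹ with hk'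
  have hc : Commute a k := mem_center_iff.mp (hcen a b) a
  calc b * a ^ 2 = (k ^ 2) * (b * a ^ 2) := by rw [hk, one_mul]
    _ = k * (k * b * a) * a := by simp only [pow_two, mul_assoc]
    _ = k * (a * b) * a := by rw [hk']; group
    _ = a * (k * b * a) := by rw [← mul_assoc, ← hc.eq]; simp only [mul_assoc]
    _ = a * (a * b) := by rw [hk']; group
    _ = a ^ 2 * b := by rw [pow_two, mul_assoc]

theorem symp_exp_four_aux : ∀ (n : ℕ) (Q : Type _) [Group Q] [Finite Q], Nat.card Q ≤ n →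
    Cfsg.IsOfSymplecticType Q → (∀ a : Q, a ^ 4 = 1) →
    ∀ z ∈ center Q, z ^ 2 = 1 → z ≠ 1 → SmallPhi Q z := by
  intro n
  induction n with
  | zero => intro Q _ _ h; exact absurd (le_antisymm h (Nat.zero_le _)) Nat.card_pos.ne'
  | succ n ih =>
  intro Q _ _ hcard hQ h4 z hz hz2 hz1
  classical
  haveI : IsCyclic ↥(center Q) := hQ.2 _ inferInstance inferInstance
  by_cases hcl : commutator Q ≤ center Q
  · exact symp_class_two h4 hcl hz hz2 hz1
  exfalso
  obtain ⟨n0, hn0, hn0Z, hn0c⟩ := exists_zTwo_noncentral hQ.1 hcl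
  set L := commutator Q ⊓ zTwo Q with hL
  haveI hLc : L.Characteristic := by
    rw [characteristic_iff_map_le]
    intro e
    exact (map_inf_le _ _ _).trans
      (inf_le_inf (characteristic_iff_map_le.mp inferInstance e) (characteristic_iff_map_le.mp inferInstance e))
  haveI hLcomm : IsMulCommutative ↥L :=
    ⟨⟨fun a b => Subtype.ext (zTwo_comm_commutator a.2.2 b.2.1)⟩⟩
  haveI : IsCyclic ↥L := hQ.2 L hLc hLcomm
  obtain ⟨l0, hl0⟩ := IsCyclic.exists_generator (α := ↥L)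
  set l : Q := (l0 : Q)
  have hmemL : ∀ w ∈ L, w ∈ zpowers l := by
    intro w hw
    obtain ⟨k, hk⟩ := mem_zpowers_iff.mp (hl0 ⟨w, hw⟩)
    exact mem_zpowers_iff.mpr ⟨k, by simpa using congrArg Subtype.val hk⟩
  have hL4 : ∀ w ∈ L, w = 1 ∨ w = l ∨ w = l ^ 2 ∨ w = l ^ 3 := by
    intro w hw
    obtain ⟨k, rfl⟩ := mem_powers_iff_mem_zpowers.mpr (hmemL w hw)
    show l ^ k = 1 ∨ l ^ k = l ∨ l ^ k = l ^ 2 ∨ l ^ k = l ^ 3
    rw [pow_eq_pow_mod k (h4 l)]
    rcases (by omega : k % 4 = 0 ∨ k % 4 = 1 ∨ k % 4 = 2 ∨ k % 4 = 3) with e | e | e | e <;> rw [e]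
    · exact Or.inl (pow_zero l)
    · exact Or.inr (Or.inl (pow_one l))
    · exact Or.inr (Or.inr (Or.inl rfl))
    · exact Or.inr (Or.inr (Or.inr rfl))
  have hlc : l ∉ center Q := fun h => hn0c ((zpowers_le.mpr h) (hmemL n0 ⟨hn0, hn0Z⟩))
  have hsm : ∀ w ∈ center Q, w ^ 2 = 1 → w = 1 ∨ w = z := fun w hw hw2 =>
    involution_mem_cyclic hw hz hw2 hz2 hz1
  have hl2ne : l ^ 2 ≠ 1 := by
    intro h2
    refine hlc (mem_center_iff.mpr fun w => ?_)
    have h := hL4 _ (hLc |> fun _ => (inferInstance : L.Normal).conj_mem l l0.2 w)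
    rw [show l ^ 3 = l by rw [pow_succ, h2, one_mul], h2] at h
    have hl1 : l ≠ 1 := fun e => hlc (e ▸ one_mem _)
    have e : w * l * w⁻¹ = l := by
      rcases h with e | e | e | e
      · exact absurd (conj_eq_one_iff.mp e) hl1
      · exact e
      · exact absurd (conj_eq_one_iff.mp e) hl1
      · exact e
    exact mul_inv_eq_iff_eq_mul.mp e
  have hconj : ∀ w : Q, w * l * w⁻¹ = l ∨ w * l * w⁻¹ = l ^ 3 := by
    intro w
    rcases hL4 _ ((inferInstance : L.Normal).conj_mem l l0.2 w) with e | e | e | e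
    · exact absurd (by rw [conj_eq_one_iff.mp e]; simp) hl2ne
    · exact Or.inl e
    · exfalso
      refine hl2ne ?_
      have h5 : w * l ^ 2 * w⁻¹ = 1 := by rw [← conj_pow, e, ← pow_mul]; exact h4 l
      exact conj_eq_one_iff.mp h5
    · exact Or.inr e
  have hl2c : l ^ 2 ∈ center Q := by
    refine mem_center_iff.mpr fun w => ?_
    have h : w * l ^ 2 * w⁻¹ = l ^ 2 := by
      rcases hconj w with e | e
      · rw [← conj_pow, e]
      · rw [← conj_pow, e, ← pow_mul, show 3 * 2 = 4 + 2 from rfl, pow_add, h4, one_mul]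
    exact mul_inv_eq_iff_eq_mul.mp h
  have hlz : l ^ 2 = z := (hsm _ hl2c (by rw [← pow_mul]; exact h4 l)).resolve_left hl2ne
  -- the centraliser of L
  set C₁ := centralizer (L : Set Q) with hC₁
  haveI hC₁c : C₁.Characteristic := inferInstance
  have hmemC : ∀ {w : Q}, w ∈ C₁ ↔ w * l = l * w := by
    intro w
    constructor
    · exact fun h => (mem_centralizer_iff.mp h l l0.2).symm
    · intro h
      refine mem_centralizer_iff.mpr fun v hv => ?_
      obtain ⟨k, rfl⟩ := mem_zpowers_iff.mp (hmemL v hv)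
      exact (Commute.zpow_right (show Commute w l from h) k).eq.symm
  have hC₁top : C₁ ≠ ⊤ := fun h =>
    hlc (mem_center_iff.mpr fun w => hmemC.mp (h.symm ▸ mem_top w))
  obtain ⟨x, hx⟩ : ∃ x, x ∉ C₁ := by
    by_contra hh
    push Not at hh
    exact hC₁top (eq_top_iff.mpr fun w _ => hh w)
  have hdec : ∀ w, w ∈ C₁ ∨ ∃ c ∈ C₁, w = c * x := by
    intro w
    by_cases hw : w ∈ C₁
    · exact Or.inl hw
    refine Or.inr ⟨w * x⁻¹, hmemC.mpr ?_, by group⟩
    have e1 : w * l * w⁻¹ = l ^ 3 := (hconj w).resolve_left fun e => hw (hmemC.mpr (mul_inv_eq_iff_eq_mul.mp e))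
    have e2 : x * l * x⁻¹ = l ^ 3 := (hconj x).resolve_left fun e => hx (hmemC.mpr (mul_inv_eq_iff_eq_mul.mp e))
    calc w * x⁻¹ * l = w * x⁻¹ * l ^ 9 := by
          rw [show (9 : ℕ) = 4 + 4 + 1 from rfl, pow_add, pow_add, h4, one_mul, one_mul, pow_one]
      _ = w * x⁻¹ * (x * l * x⁻¹) ^ 3 := by rw [e2, ← pow_mul]
      _ = (w * l ^ 3 * w⁻¹) * (w * x⁻¹) := by rw [conj_pow]; group
      _ = (l ^ 3) ^ 3 * (w * x⁻¹) := by rw [← conj_pow, e1]
      _ = l * (w * x⁻¹) := by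
          rw [← pow_mul, show 3 * 3 = 4 + 4 + 1 from rfl, pow_add, pow_add, h4, one_mul, one_mul, pow_one]
  -- induction
  have hC₁symp : Cfsg.IsOfSymplecticType ↥C₁ := by
    refine ⟨hQ.1.to_subgroup C₁, fun A hA hAc => ?_⟩
    haveI := hA
    have h1 : (A.map C₁.subtype).Characteristic := by
      rw [characteristic_iff_map_le]
      intro e
      have hmap : C₁.map e.toMonoidHom = C₁ := characteristic_iff_map_eq.mp hC₁c e
      let ψ : ↥C₁ ≃* ↥C₁ :=
        (C₁.equivMapOfInjective e.toMonoidHom e.injective).trans (MulEquiv.subgroupCongr hmap)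
      rintro _ ⟨_, ⟨a, ha, rfl⟩, rfl⟩
      exact ⟨ψ a, characteristic_iff_map_le.mp hA ψ ⟨a, ha, rfl⟩, rfl⟩
    haveI := hQ.2 (A.map C₁.subtype) h1 (map_isMulCommutative A C₁.subtype)
    exact isCyclic_of_surjective (A.equivMapOfInjective C₁.subtype C₁.subtype_injective).symm.toMonoidHom
      (MulEquiv.surjective _)
  have hlt : Nat.card ↥C₁ ≤ n := by
    have : Nat.card ↥C₁ < Nat.card Q := lt_of_le_of_ne (card_le_card_group C₁)
      fun e => hC₁top (eq_top_of_card_eq C₁ e)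
    omega
  have hzC : z ∈ C₁ := mem_centralizer_iff.mpr fun v _ => mem_center_iff.mp hz v
  obtain ⟨hsqC, hcC⟩ := ih ↥C₁ hlt hC₁symp (fun a => Subtype.ext (h4 a)) ⟨z, hzC⟩
    (mem_center_iff.mpr fun v => Subtype.ext (mem_center_iff.mp hz v)) (Subtype.ext hz2)
    (fun e => hz1 (congrArg Subtype.val e))
  have hsq : ∀ c ∈ C₁, c ^ 2 ∈ zpowers z := fun c hc => by
    rcases hsqC ⟨c, hc⟩ with e | e <;> have := congrArg Subtype.val e <;>
      simp at this <;> rw [this]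
    · exact one_mem _
    · exact mem_zpowers z
  haveI hNn : (zpowers z).Normal := by
    refine ⟨fun v hv w => ?_⟩
    have hvc : v ∈ center Q := zpowers_le.mpr hz hv
    rwa [mem_center_iff.mp hvc w, mul_inv_cancel_right]
  set π := QuotientGroup.mk' (zpowers z) with hπ
  have hcc : ∀ c ∈ C₁, ∀ d ∈ C₁, π c * π d = π d * π c := by
    intro c hc d hd
    have h1 : c * d * c⁻¹ * d⁻¹ ∈ zpowers z := by
      rcases hcC ⟨c, hc⟩ ⟨d, hd⟩ with e | e <;> have := congrArg Subtype.val e <;>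
        simp at this <;> rw [this]
      · exact one_mem _
      · exact mem_zpowers z
    have h2 : π (c * d * c⁻¹ * d⁻¹) = 1 := (QuotientGroup.eq_one_iff _).mpr h1
    rw [map_mul, map_mul, map_mul, map_inv, map_inv, mul_inv_eq_one, mul_inv_eq_iff_eq_mul] at h2
    exact h2
  have hnC : ∀ c ∈ C₁, x * c * x⁻¹ ∈ C₁ := fun c hc => (inferInstance : C₁.Normal).conj_mem c hc x
  let Φ : ↥C₁ →* Q ⧸ zpowers z :=
    { toFun := fun c => π (x * c * x⁻¹ * (c : Q)⁻¹)
      map_one' := by simp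
      map_mul' := fun c d => by
        have e : x * ((c : Q) * d) * x⁻¹ * ((c : Q) * d)⁻¹ =
            (x * c * x⁻¹) * (x * d * x⁻¹ * (d : Q)⁻¹) * (c : Q)⁻¹ := by group
        show π (x * ((c : Q) * d) * x⁻¹ * ((c : Q) * d)⁻¹) = π (x * c * x⁻¹ * (c : Q)⁻¹) * π _
        have key : ∀ A B C : Q, π B * π C = π C * π B → π (A * B * C) = π (A * C) * π B := fun A B C h => by
          simp only [map_mul, mul_assoc, h]
        rw [e, key _ _ _ (hcc _ (mul_mem (hnC d d.2) (inv_mem d.2)) _ (inv_mem c.2))] }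
  have hD : commutator Q ≤ Φ.range.comap π := by
    rw [_root_.commutator_def, Subgroup.commutator_le]
    intro a _ b _
    rw [Subgroup.mem_comap, commutatorElement_def]
    have hcd : ∀ c ∈ C₁, ∀ d ∈ C₁, π (c * d * c⁻¹ * d⁻¹) = 1 := fun c hc d hd => by
      rw [map_mul, map_mul, map_mul, map_inv, map_inv, mul_inv_eq_one, mul_inv_eq_iff_eq_mul]
      exact hcc c hc d hd
    have hx' : ∀ c ∈ C₁, ∀ d ∈ C₁, π (c * (d * x) * c⁻¹ * (d * x)⁻¹) = π (x * c⁻¹ * x⁻¹ * c⁻¹⁻¹) := by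
      intro c hc d hd
      have e : c * (d * x) * c⁻¹ * (d * x)⁻¹ = c * d * (x * c⁻¹ * x⁻¹) * d⁻¹ := by group
      have hX := hnC _ (inv_mem hc)
      have hdX : π (d * (x * c⁻¹ * x⁻¹) * d⁻¹) = π (x * c⁻¹ * x⁻¹) := by
        rw [map_mul, map_mul π d, hcc d hd _ hX, map_inv, mul_inv_cancel_right]
      rw [e, show c * d * (x * c⁻¹ * x⁻¹) * d⁻¹ = c * (d * (x * c⁻¹ * x⁻¹) * d⁻¹) by simp only [mul_assoc],
        map_mul π c, hdX, inv_inv, map_mul π (x * c⁻¹ * x⁻¹) c]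
      exact hcc c hc _ hX
    rcases hdec a with ha | ⟨c, hc, rfl⟩ <;> rcases hdec b with hb | ⟨d, hd, rfl⟩
    · rw [hcd a ha b hb]; exact one_mem _
    · exact ⟨⟨a⁻¹, inv_mem ha⟩, (hx' a ha d hd).symm⟩
    · have e : c * x * b * (c * x)⁻¹ * b⁻¹ = (b * (c * x) * b⁻¹ * (c * x)⁻¹)⁻¹ := by group
      rw [e, map_inv]
      exact inv_mem ⟨⟨b⁻¹, inv_mem hb⟩, (hx' b hb c hc).symm⟩
    · have e : c * x * (d * x) * (c * x)⁻¹ * (d * x)⁻¹ =
          c * (x * (d * c⁻¹) * x⁻¹ * (d * c⁻¹)⁻¹) * c⁻¹ * (c * d * c⁻¹ * d⁻¹) := by group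
      rw [e, map_mul, hcd c hc d hd, mul_one, map_mul, map_mul,
        hcc c hc _ (mul_mem (hnC _ (mul_mem hd (inv_mem hc))) (inv_mem (mul_mem hd (inv_mem hc)))),
        map_inv, mul_inv_cancel_right]
      exact ⟨⟨d * c⁻¹, mul_mem hd (inv_mem hc)⟩, rfl⟩
  obtain ⟨⟨c, hc⟩, hcl'⟩ := hD l0.2.1
  have hcl'' : π (x * c * x⁻¹ * c⁻¹) = π l := hcl'
  obtain ⟨k, hk⟩ := mem_zpowers_iff.mp ((QuotientGroup.eq_one_iff _).mp
    (show π (l⁻¹ * (x * c * x⁻¹ * c⁻¹)) = 1 by rw [map_mul, hcl'', map_inv, inv_mul_cancel]))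
  have hxc : x * c * x⁻¹ = z ^ k * l * c := by
    have hzk : Commute l (z ^ k) := (show Commute l z from mem_center_iff.mp hz l).zpow_right k
    rw [← hzk.eq, hk]; group
  have hc2 : (x * c * x⁻¹) ^ 2 = c ^ 2 := by
    rw [conj_pow]
    obtain ⟨m, hm⟩ := mem_zpowers_iff.mp (hsq c hc)
    rw [← hm, ((show Commute x z from mem_center_iff.mp hz x).zpow_right m).eq, mul_inv_cancel_right]
  have hzl : Commute (z ^ k) (l * c) :=
    ((show Commute (l * c) z from mem_center_iff.mp hz _).zpow_right k).symm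
  have hzk2 : (z ^ k) ^ 2 = 1 := by
    rw [← zpow_natCast (z ^ k), ← zpow_mul, mul_comm, zpow_mul, zpow_natCast, hz2, one_zpow]
  rw [hxc, mul_assoc, hzl.mul_pow, hzk2, one_mul, (show Commute l c from (hmemC.mp hc).symm).mul_pow,
    hlz] at hc2
  exact hz1 (mul_eq_right.mp hc2)

/-- In a 2-group of symplectic type of exponent dividing 4, squares and commutators lie in the
central subgroup of order two. -/
theorem symp_exp_four [Finite Q] (hQ : Cfsg.IsOfSymplecticType Q) (h4 : ∀ a : Q, a ^ 4 = 1)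
    {z : Q} (hz : z ∈ center Q) (hz2 : z ^ 2 = 1) (hz1 : z ≠ 1) :
    SmallPhi Q z ∧ ∀ w ∈ center Q, w ^ 2 = 1 → w = 1 ∨ w = z := by
  haveI : IsCyclic ↥(center Q) := hQ.2 _ inferInstance inferInstance
  exact ⟨symp_exp_four_aux _ Q le_rfl hQ h4 z hz hz2 hz1,
    fun w hw hw2 => involution_mem_cyclic hw hz hw2 hz2 hz1⟩

end Cfsg.Agent.H46
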