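import Cfsg.Agent.Components.PComponent
import Cfsg.Agent.Cores.Constrained

/-!
Images of p-components, and odd subgroups normalised by a component.
-/

namespace Cfsg.Agent.H46

open Subgroup

/-- An injective-kernel criterion: a subnormal subgroup generated by `p`-elements whose image in
`X / O_{p'}(X)` is quasisimple is a `p`-component. -/
theorem isPComponent_of_pElem {X : Type*} [Group X] [Finite X] {p : ℕ} [Fact p.Prime] {K : Subgroup X}
    (hK : K.IsSubnormal) (hgen : Components.pElemClosure p K = K)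
    (hqs : Cfsg.IsQuasisimple ↥(K.map (QuotientGroup.mk' (Cfsg.pPrimeCore p X)))) :
    Cfsg.IsPComponent p K := by
  refine ⟨hK, ⟨hK.map (QuotientGroup.mk'_surjective _), hqs⟩, fun A hA hle hmap => ?_⟩
  refine le_antisymm hle (le_trans ?_ (Components.pElemClosure_comap_le
    (K.map (Components.qmap p X)) hA hmap.ge))
  exact hgen.ge.trans (Components.pElemClosure_mono (Subgroup.le_comap_map _ _))

/-- The image of a `p`-component under a map with subnormal image and trivial `p'`-behaviour is a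
`p`-component. -/
theorem isPComponent_map {D : Type*} [Group D] [Finite D] {X : Type*} [Group X] [Finite X] {p : ℕ}
    [hp : Fact p.Prime] {J : Subgroup D} (hJ : Cfsg.IsPComponent p J) (f : D →* X)
    (hsub : (J.map f).IsSubnormal) (hker : (Nat.card ↥(f.ker ⊓ J)).Coprime p)
    (hcore : ((Cfsg.pPrimeCore p ↥J).map (f.comp J.subtype)).IsSubnormal) :
    Cfsg.IsPComponent p (J.map f) := by
  have hgen : Components.pElemClosure p (J.map f) = J.map f := by
    refine le_antisymm (Components.pElemClosure_le_self _) ?_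
    conv_lhs => rw [← Components.pComponent_pElemClosure_self hJ]
    exact Components.map_pElemClosure_le f J
  refine isPComponent_of_pElem hsub hgen ?_
  set Y := (J.map f).map (QuotientGroup.mk' (Cfsg.pPrimeCore p X))
  have hmem : ∀ j : ↥J, QuotientGroup.mk' (Cfsg.pPrimeCore p X) (f j) ∈ Y := fun j =>
    ⟨f j, ⟨j, j.2, rfl⟩, rfl⟩
  let φ : ↥J →* ↥Y :=
    { toFun := fun j => ⟨_, hmem j⟩
      map_one' := Subtype.ext (by simp)
      map_mul' := fun a b => Subtype.ext (by simp) }
  have hle : Cfsg.pPrimeCore p ↥J ≤ φ.ker := by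
    intro j hj
    rw [MonoidHom.mem_ker]
    refine Subtype.ext ((QuotientGroup.eq_one_iff _).mpr ?_)
    refine Cores.le_pPrimeCore_of_isSubnormal hcore ?_ ⟨j, hj, rfl⟩
    exact Nat.Coprime.coprime_dvd_left (Subgroup.card_map_dvd _ _) Cores.coprime_card_pPrimeCore
  have hne : Y ≠ ⊥ := by
    intro hY
    rw [Subgroup.map_eq_bot_iff, QuotientGroup.ker_mk'] at hY
    have hcop : (Nat.card ↥(J.map f)).Coprime p :=
      Nat.Coprime.coprime_dvd_left (Subgroup.card_dvd_of_le hY) Cores.coprime_card_pPrimeCore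
    have hbot : J.map f = ⊥ := by
      rw [← hgen, eq_bot_iff]
      refine (Subgroup.closure_le _).mpr ?_
      rintro x ⟨hx, k, hk⟩
      have h1 : orderOf x ∣ p ^ k := orderOf_dvd_of_pow_eq_one hk
      have h2 : orderOf x ∣ Nat.card ↥(J.map f) := by
        rw [← Subgroup.orderOf_mk x hx]; exact orderOf_dvd_natCard _
      exact orderOf_eq_one_iff.mp (Nat.eq_one_of_dvd_coprimes (hcop.symm.pow_left k) h1 h2)
    rw [Subgroup.map_eq_bot_iff] at hbot
    rw [inf_eq_right.mpr hbot] at hker
    exact hp.out.ne_one (Nat.eq_one_of_dvd_coprimes hker (Components.pComponent_dvd_card hJ) dvd_rfl)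
  haveI : Nontrivial ↥Y := (Subgroup.nontrivial_iff_ne_bot Y).mpr hne
  refine Components.qs_of_surjective (Components.quasisimple_quotient_pComponent hJ)
    (QuotientGroup.lift _ φ hle) ?_
  rintro ⟨_, _, ⟨j, hj, rfl⟩, rfl⟩
  exact ⟨QuotientGroup.mk (⟨j, hj⟩ : ↥J), rfl⟩

/-- A component of even order centralises every subgroup of odd order that it normalises. -/
theorem component_commutator_odd {X : Type*} [Group X] [Finite X] {K E : Subgroup X}
    (hK : Cfsg.IsComponent K) (hgen : Components.pElemClosure 2 K = K)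
    (hE : Odd (Nat.card ↥E)) (hKE : K ≤ normalizer (E : Set X)) : ⁅K, E⁆ = ⊥ := by
  haveI : Fact (Nat.Prime 2) := ⟨Nat.prime_two⟩
  have hEodd : ∀ x ∈ E, ∀ m : ℕ, x ^ 2 ^ m = 1 → x = 1 := fun x hx m hm =>
    orderOf_eq_one_iff.mp (Nat.eq_one_of_dvd_coprimes ((Nat.coprime_two_left.mpr hE).pow_left m)
      (orderOf_dvd_of_pow_eq_one hm)
      (by rw [← Subgroup.orderOf_mk x hx]; exact orderOf_dvd_natCard _))
  have hEN : E ≤ normalizer (K : Set X) := by
    intro e he
    by_contra hne
    have hne' : K.map (MulAut.conj e).toMonoidHom ≠ K := fun h =>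
      hne (mem_normalizer_iff_map_conj_eq.mpr h)
    have hcomm := Components.components_commute hK (Components.component_conj hK e) hne'.symm
    obtain ⟨k, ⟨hk, m, hm⟩, hkc⟩ : ∃ k, (k ∈ K ∧ ∃ m : ℕ, k ^ 2 ^ m = 1) ∧
        ∃ j ∈ K, k * j ≠ j * k := by
      by_contra hcon
      push Not at hcon
      have hle : K ≤ centralizer (K : Set X) := by
        conv_lhs => rw [← hgen]
        refine (Subgroup.closure_le _).mpr ?_
        rintro x ⟨hx, m, hm⟩
        exact mem_centralizer_iff.mpr fun j hj => (hcon x ⟨hx, m, hm⟩ j hj).symm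
      refine Components.qs_center_ne_top hK.2 (eq_top_iff.mpr fun a _ => mem_center_iff.mpr fun b =>
        Subtype.ext ?_)
      exact mem_centralizer_iff.mp (hle a.2) b b.2
    obtain ⟨j, hj, hkj⟩ := hkc
    set k' := e * k * e⁻¹
    have hk' : k' ∈ K.map (MulAut.conj e).toMonoidHom := ⟨k, hk, rfl⟩
    have hc : Commute k k' := Components.commute_of_commutator_eq_bot hcomm hk hk'
    have hmem : k * k'⁻¹ ∈ E := by
      have h1 : k * e * k⁻¹ * e⁻¹ ∈ E := mul_mem ((mem_normalizer_iff.mp (hKE hk) e).mp he) (inv_mem he)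
      have : k * k'⁻¹ = k * e * k⁻¹ * e⁻¹ := by show k * (e * k * e⁻¹)⁻¹ = _; group
      rwa [this]
    have h2 : k * k'⁻¹ = 1 := hEodd _ hmem m (by
      rw [hc.inv_right.mul_pow, hm, one_mul, inv_pow]
      show ((e * k * e⁻¹) ^ 2 ^ m)⁻¹ = 1
      rw [conj_pow, hm]; simp)
    rw [mul_inv_eq_one] at h2
    exact hkj (Components.commute_of_commutator_eq_bot hcomm hj (h2 ▸ hk' : k ∈ _)).symm
  have hle : ⁅E, K⁆ ≤ E ⊓ K := le_inf
    (Subgroup.le_normalizer_iff_commutator_le_left.mp hKE)
    (by rw [Subgroup.commutator_comm]; exact Subgroup.le_normalizer_iff_commutator_le_left.mp hEN)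
  haveI : ((E ⊓ K).subgroupOf K).Normal := by
    refine ⟨fun n hn g => Subgroup.mem_subgroupOf.mpr (Subgroup.mem_inf.mpr
      ⟨(mem_normalizer_iff.mp (hKE g.2) n).mp (Subgroup.mem_inf.mp (Subgroup.mem_subgroupOf.mp hn)).1,
        (g * n * g⁻¹).2⟩)⟩
  have hne : (E ⊓ K).subgroupOf K ≠ ⊤ := by
    intro h
    refine Components.qs_center_ne_top hK.2 (eq_top_iff.mpr fun a _ => ?_)
    have hKb : K ≤ ⊥ := by
      conv_lhs => rw [← hgen]
      refine (Subgroup.closure_le _).mpr ?_
      rintro x ⟨hx, m, hm⟩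
      exact Subgroup.mem_bot.mpr (hEodd x (Subgroup.subgroupOf_eq_top.mp h hx).1 m hm)
    rw [show a = 1 from Subtype.ext (Subgroup.mem_bot.mp (hKb a.2))]
    exact one_mem _
  have hcen : (E ⊓ K).subgroupOf K ≤ center ↥K := Components.qs_normal_le_center hK.2 _ hne
  have h3 : ⁅⁅E, K⁆, K⁆ = ⊥ := by
    rw [commutator_eq_bot_iff_le_centralizer]
    intro u hu
    refine mem_centralizer_iff.mpr fun v hv => ?_
    exact congrArg Subtype.val (mem_center_iff.mp (hcen (x := ⟨u, (hle hu).2⟩) (hle hu)) ⟨v, hv⟩)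
  rw [Subgroup.commutator_comm]
  exact Components.commutator_eq_bot_of_perfect' (Components.component_perfect hK) h3

end Cfsg.Agent.H46
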