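import Cfsg.Prelude.Def_Transfer
import Cfsg.Agent.PGroups.Basic

/-!
Centralisers in extraspecial 2-groups.
-/

namespace Cfsg.Agent.H46

open Subgroup

variable {P : Type*} [Group P]

theorem es_exists_gen (h : Cfsg.IsExtraspecial 2 P) :
    ∃ c ∈ center P, c ≠ 1 ∧ c ^ 2 = 1 ∧ ∀ x ∈ center P, x = 1 ∨ x = c := by
  classical
  obtain ⟨-, hcard⟩ := h
  haveI : Finite ↥(center P) := Nat.finite_of_card_ne_zero (by omega)
  haveI : Nontrivial ↥(center P) := Finite.one_lt_card_iff_nontrivial.mp (by omega)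
  obtain ⟨c, hc⟩ := exists_ne (1 : ↥(center P))
  have h2 : ∀ x : ↥(center P), x = 1 ∨ x = c := by
    intro x
    by_contra hx
    push Not at hx
    haveI := Fintype.ofFinite ↥(center P)
    have : ({1, c, x} : Finset ↥(center P)).card ≤ 2 := by
      rw [← hcard, Nat.card_eq_fintype_card]
      exact Finset.card_le_univ _
    rw [Finset.card_insert_of_notMem (by simp [Ne.symm hc, Ne.symm hx.1]),
      Finset.card_pair (Ne.symm hx.2)] at this
    omega
  refine ⟨c, c.2, fun e => hc (Subtype.ext e), ?_, fun x hx => ?_⟩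
  · have := congrArg Subtype.val (pow_card_eq_one' (x := c))
    rw [hcard] at this
    simpa using this
  · exact (h2 ⟨x, hx⟩).imp (congrArg Subtype.val) (congrArg Subtype.val)

theorem es_comm_mem (h : Cfsg.IsExtraspecial 2 P) (a b : P) : a * b * a⁻¹ * b⁻¹ ∈ center P := by
  rw [← h.1.2.2]
  exact Subgroup.commutator_mem_commutator (Subgroup.mem_top a) (Subgroup.mem_top b)

theorem es_sq_mem [Finite P] (h : Cfsg.IsExtraspecial 2 P) (a : P) : a ^ 2 ∈ center P := by
  haveI : Fact (Nat.Prime 2) := ⟨Nat.prime_two⟩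
  rw [← h.1.2.1]
  exact PGroups.pow_mem_frattini h.1.1 a

theorem es_step [Finite P] (h : Cfsg.IsExtraspecial 2 P) (K : Subgroup P) {x : P} (hx : x ∉ K) :
    Nat.card ↥(centralizer (K : Set P)) * Nat.card ↥K ≤
      Nat.card ↥(centralizer ((K ⊔ zpowers x : Subgroup P) : Set P)) * Nat.card ↥(K ⊔ zpowers x) := by
  classical
  obtain ⟨c, hc, hc1, hc2, hc'⟩ := es_exists_gen h
  have hlt : K < K ⊔ zpowers x :=
    left_lt_sup.mpr fun hle => hx (hle (mem_zpowers x))
  have hK : 2 * Nat.card ↥K ≤ Nat.card ↥(K ⊔ zpowers x) := by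
    obtain ⟨m, hm⟩ := card_dvd_of_le hlt.le
    rcases m with _ | _ | m
    · rw [mul_zero] at hm; exact absurd hm Nat.card_pos.ne'
    · exact absurd (eq_of_le_of_card_ge hlt.le (by rw [hm]; simp)) hlt.ne
    · rw [hm, mul_comm 2]; exact Nat.mul_le_mul_left _ (by omega)
  set C := centralizer (K : Set P)
  set C' := centralizer ((K ⊔ zpowers x : Subgroup P) : Set P) with hC'
  have hmem : ∀ a ∈ C, a * x * a⁻¹ * x⁻¹ = 1 → a ∈ C' := by
    intro a ha hax
    have hax' : a * x = x * a := by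
      calc a * x = (a * x * a⁻¹ * x⁻¹) * (x * a) := by group
        _ = x * a := by rw [hax, one_mul]
    have : K ⊔ zpowers x ≤ centralizer ({a} : Set P) :=
      sup_le (fun k hk => mem_centralizer_singleton_iff.mpr (mem_centralizer_iff.mp ha k hk))
        (zpowers_le.mpr (mem_centralizer_singleton_iff.mpr hax'.symm))
    exact mem_centralizer_iff.mpr fun k hk => mem_centralizer_singleton_iff.mp (this hk)
  have hC : Nat.card ↥C ≤ 2 * Nat.card ↥C' := by
    by_cases hex : ∃ a0 ∈ C, a0 * x * a0⁻¹ * x⁻¹ ≠ 1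
    · obtain ⟨a0, ha0, ha0x⟩ := hex
      have ha0c : a0 * x * a0⁻¹ * x⁻¹ = c := (hc' _ (es_comm_mem h a0 x)).resolve_left ha0x
      have key : ∀ a : ↥C, a.1 * x * a.1⁻¹ * x⁻¹ ≠ 1 → a.1 * a0 ∈ C' := by
        intro a hne
        refine hmem _ (mul_mem a.2 ha0) ?_
        have hac : a.1 * x * a.1⁻¹ * x⁻¹ = c := (hc' _ (es_comm_mem h _ x)).resolve_left hne
        calc a.1 * a0 * x * (a.1 * a0)⁻¹ * x⁻¹
            = a.1 * (a0 * x * a0⁻¹ * x⁻¹) * a.1⁻¹ * (a.1 * x * a.1⁻¹ * x⁻¹) := by group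
          _ = c * c := by rw [ha0c, hac, mem_center_iff.mp hc a.1, mul_inv_cancel_right]
          _ = 1 := by rw [← pow_two, hc2]
      let f : ↥C → ↥C' ⊕ ↥C' := fun a => if ha : a.1 * x * a.1⁻¹ * x⁻¹ = 1 then
        Sum.inl ⟨a.1, hmem _ a.2 ha⟩ else Sum.inr ⟨a.1 * a0, key a ha⟩
      have hf : Function.Injective f := by
        intro a b hab
        by_cases ha : a.1 * x * a.1⁻¹ * x⁻¹ = 1 <;> by_cases hb : b.1 * x * b.1⁻¹ * x⁻¹ = 1 <;>
          simp only [f, dif_pos, dif_neg, ha, hb, not_false_eq_true, Sum.inl.injEq, Sum.inr.injEq,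
            Subtype.mk.injEq, reduceCtorEq] at hab
        · exact Subtype.ext hab
        · exact Subtype.ext (mul_right_cancel hab)
      refine (Nat.card_le_card_of_injective f hf).trans (le_of_eq ?_)
      rw [Nat.card_sum, two_mul]
    · push Not at hex
      exact le_trans (Nat.card_le_card_of_injective (fun a : ↥C => (⟨a.1, hmem _ a.2 (hex _ a.2)⟩ : ↥C'))
        (fun a b hab => Subtype.ext (Subtype.ext_iff.mp hab :))) (Nat.le_mul_of_pos_left _ (by norm_num))
  calc Nat.card ↥C * Nat.card ↥K ≤ 2 * Nat.card ↥C' * Nat.card ↥K := Nat.mul_le_mul_right _ hC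
    _ = Nat.card ↥C' * (2 * Nat.card ↥K) := by ring
    _ ≤ _ := Nat.mul_le_mul_left _ hK

theorem es_mono [Finite P] (h : Cfsg.IsExtraspecial 2 P) (K : Subgroup P) :
    ∀ L, K ≤ L → Nat.card ↥(centralizer (K : Set P)) * Nat.card ↥K ≤
      Nat.card ↥(centralizer (L : Set P)) * Nat.card ↥L := by
  induction K using WellFoundedGT.induction with
  | _ K ih =>
    intro L hL
    rcases hL.lt_or_eq with hlt | rfl
    · obtain ⟨x, hxL, hxK⟩ := SetLike.exists_of_lt hlt
      exact (es_step h K hxK).trans (ih _ (left_lt_sup.mpr fun hle => hxK (hle (mem_zpowers x)))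
        L (sup_le hL (zpowers_le.mpr hxL)))
    · exact le_rfl

/-- `|C_P(K)| |K| = |P| |Z(P)|` for a subgroup `K` containing the centre of an extraspecial `P`. -/
theorem es_card_centralizer [Finite P] (h : Cfsg.IsExtraspecial 2 P) (K : Subgroup P)
    (hK : center P ≤ K) : Nat.card ↥(centralizer (K : Set P)) * Nat.card ↥K = Nat.card P * 2 := by
  refine le_antisymm ?_ ?_
  · have := es_mono h K ⊤ le_top
    rw [Subgroup.coe_top, centralizer_univ, card_top, h.2] at this
    omega
  · have := es_mono h (center P) K hK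
    rw [centralizer_eq_top_iff_subset.mpr le_rfl, card_top, h.2] at this
    omega

/-- An involutory automorphism of an extraspecial 2-group centralising a maximal subgroup is inner. -/
theorem es_inner [Finite P] (h : Cfsg.IsExtraspecial 2 P) (τ : MulAut P) (hτ : ∀ x, τ (τ x) = x)
    (H : Subgroup P) (hH : ∀ x ∈ H, τ x = x) (hi : H.index ≤ 2) :
    ∃ q : P, ∀ x, τ x = q * x * q⁻¹ := by
  classical
  haveI : Fact (Nat.Prime 2) := ⟨Nat.prime_two⟩
  obtain ⟨c, hc, hc1, hc2, hc'⟩ := es_exists_gen h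
  by_cases hall : ∀ x, τ x = x
  · exact ⟨1, fun x => by rw [hall x, one_mul, inv_one, mul_one]⟩
  have hH2 : H.index = 2 := by
    have h0 := H.index_ne_zero_of_finite
    rcases Nat.lt_or_ge H.index 2 with hlt | hge
    · exact absurd (fun x => hH x (by rw [Subgroup.index_eq_one.mp (by omega : H.index = 1)]; trivial)) hall
    · omega
  haveI hn : H.Normal := PGroups.normal_of_index_eq h.1.1 hH2
  have hcH : center P ≤ H := by
    rw [← h.1.2.1]
    exact frattini_le_coatom (by
      refine ⟨fun e => ?_, fun K hK => ?_⟩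
      · rw [e, index_top] at hH2; omega
      · have h1 := relIndex_mul_index hK.le
        rw [hH2] at h1
        rcases Nat.prime_two.eq_one_or_self_of_dvd K.index (Dvd.intro_left _ h1) with e | e
        · exact index_eq_one.mp e
        · rw [e] at h1
          exact absurd (relIndex_eq_one.mp (by omega)) (not_le_of_gt hK))
  obtain ⟨x0, hx0⟩ : ∃ x0, x0 ∉ H := by
    by_contra hcon; push Not at hcon
    exact hall fun x => hH x (hcon x)
  have hgen : ∀ y : P, y ∉ H → ∀ w, w ∈ H ∨ ∃ k ∈ H, w = k * y := by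
    intro y hy w
    by_cases hw : w ∈ H
    · exact Or.inl hw
    · exact Or.inr ⟨w * y⁻¹, (mul_mem_iff_of_index_two hH2).mpr
        (iff_of_false hw fun h => hy (by simpa using inv_mem h)), by group⟩
  -- the element d = x0⁻¹ τ(x0) centralises H
  set d := x0⁻¹ * τ x0 with hd
  have hdH : ∀ k ∈ H, d * k = k * d := by
    intro k hk
    have h1 : τ (x0 * k * x0⁻¹) = x0 * k * x0⁻¹ := hH _ (hn.conj_mem k hk x0)
    rw [map_mul, map_mul, map_inv, hH k hk] at h1
    calc d * k = x0⁻¹ * (τ x0 * k * (τ x0)⁻¹) * τ x0 := by rw [hd]; group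
      _ = k * d := by rw [h1, hd]; group
  have hcentral : ∀ y, (∀ k ∈ H, y * k = k * y) → y * x0 = x0 * y → y ∈ center P := by
    intro y hyH hy0
    refine mem_center_iff.mpr fun w => ?_
    rcases hgen x0 hx0 w with hw | ⟨k, hk, rfl⟩
    · exact (hyH w hw).symm
    · rw [mul_assoc, ← hy0, ← mul_assoc, ← hyH k hk, mul_assoc]
  have hdZ : d ∈ center P := by
    by_cases hdm : d ∈ H
    · have htau : τ x0 = x0 * d := by rw [hd]; group
      have hd2 : d * d = 1 := by
        have := hτ x0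
        rw [htau, map_mul, htau, hH d hdm, mul_assoc] at this
        exact mul_eq_left.mp this
      -- (x0 d)^2 = x0^2
      have hsq : τ (x0 ^ 2) = x0 ^ 2 := hH _ (hcH (es_sq_mem h x0))
      rw [map_pow, htau, pow_two, pow_two] at hsq
      have hsq' : d * (x0 * d) = x0 := mul_left_cancel ((mul_assoc x0 d (x0 * d)).symm.trans hsq)
      refine hcentral d hdH ?_
      calc d * x0 = d * (x0 * d) * d⁻¹ := by group
        _ = x0 * d⁻¹ := by rw [hsq']
        _ = x0 * d := by rw [inv_eq_of_mul_eq_one_right hd2]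
    · refine mem_center_iff.mpr fun w => ?_
      rcases hgen d hdm w with hw | ⟨k, hk, rfl⟩
      · exact (hdH w hw).symm
      · calc k * d * d = d * k * d := by rw [hdH k hk]
          _ = d * (k * d) := mul_assoc _ _ _
  have hd1 : d ≠ 1 := by
    intro e
    refine hall fun w => ?_
    have htau : τ x0 = x0 := by
      calc τ x0 = x0 * d := by rw [hd]; group
        _ = x0 := by rw [e, mul_one]
    rcases hgen x0 hx0 w with hw | ⟨k, hk, rfl⟩
    · exact hH w hw
    · rw [map_mul, hH k hk, htau]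
  have hdc : d = c := (hc' d hdZ).resolve_left hd1
  -- an element of C(H) outside the centre
  obtain ⟨q, hqH, hqZ⟩ : ∃ q ∈ centralizer (H : Set P), q ∉ center P := by
    by_contra hcon
    push Not at hcon
    have h1 := es_card_centralizer h H hcH
    have h2 : Nat.card ↥(centralizer (H : Set P)) ≤ 2 := h.2 ▸ card_le_of_le hcon
    have h3 : Nat.card ↥H * 2 = Nat.card P := by rw [← hH2]; exact H.card_mul_index
    have : 0 < Nat.card ↥H := Nat.card_pos
    nlinarith
  have hqcomm : ∀ k ∈ H, q * k = k * q := fun k hk => (mem_centralizer_iff.mp hqH k hk).symm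
  have hq1 : q * x0 * q⁻¹ * x0⁻¹ ≠ 1 := by
    intro e
    refine hqZ (hcentral q hqcomm ?_)
    calc q * x0 = (q * x0 * q⁻¹ * x0⁻¹) * (x0 * q) := by group
      _ = x0 * q := by rw [e, one_mul]
  have hqc : q * x0 * q⁻¹ * x0⁻¹ = c := (hc' _ (es_comm_mem h q x0)).resolve_left hq1
  refine ⟨q, fun w => ?_⟩
  rcases hgen x0 hx0 w with hw | ⟨k, hk, rfl⟩
  · rw [hH w hw, hqcomm w hw, mul_inv_cancel_right]
  · have e1 : τ x0 = x0 * c := by rw [← hdc, hd]; group
    have e2 : q * x0 * q⁻¹ = c * x0 := by rw [← hqc]; group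
    calc τ (k * x0) = k * (c * x0) := by rw [map_mul, hH k hk, e1, mem_center_iff.mp hc x0]
      _ = k * (q * x0 * q⁻¹) := by rw [e2]
      _ = (k * q) * x0 * q⁻¹ := by simp only [mul_assoc]
      _ = _ := by rw [← hqcomm k hk]; simp only [mul_assoc]

end Cfsg.Agent.H46
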