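import Cfsg.Agent.H46.BigTwoModule

/-!
In the configuration of `BigTwoCore` the centre of `W` is the third upper central term.
-/

set_option autoImplicit false

namespace Cfsg.Agent.H46.BigTwo

open scoped commutatorElement
open DihedralGroup

variable {T : Type*} [Group T] [Finite T] {W : Subgroup T}

local notation "Z" => Subgroup.upperCentralSeries T

/-- The five lists. -/
def cert : Fin 5 → List (DihedralGroup 4) :=
  ![[r 0, r 2], [r 1, r 3], [r 1, sr 0], [r 1, sr 2], [r 0, sr 3]]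

/-- The value of the form on a product. -/
def qL (f : DihedralGroup 4 → ZMod 2) (e : ZMod 2) : List (DihedralGroup 4) → ZMod 2
  | [] => 0
  | g :: L => e + qL f e L + (L.map fun k => f (g⁻¹ * k)).sum

/-- The value of the bilinear form on two products. -/
def bL (f : DihedralGroup 4 → ZMod 2) (L M : List (DihedralGroup 4)) : ZMod 2 :=
  (L.map fun g => (M.map fun k => f (g⁻¹ * k)).sum).sum

/-- The possible forms. -/
def fab (a b : ZMod 2) : DihedralGroup 4 → ZMod 2
  | r i => if i = 1 ∨ i = 3 then a else 0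
  | sr i => if i = 0 ∨ i = 2 then b else 0

theorem cert_singular : ∀ a b e, ∀ i j, qL (fab a b) e (cert i) = 0 ∧ bL (fab a b) (cert i) (cert j) = 0 := by
  decide

theorem cert_indep : ∀ c0 c1 c2 c3 c4 : ZMod 2,
    (∀ k : DihedralGroup 4, c0 * ((cert 0).map fun g => if k * g = 1 then (1 : ZMod 2) else 0).sum
      + c1 * ((cert 1).map fun g => if k * g = 1 then (1 : ZMod 2) else 0).sum
      + c2 * ((cert 2).map fun g => if k * g = 1 then (1 : ZMod 2) else 0).sum
      + c3 * ((cert 3).map fun g => if k * g = 1 then (1 : ZMod 2) else 0).sum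
      + c4 * ((cert 4).map fun g => if k * g = 1 then (1 : ZMod 2) else 0).sum = 0) →
      c0 = 0 ∧ c1 = 0 ∧ c2 = 0 ∧ c3 = 0 ∧ c4 = 0 := by
  decide

/-- All elements. -/
def allD : List (DihedralGroup 4) := [r 0, r 1, r 2, r 3, sr 0, sr 1, sr 2, sr 3]

theorem all_count : ∀ k : DihedralGroup 4,
    (allD.map fun g => if k * g = 1 then (1 : ZMod 2) else 0).sum = 1 := by
  decide

theorem comm_mul_central {y d x : T} (hy : Commute d y) (hx : Commute d x) : ⁅y, d * x⁆ = ⁅y, x⁆ := by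
  have h2 : Commute d (y * x * y⁻¹ * x⁻¹) := ((hy.mul_right hx).mul_right hy.inv_right).mul_right hx.inv_right
  calc ⁅y, d * x⁆ = (y * d) * x * y⁻¹ * x⁻¹ * d⁻¹ := by rw [commutatorElement_def]; group
    _ = d * (y * x * y⁻¹ * x⁻¹) * d⁻¹ := by rw [← hy.eq]; group
    _ = ⁅y, x⁆ := by rw [h2.eq, mul_inv_cancel_right, commutatorElement_def]

theorem sym_eq : ∀ p q q' : ZMod 2, 0 + (p + (0 + (p + (q + (0 + (q' + 0)))))) = 0 → q' = q := by decide

theorem zmod2_eq : ∀ p q : ZMod 2, 0 = p + q → p = q := by decide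

theorem false_of_Z4_le (h : Cfg T W) (hZ4 : ∀ s ∈ Z 4, ∀ w ∈ W, w * s = s * w) : False := by
  classical
  haveI : Fact (Nat.Prime 2) := ⟨Nat.prime_two⟩
  haveI hWn := W_normal h
  obtain ⟨χ, hχk, hχs, hχf⟩ := exists_chi h
  obtain ⟨lam, hadd, hker, -⟩ := index_frattini_le h
  obtain ⟨hWi, -, hWc, hFc, hFi⟩ := basic h
  obtain ⟨x2, x3, -, h3⟩ := exists_x2x3 h
  have h23 : Z 2 ≤ Z 3 := Subgroup.upperCentralSeries_mono T (by omega)
  have c23 : Nat.card (Z 3) = 2 * Nat.card (Z 2) := by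
    rw [card_Z h (by omega), card_Z h (by omega)]; norm_num
  -- the functional on the third term
  obtain ⟨eps, heps⟩ : ∃ eps : T → ZMod 2, ∀ x, eps x = if x ∈ Z 2 then 0 else 1 := ⟨_, fun _ => rfl⟩
  have eps_mul : ∀ x ∈ Z 3, ∀ y ∈ Z 3, eps (x * y) = eps x + eps y := by
    intro x hx y hy
    have := double_mem_iff h23 c23 hx hy
    rw [heps, heps, heps]
    by_cases h1 : x ∈ Z 2 <;> by_cases h2 : y ∈ Z 2 <;> simp_all
    exact (show (0 : ZMod 2) = 1 + 1 from rfl)
  have eps_one : eps 1 = 0 := by rw [heps, if_pos (Z 2).one_mem]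
  have eps_inv : ∀ x ∈ Z 3, eps x⁻¹ = eps x := by
    intro x hx
    rw [heps, heps, Subgroup.inv_mem_iff]
  have eps_conj : ∀ (t x : T), eps (t * x * t⁻¹) = eps x := by
    intro t x
    have hn : (Z 2).Normal := inferInstance
    rw [heps, heps]
    congr 1
    apply propext
    refine ⟨fun hh => ?_, fun hh => hn.conj_mem _ hh t⟩
    have := hn.conj_mem _ hh t⁻¹
    simpa [mul_assoc] using this
  -- centrality of the third term in `W`
  have hcen : ∀ c ∈ Z 3, ∀ w ∈ W, c * w = w * c := fun c hc w hw => (mem_W_iff h).1 hw c hc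
  -- the bilinear and quadratic forms
  obtain ⟨B, hB⟩ : ∃ B : T → T → ZMod 2, ∀ u v, B u v = eps ⁅u, v⁆ := ⟨_, fun _ _ => rfl⟩
  obtain ⟨Q, hQ⟩ : ∃ Q : T → ZMod 2, ∀ u, Q u = eps (u ^ 2) := ⟨_, fun _ => rfl⟩
  have B_symm : ∀ u ∈ W, ∀ v ∈ W, B v u = B u v := by
    intro u hu v hv
    rw [hB, hB, ← commutatorElement_inv, eps_inv _ (comm_mem_Z h hu hv)]
  have B_mul : ∀ u ∈ W, ∀ v ∈ W, ∀ w ∈ W, B (u * v) w = B u w + B v w := by
    intro u hu v hv w hw
    have e : ⁅u * v, w⁆ = ⁅v, w⁆ * ⁅u, w⁆ := by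
      have hc := hcen _ (comm_mem_Z h hv hw) u hu
      have h0 : ⁅u * v, w⁆ = u * ⁅v, w⁆ * u⁻¹ * ⁅u, w⁆ := by simp only [commutatorElement_def]; group
      rw [h0, ← hc, mul_inv_cancel_right]
    rw [hB, hB, hB, e, eps_mul _ (comm_mem_Z h hv hw) _ (comm_mem_Z h hu hw), add_comm]
  have B_mul' : ∀ u ∈ W, ∀ v ∈ W, ∀ w ∈ W, B u (v * w) = B u v + B u w := by
    intro u hu v hv w hw
    rw [B_symm _ (W.mul_mem hv hw) _ hu, B_mul v hv w hw u hu, B_symm _ hu _ hv, B_symm _ hu _ hw]
  have B_cen : ∀ u, ∀ c, u * c = c * u → B u c = 0 := by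
    intro u c hc
    rw [hB, commutatorElement_eq_one_iff_mul_comm.2 hc, eps_one]
  have B_conj : ∀ t u v, B (t * u * t⁻¹) (t * v * t⁻¹) = B u v := by
    intro t u v
    rw [hB, hB, ← eps_conj t ⁅u, v⁆]
    congr 1
    simp only [commutatorElement_def]; group
  have Q_mul : ∀ u ∈ W, ∀ v ∈ W, Q (u * v) = Q u + Q v + B u v := by
    intro u hu v hv
    have e : (u * v) ^ 2 = u ^ 2 * (⁅u⁻¹, v⁆ * v ^ 2) := by
      simp only [commutatorElement_def, pow_two]; group
    have hB' : B u⁻¹ v = B u v := by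
      have := B_mul u⁻¹ (W.inv_mem hu) u hu v hv
      rw [inv_mul_cancel, B_symm v hv 1 W.one_mem, B_cen v 1 (by group)] at this
      exact zmod2_eq _ _ this
    rw [hQ, hQ, hQ, e, eps_mul _ (sq_mem_Z h hu) _
        ((Z 3).mul_mem (comm_mem_Z h (W.inv_mem hu) hv) (sq_mem_Z h hv)),
      eps_mul _ (comm_mem_Z h (W.inv_mem hu) hv) _ (sq_mem_Z h hv), ← hB u⁻¹ v, hB']
    ring
  -- the regular module
  have hrep : ∀ g : DihedralGroup 4, ∃ t, χ t = g := hχs
  choose rep hrep using hrep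
  have lam1 : lam 1 = 0 := by
    have := hadd 1 1
    rwa [mul_one, left_eq_add] at this
  have lam_conj : ∀ (t : T) (v w : W), lam (conjW h (t * v) w) = lam (conjW h t w) := by
    intro t v w
    rw [← conjW_conjW, conjW_coe, conjW_mul, conjW_mul, hadd, hadd, add_right_comm, ← hadd, ← conjW_mul,
      mul_inv_cancel, show conjW h t 1 = 1 by ext; simp [conjW], lam1, zero_add]
  have hclass : ∀ t u : T, χ t = χ u → ∃ v : W, u = t * v := by
    intro t u htu
    refine ⟨⟨t⁻¹ * u, ?_⟩, by simp⟩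
    rw [← hχk, MonoidHom.mem_ker, map_mul, map_inv, htu, inv_mul_cancel]
  let π : W → DihedralGroup 4 → ZMod 2 := fun w g => lam (conjW h (rep g) w)
  have πadd : ∀ u v, π (u * v) = π u + π v := by
    intro u v; funext g
    show lam _ = lam _ + lam _
    rw [conjW_mul, hadd]
  have πker : ∀ w, π w = 0 → w ∈ frattini ↥W := by
    intro w hw
    rw [← hker]
    intro t
    obtain ⟨v, hv⟩ := hclass (rep (χ t)) t (hrep _)
    rw [hv, lam_conj]
    exact congrFun hw (χ t)
  have πphi : ∀ w ∈ frattini ↥W, π w = 0 := fun w hw => funext fun g => (hker w).2 hw _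
  have π1 : π 1 = 0 := πphi 1 (Subgroup.one_mem _)
  have πsurj : ∀ f, ∃ w, π w = f := by
    let piQ : W ⧸ frattini ↥W → (DihedralGroup 4 → ZMod 2) := fun q => π q.out
    have hinj : Function.Injective piQ := by
      intro a b hab
      rw [← a.out_eq', ← b.out_eq', QuotientGroup.eq]
      refine πker _ ?_
      have hi := πadd a.out⁻¹ a.out
      rw [inv_mul_cancel, π1] at hi
      rw [πadd, ← (show π a.out = π b.out from hab), ← hi]
    have hsur := ((Nat.bijective_iff_injective_and_card piQ).2 ⟨hinj, by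
      rw [← Subgroup.index_eq_card, hFi, Nat.card_fun, Nat.card_zmod, DihedralGroup.nat_card]⟩).2
    exact fun f => ⟨_, (hsur f).choose_spec⟩
  obtain ⟨x1, hx1⟩ := πsurj (fun k => if k = 1 then 1 else 0)
  let y : DihedralGroup 4 → W := fun g => conjW h (rep g) x1
  have hπy : ∀ g k, π (y g) k = if k * g = 1 then 1 else 0 := by
    intro g k
    show lam (conjW h (rep k) (conjW h (rep g) x1)) = _
    rw [conjW_conjW]
    obtain ⟨v, hv⟩ := hclass (rep (k * g)) (rep k * rep g) (by rw [map_mul, hrep, hrep, hrep])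
    rw [hv, lam_conj]
    exact congrFun hx1 (k * g)
  -- the function `φ`
  obtain ⟨φ, hφ⟩ : ∃ φ : DihedralGroup 4 → ZMod 2, ∀ g, φ g = B x1 (y g) := ⟨_, fun _ => rfl⟩
  have hBx : ∀ (u v : T), χ u = χ v → ∀ w : W,
      B w (conjW h u x1) = B w (conjW h v x1) := by
    intro u v huv w
    obtain ⟨e, he⟩ := hclass v u huv.symm
    have hc : ⁅(e : T), (x1 : T)⁆ ∈ Z 3 := comm_mem_Z h e.2 x1.2
    have hcW := Z_le_W h (k := 3) (by omega) ((inferInstance : (Z 3).Normal).conj_mem _ hc v)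
    have h1 : (conjW h u x1 : T) = (v * ⁅(e : T), (x1 : T)⁆ * v⁻¹) * conjW h v x1 := by
      rw [he]
      simp only [conjW, commutatorElement_def]; group
    rw [h1, B_mul' _ w.2 _ hcW _ (conjW h v x1).2,
      B_cen _ _ (hcen _ ((inferInstance : (Z 3).Normal).conj_mem _ hc v) _ w.2).symm, zero_add]
  have hByy : ∀ g k, B (y g) (y k) = φ (g⁻¹ * k) := by
    intro g k
    have h1 : (y k : T) = rep g * (conjW h ((rep g)⁻¹ * rep k) x1 : T) * (rep g)⁻¹ := by
      simp only [y, conjW]; group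
    rw [h1, show (y g : T) = rep g * (x1 : T) * (rep g)⁻¹ from rfl, B_conj, hφ]
    exact hBx _ _ (by rw [map_mul, map_inv, hrep, hrep, hrep]) x1
  have φone : φ 1 = 0 := by
    rw [hφ, show y 1 = conjW h (rep 1) x1 from rfl, hBx _ 1 (by rw [hrep, map_one]) x1]
    exact B_cen _ _ (by simp [conjW])
  have φinv : ∀ g, φ g⁻¹ = φ g := by
    intro g
    have a := hByy g 1
    have b := hByy 1 g
    rw [mul_one] at a
    rw [inv_one, one_mul] at b
    rw [← a, ← b, B_symm _ (y 1).2 _ (y g).2]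
  have φzero : ∀ g, (g = r 2 ∨ g = sr 1 ∨ g = sr 3) → φ g = 0 := by
    intro g hg
    by_contra hne
    rw [hφ, hB, heps] at hne
    split_ifs at hne with hz
    · exact hne rfl
    have hc : ⁅(x1 : T), (y g : T)⁆ ∈ Z 3 := comm_mem_Z h x1.2 (y g).2
    refine hχf (rep g) (by rw [hrep]; exact hg) _ hc hz ?_
    have hgg : g * g = 1 := by rcases hg with rfl | rfl | rfl <;> decide
    have hWm : rep g * rep g ∈ W := by rw [← hχk, MonoidHom.mem_ker, map_mul, hrep, hgg]
    have hyW := (y g).2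
    have hd : ⁅(rep g * rep g : T), (x1 : T)⁆ ∈ Z 3 := comm_mem_Z h hWm x1.2
    have e1 : rep g * ⁅(x1 : T), (y g : T)⁆ * (rep g)⁻¹ =
        ⁅(y g : T), ⁅(rep g * rep g : T), (x1 : T)⁆ * (x1 : T)⁆ := by
      simp only [y, conjW, commutatorElement_def]; group
    have e2 : ⁅(y g : T), ⁅(rep g * rep g : T), (x1 : T)⁆ * (x1 : T)⁆ = ⁅(y g : T), (x1 : T)⁆ :=
      comm_mul_central (hcen _ hd _ hyW) (hcen _ hd _ x1.2)
    rw [e1, e2, ← commutatorElement_inv]
    exact inv_eq_of_mul_eq_one_right (by rw [← pow_two, sq_eq_one h _ hc])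
  -- products
  let P : List (DihedralGroup 4) → W := fun L => (L.map y).prod
  have hP0 : ((P [] : W) : T) = 1 := rfl
  have hPc : ∀ g L, ((P (g :: L) : W) : T) = (y g : T) * (P L : T) := fun g L => rfl
  have hBP1 : ∀ g M, B (y g) (P M) = (M.map fun k => φ (g⁻¹ * k)).sum := by
    intro g M
    induction M with
    | nil => rw [hP0]; exact B_cen _ _ (by group)
    | cons k M ih => rw [hPc, B_mul' _ (y g).2 _ (y k).2 _ (P M).2, ih, hByy, List.map_cons, List.sum_cons]
  have hBP : ∀ L M, B (P L) (P M) = bL φ L M := by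
    intro L M
    induction L with
    | nil => rw [hP0, B_symm _ (P M).2 _ W.one_mem, B_cen _ _ (by group)]; rfl
    | cons g L ih => rw [hPc, B_mul _ (y g).2 _ (P L).2 _ (P M).2, ih, hBP1]; rfl
  have hQy : ∀ g, Q (y g) = Q x1 := by
    intro g
    rw [hQ, hQ, ← eps_conj (rep g) ((x1 : T) ^ 2), ← conj_pow]; rfl
  have hQP : ∀ L, Q (P L) = qL φ (Q x1) L := by
    intro L
    induction L with
    | nil => rw [hP0, hQ, one_pow, eps_one]; rfl
    | cons g L ih => rw [hPc, Q_mul _ (y g).2 _ (P L).2, ih, hQy, hBP1]; rfl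
  have hπP : ∀ L k, π (P L) k = (L.map fun g => if k * g = 1 then (1 : ZMod 2) else 0).sum := by
    intro L k
    induction L with
    | nil => exact congrFun π1 k
    | cons g L ih =>
      show π (y g * P L) k = _
      rw [πadd, Pi.add_apply, hπy, ih, List.map_cons, List.sum_cons]
  -- the radical vector gives the last relation
  obtain ⟨s, hs4, hs3⟩ := SetLike.exists_of_lt (show Z 3 < Z 4 by
    refine lt_of_le_of_ne (Subgroup.upperCentralSeries_mono T (by omega)) fun he => ?_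
    have := h.hb
    rw [← he, card_Z h (by omega)] at this
    omega)
  set sW : W := ⟨s, Z_le_W h (k := 4) le_rfl hs4⟩ with hsW
  have hπs : ∀ k, π sW k = lam sW := by
    intro k
    have h1 : sW⁻¹ * conjW h (rep k) sW ∈ frattini ↥W := by
      rw [mem_frattini_iff h, Subgroup.coe_mul, Subgroup.coe_inv]
      show s⁻¹ * (rep k * s * (rep k)⁻¹) ∈ Z 3
      have := Subgroup.mem_upperCentralSeries_succ_iff.1 ((Z 4).inv_mem hs4) (rep k)
      simpa [commutatorElement_def, mul_assoc] using this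
    show lam (conjW h (rep k) sW) = _
    rw [show conjW h (rep k) sW = sW * (sW⁻¹ * conjW h (rep k) sW) by group, hadd]
    have h2 := (hker _).2 h1 1
    rw [show ∀ w : W, conjW h 1 w = w from fun w => by ext; simp [conjW]] at h2
    rw [h2, add_zero]
  have hls : lam sW = 1 := by
    rcases pw_cases (lam sW) with e | e
    · exact absurd ((mem_frattini_iff h).1 (πker sW (funext fun k => (hπs k).trans e))) hs3
    · exact e
  have hsum : bL φ [1] allD = 0 := by
    rw [← hBP]
    have hd : sW⁻¹ * P allD ∈ frattini ↥W := by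
      refine πker _ (funext fun k => ?_)
      have hi := congrFun (πadd sW⁻¹ sW) k
      rw [inv_mul_cancel, π1, Pi.add_apply, hπs, hls] at hi
      rw [πadd, Pi.add_apply, hπP, all_count]
      exact hi.symm
    have hd' := (mem_frattini_iff h).1 hd
    rw [Subgroup.coe_mul, Subgroup.coe_inv] at hd'
    have e : (P allD : T) = s * (s⁻¹ * (P allD : T)) := by group
    rw [e, B_mul' _ (P [1]).2 _ (Z_le_W h (k := 4) le_rfl hs4) _ (Z_le_W h (k := 3) (by omega) hd'),
      B_cen _ _ (hZ4 s hs4 _ (P [1]).2), B_cen _ _ (hcen _ hd' _ (P [1]).2).symm, add_zero]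
  have hφeq : φ = fab (φ (r 1)) (φ (sr 0)) := by
    have a1 : φ (r 3) = φ (r 1) := φinv (r 1)
    have a2 := φzero (r 2) (Or.inl rfl)
    have a3 := φzero (sr 1) (Or.inr (Or.inl rfl))
    have a4 := φzero (sr 3) (Or.inr (Or.inr rfl))
    have a0 : φ (r 0) = 0 := φone
    simp only [bL, allD, List.map_cons, List.map_nil, List.sum_cons, List.sum_nil, inv_one, one_mul,
      add_zero] at hsum
    rw [a0, a1, a2, a3, a4] at hsum
    have a5 : φ (sr 2) = φ (sr 0) := by
      exact sym_eq _ _ _ hsum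
    funext g
    rcases g with i | i <;> fin_cases i
    · exact a0
    · rfl
    · exact a2
    · exact a1
    · rfl
    · exact a3
    · exact a5
    · exact a4
  -- five commuting involutions modulo the second term
  set K2 : Subgroup W := (Z 2).subgroupOf W with hK2
  let q := QuotientGroup.mk' K2
  have hmem : ∀ c ∈ Z 3, eps c = 0 → c ∈ Z 2 := by
    intro c _ hc
    rw [heps] at hc
    split_ifs at hc with hh
    · exact hh
    · exact absurd hc one_ne_zero
  let a : Fin 5 → W ⧸ K2 := fun i => q (P (cert i))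
  have ha2 : ∀ i, a i ^ 2 = 1 := by
    intro i
    rw [← map_pow]
    refine (QuotientGroup.eq_one_iff _).2 ?_
    rw [hK2, Subgroup.mem_subgroupOf, SubgroupClass.coe_pow]
    refine hmem _ (sq_mem_Z h (P _).2) ?_
    rw [← hQ, hQP, hφeq]
    exact (cert_singular _ _ _ i i).1
  have hac : ∀ i j, Commute (a i) (a j) := by
    intro i j
    rw [← commutatorElement_eq_one_iff_commute, ← map_commutatorElement]
    refine (QuotientGroup.eq_one_iff _).2 ?_
    rw [hK2, Subgroup.mem_subgroupOf, show ((⁅P (cert i), P (cert j)⁆ : W) : T) =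
      ⁅(P (cert i) : T), (P (cert j) : T)⁆ from map_commutatorElement W.subtype _ _]
    refine hmem _ (comm_mem_Z h (P _).2 (P _).2) ?_
    rw [← hB, hBP, hφeq]
    exact (cert_singular _ _ 0 i j).2
  let F : (ZMod 2 × ZMod 2 × ZMod 2 × ZMod 2 × ZMod 2) → W ⧸ K2 := fun c =>
    pw (a 0) c.1 * (pw (a 1) c.2.1 * (pw (a 2) c.2.2.1 * (pw (a 3) c.2.2.2.1 * pw (a 4) c.2.2.2.2)))
  have hpc : ∀ i j (m n : ZMod 2), Commute (pw (a i) m) (pw (a j) n) := fun i j m n => (hac i j).pow_pow _ _
  have hFadd : ∀ c d, F (c + d) = F c * F d := by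
    intro c d
    simp only [F, Prod.fst_add, Prod.snd_add, pw_add (ha2 _)]
    rw [(hpc 3 4 _ _).mul_mul_mul_comm, ((hpc 2 3 _ _).mul_right (hpc 2 4 _ _)).mul_mul_mul_comm,
      ((hpc 1 2 _ _).mul_right ((hpc 1 3 _ _).mul_right (hpc 1 4 _ _))).mul_mul_mul_comm,
      ((hpc 0 1 _ _).mul_right ((hpc 0 2 _ _).mul_right ((hpc 0 3 _ _).mul_right (hpc 0 4 _ _)))).mul_mul_mul_comm]
  let ψ : Multiplicative (ZMod 2 × ZMod 2 × ZMod 2 × ZMod 2 × ZMod 2) →* W ⧸ K2 :=
    MonoidHom.mk' (fun c => F c.toAdd) fun c d => hFadd _ _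
  let piH : W →* Multiplicative (DihedralGroup 4 → ZMod 2) :=
    MonoidHom.mk' (fun w => Multiplicative.ofAdd (π w)) fun u v => by rw [πadd]; rfl
  have hK2F : K2 ≤ frattini ↥W := fun w hw => (mem_frattini_iff h).2 (h23 (Subgroup.mem_subgroupOf.1 hw))
  let πb : W ⧸ K2 →* Multiplicative (DihedralGroup 4 → ZMod 2) :=
    QuotientGroup.lift K2 piH fun w hw => by
      rw [MonoidHom.mem_ker, MonoidHom.mk'_apply, πphi w (hK2F hw)]; rfl
  have hπF : ∀ c k, Multiplicative.toAdd (πb (F c)) k =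
      c.1 * ((cert 0).map fun g => if k * g = 1 then (1 : ZMod 2) else 0).sum
      + c.2.1 * ((cert 1).map fun g => if k * g = 1 then (1 : ZMod 2) else 0).sum
      + c.2.2.1 * ((cert 2).map fun g => if k * g = 1 then (1 : ZMod 2) else 0).sum
      + c.2.2.2.1 * ((cert 3).map fun g => if k * g = 1 then (1 : ZMod 2) else 0).sum
      + c.2.2.2.2 * ((cert 4).map fun g => if k * g = 1 then (1 : ZMod 2) else 0).sum := by
    intro c k
    have hi : ∀ i m, Multiplicative.toAdd (πb (pw (a i) m)) k =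
        m * ((cert i).map fun g => if k * g = 1 then (1 : ZMod 2) else 0).sum := by
      intro i m
      rcases pw_cases m with rfl | rfl
      · rw [pw_zero, map_one, zero_mul]; rfl
      · rw [pw_one, one_mul, ← hπP]; rfl
    simp only [F, map_mul, toAdd_mul, Pi.add_apply, hi, add_assoc]
  have hψ : ∀ c, πb (ψ c) = 1 → c = 1 := by
    intro c hc
    have hz := fun k => (hπF c.toAdd k).symm.trans (congrFun (congrArg Multiplicative.toAdd hc) k)
    obtain ⟨e0, e1, e2, e3, e4⟩ := cert_indep _ _ _ _ _ hz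
    exact Multiplicative.toAdd.injective (Prod.ext e0 (Prod.ext e1 (Prod.ext e2 (Prod.ext e3 e4))))
  have hψinj : Function.Injective ψ := (injective_iff_map_eq_one ψ).2 fun c hc => hψ c (by rw [hc, map_one])
  have hidx : (ψ.range.comap q).index = 16 := by
    rw [Subgroup.index_comap_of_surjective _ (QuotientGroup.mk'_surjective K2)]
    have hr : Nat.card ψ.range = 32 := by
      rw [← Nat.card_congr (MonoidHom.ofInjective hψinj).toEquiv]
      simp [Nat.card_prod]
    have hK2c : Nat.card K2 = 4 := by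
      rw [hK2, Nat.card_congr (Subgroup.subgroupOfEquivOfLe (Z_le_W h (k := 2) (by omega))).toEquiv,
        card_Z h (by omega)]
      norm_num
    have e1 := ψ.range.card_mul_index
    have e2 := K2.card_mul_index
    rw [K2.index_eq_card, hK2c, hWc] at e2
    rw [hr] at e1
    omega
  set x3W : W := ⟨x3, Z_le_W h (k := 3) (by omega) h3.1⟩ with hx3W
  have hx3F : x3W ∈ frattini ↥W := (mem_frattini_iff h).2 h3.1
  obtain ⟨c, hc⟩ := h.hd _ hidx.le hx3F
  have : πb (q x3W) = 1 := by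
    show Multiplicative.ofAdd (π x3W) = 1
    rw [πphi _ hx3F]; rfl
  rw [← hc] at this
  rw [hψ c this, map_one, eq_comm] at hc
  exact h3.2 (Subgroup.mem_subgroupOf.1 ((QuotientGroup.eq_one_iff x3W).1 hc))

end Cfsg.Agent.H46.BigTwo
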