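import Mathlib.Algebra.Field.ZMod
import Mathlib.Data.ZMod.Basic
import Mathlib.GroupTheory.GroupAction.ConjAct
import Cfsg.Agent.PGroups.Basic

/-!
2-groups of order at least `2^14` with fourth upper central term of order 16 such that the centraliser
`W` of the third term has small Frattini subgroup: the upper central terms, the index of `W` and the
module structure of `W / Φ(W)`.
-/

set_option autoImplicit false

namespace Cfsg.Agent.H46.BigTwo

open scoped commutatorElement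

variable {T : Type*} [Group T]

section Generic

theorem double_mem_iff [Finite T] {A B : Subgroup T} (hAB : A ≤ B) (hcard : Nat.card B = 2 * Nat.card A)
    {x y : T} (hx : x ∈ B) (hy : y ∈ B) : x * y ∈ A ↔ (x ∈ A ↔ y ∈ A) := by
  have h : (A.subgroupOf B).index = 2 := by
    have h1 := (A.subgroupOf B).card_mul_index
    rw [Nat.card_congr (Subgroup.subgroupOfEquivOfLe hAB).toEquiv, hcard, mul_comm 2] at h1
    exact Nat.eq_of_mul_eq_mul_left Nat.card_pos h1
  have := Subgroup.mul_mem_iff_of_index_two h (a := ⟨x, hx⟩) (b := ⟨y, hy⟩)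
  simpa [Subgroup.mem_subgroupOf] using this

theorem le_of_double [Finite T] {A B S : Subgroup T} (hAB : A ≤ B) (hcard : Nat.card B = 2 * Nat.card A)
    (hAS : A ≤ S) {x : T} (hxB : x ∈ B) (hxA : x ∉ A) (hxS : x ∈ S) : B ≤ S := by
  intro y hy
  by_cases hyA : y ∈ A
  · exact hAS hyA
  have h := (double_mem_iff hAB hcard (B.inv_mem hxB) hy).2
    ⟨fun h => absurd (by simpa using A.inv_mem h) hxA, fun h => absurd h hyA⟩
  have h2 := S.mul_mem hxS (hAS h)
  simpa using h2

theorem comm_of_central {a b : T} (hc : ∀ g : T, g * ⁅a, b⁆ = ⁅a, b⁆ * g) :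
    ⁅a ^ 2, b⁆ = ⁅a, b⁆ ^ 2 := by
  have e : ⁅a ^ 2, b⁆ = a * ⁅a, b⁆ * a⁻¹ * ⁅a, b⁆ := by
    simp only [commutatorElement_def, pow_two]; group
  rw [e, hc a, pow_two]
  group

end Generic

/-- The hypotheses. -/
structure Cfg (T : Type*) [Group T] (W : Subgroup T) : Prop where
  hT : IsPGroup 2 T
  ha : 2 ^ 14 ≤ Nat.card T
  hb : Nat.card ↥(Subgroup.upperCentralSeries T 4) = 16
  hW : W = Subgroup.centralizer ((Subgroup.upperCentralSeries T 3 : Subgroup T) : Set T)
  hc : Nat.card ↥(frattini ↥W) ≤ 8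
  hd : ∀ U : Subgroup ↥W, U.index ≤ 16 → frattini ↥W ≤ U

local notation "Z" => Subgroup.upperCentralSeries T

variable [Finite T] {W : Subgroup T}

theorem card_Z (h : Cfg T W) {i : ℕ} (hi : i ≤ 4) : Nat.card (Z i) = 2 ^ i := by
  haveI : Fact (Nat.Prime 2) := ⟨Nat.prime_two⟩
  haveI := h.hT.isNilpotent
  have hlt : ∀ j < 4, Nat.card (Z j) < Nat.card (Z (j + 1)) := by
    intro j hj
    refine lt_of_le_of_ne (Subgroup.card_le_of_le (Subgroup.upperCentralSeries_mono T j.le_succ)) ?_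
    intro he
    have heq : Z j = Z (j + 1) :=
      Subgroup.eq_of_le_of_card_ge (Subgroup.upperCentralSeries_mono T j.le_succ) he.ge
    have htop := Subgroup.upperCentralSeries.eq_top (G := T) (Nat.ne_of_lt j.lt_succ_self) heq
    have h4 : Z 4 = ⊤ := top_le_iff.1 (htop ▸ Subgroup.upperCentralSeries_mono T hj.le)
    have := h.hb
    rw [h4, Subgroup.card_top] at this
    have := h.ha
    omega
  have hex : ∀ j, ∃ a, Nat.card (Z j) = 2 ^ a := fun j => IsPGroup.iff_card.1 (h.hT.to_subgroup _)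
  choose a haa using hex
  have h0 : a 0 = 0 := by
    have := haa 0
    rw [Subgroup.upperCentralSeries_zero, Subgroup.card_bot] at this
    rcases Nat.eq_zero_or_pos (a 0) with hz | hz
    · exact hz
    · have := Nat.one_lt_pow hz.ne' (one_lt_two); omega
  have h4 : a 4 = 4 := by
    have := haa 4
    rw [h.hb] at this
    exact (Nat.pow_right_injective le_rfl (show 2 ^ 4 = 2 ^ a 4 by simpa using this)).symm
  have hs : ∀ j < 4, a j < a (j + 1) := by
    intro j hj
    have := hlt j hj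
    rw [haa, haa] at this
    exact (Nat.pow_lt_pow_iff_right one_lt_two).1 this
  have e0 : a 0 < a 1 := hs 0 (by omega)
  have e1 : a 1 < a 2 := hs 1 (by omega)
  have e2 : a 2 < a 3 := hs 2 (by omega)
  have e3 : a 3 < a 4 := hs 3 (by omega)
  rw [haa]
  congr 1
  interval_cases i <;> omega

theorem normal_le (h : Cfg T W) : ∀ (k : ℕ) (N : Subgroup T), N.Normal → Nat.card N = 2 ^ k → N ≤ Z k := by
  haveI : Fact (Nat.Prime 2) := ⟨Nat.prime_two⟩
  intro k
  induction k with
  | zero => intro N _ hN; rw [pow_zero] at hN; rw [Subgroup.card_eq_one.1 hN]; exact bot_le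
  | succ k ih =>
    intro N hN hc x hx
    haveI := hN
    obtain ⟨M, hMn, hMN, hMc⟩ := PGroups.exists_normal_card_le h.hT N k
      (by rw [hc]; exact Nat.pow_le_pow_right two_pos k.le_succ)
    haveI := hMn
    have hM := ih M hMn hMc
    haveI : (N.map (QuotientGroup.mk' M)).Normal :=
      Subgroup.Normal.map hN _ (QuotientGroup.mk'_surjective M)
    have hcard : Nat.card (N.map (QuotientGroup.mk' M)) = 2 := by
      have h1 : (N.map (QuotientGroup.mk' M)).comap (QuotientGroup.mk' M) = N := by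
        rw [Subgroup.comap_map_eq, QuotientGroup.ker_mk', sup_eq_left.mpr hMN]
      have hidx : N.index = (N.map (QuotientGroup.mk' M)).index := by
        conv_lhs => rw [← h1]
        exact Subgroup.index_comap_of_surjective _ (QuotientGroup.mk'_surjective M)
      have e1 := N.card_mul_index
      have e2 := (N.map (QuotientGroup.mk' M)).card_mul_index
      have e3 := M.card_mul_index
      rw [M.index_eq_card] at e3
      rw [← e3, ← e2, hidx, hMc, hc] at e1
      have hpos : 0 < (N.map (QuotientGroup.mk' M)).index :=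
        Nat.pos_of_ne_zero Subgroup.index_ne_zero_of_finite
      rw [← mul_assoc, pow_succ] at e1
      exact (Nat.eq_of_mul_eq_mul_left (pow_pos two_pos k) (Nat.eq_of_mul_eq_mul_right hpos e1)).symm
    have hcen := PGroups.le_center_of_card_eq (h.hT.to_quotient M) _ hcard
      (Subgroup.mem_map_of_mem (QuotientGroup.mk' M) hx)
    rw [Subgroup.mem_upperCentralSeries_succ_iff]
    intro y
    apply hM
    rw [← QuotientGroup.eq_one_iff, ← QuotientGroup.mk'_apply, map_commutatorElement,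
      commutatorElement_eq_one_iff_mul_comm]
    exact (Subgroup.mem_center_iff.1 hcen (QuotientGroup.mk' M y)).symm

theorem normal_eq (h : Cfg T W) {k : ℕ} (hk : k ≤ 4) (N : Subgroup T) [N.Normal] (hN : Nat.card N = 2 ^ k) :
    N = Z k :=
  Subgroup.eq_of_le_of_card_ge (normal_le h k N ‹_› hN) (by rw [card_Z h hk, hN])

theorem normal_ge (h : Cfg T W) {k : ℕ} (hk : k ≤ 4) (N : Subgroup T) [N.Normal] (hN : 2 ^ k ≤ Nat.card N) :
    Z k ≤ N := by
  haveI : Fact (Nat.Prime 2) := ⟨Nat.prime_two⟩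
  obtain ⟨M, hMn, hMN, hMc⟩ := PGroups.exists_normal_card_le h.hT N k hN
  exact (normal_eq h hk M hMc).ge.trans hMN

theorem W_normal (h : Cfg T W) : W.Normal := by
  rw [h.hW]
  constructor
  intro n hn g
  rw [Subgroup.mem_centralizer_iff] at hn ⊢
  intro z hz
  have h1 := hn (g⁻¹ * z * g) (by
    have := (inferInstance : (Z 3).Normal).conj_mem z hz g⁻¹
    simpa using this)
  calc z * (g * n * g⁻¹) = g * ((g⁻¹ * z * g) * n) * g⁻¹ := by group
    _ = g * (n * (g⁻¹ * z * g)) * g⁻¹ := by rw [h1]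
    _ = (g * n * g⁻¹) * z := by group

theorem mem_W_iff (h : Cfg T W) {w : T} : w ∈ W ↔ ∀ z ∈ Z 3, z * w = w * z := by
  rw [h.hW, Subgroup.mem_centralizer_iff]; rfl

theorem index_centralizer_le (i : ℕ) {x : T} (hx : x ∈ Z (i + 1)) :
    (Subgroup.centralizer ({x} : Set T)).index ≤ Nat.card (Z i) := by
  rw [Subgroup.index_eq_card]
  refine Nat.card_le_card_of_injective
    (fun q => (⟨⁅x, q.out⁆, Subgroup.mem_upperCentralSeries_succ_iff.1 hx q.out⟩ : ↥(Z i))) ?_
  intro q r hqr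
  have e : ⁅x, q.out⁆ = ⁅x, r.out⁆ := congrArg Subtype.val hqr
  rw [← q.out_eq', ← r.out_eq', QuotientGroup.eq, Subgroup.mem_centralizer_singleton_iff]
  generalize q.out = a at e ⊢
  generalize r.out = b at e ⊢
  simp only [commutatorElement_def, mul_assoc, mul_right_inj] at e
  have h2 : x⁻¹ * (a⁻¹ * b) = (a⁻¹ * b) * x⁻¹ := by
    calc x⁻¹ * (a⁻¹ * b) = a⁻¹ * (a * (x⁻¹ * a⁻¹)) * b := by group
      _ = a⁻¹ * (b * (x⁻¹ * b⁻¹)) * b := by rw [e]
      _ = (a⁻¹ * b) * x⁻¹ := by group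
  calc a⁻¹ * b * x = x * (x⁻¹ * (a⁻¹ * b)) * x := by group
    _ = x * ((a⁻¹ * b) * x⁻¹) * x := by rw [h2]
    _ = x * (a⁻¹ * b) := by group

theorem exists_x2x3 (h : Cfg T W) : ∃ x2 x3 : T, (x2 ∈ Z 2 ∧ x2 ∉ Z 1) ∧ (x3 ∈ Z 3 ∧ x3 ∉ Z 2) := by
  have aux : ∀ i < 4, ∃ x, x ∈ Z (i + 1) ∧ x ∉ Z i := by
    intro i hi
    refine SetLike.exists_of_lt (lt_of_le_of_ne (Subgroup.upperCentralSeries_mono T i.le_succ) fun he => ?_)
    have h1 := card_Z h (i := i) (by omega)
    rw [he, card_Z h (by omega)] at h1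
    exact absurd (Nat.pow_right_injective le_rfl h1) (by omega)
  obtain ⟨x2, h2⟩ := aux 1 (by omega)
  obtain ⟨x3, h3⟩ := aux 2 (by omega)
  exact ⟨x2, x3, h2, h3⟩

theorem Z3_le_of (h : Cfg T W) {x2 x3 : T} (h2 : x2 ∈ Z 2 ∧ x2 ∉ Z 1) (h3 : x3 ∈ Z 3 ∧ x3 ∉ Z 2)
    {S : Subgroup T} (hS : Z 1 ≤ S) (hx2 : x2 ∈ S) (hx3 : x3 ∈ S) : Z 3 ≤ S := by
  have hZ2 : Z 2 ≤ S := le_of_double (Subgroup.upperCentralSeries_mono T (by omega : 1 ≤ 2))
    (by rw [card_Z h (by omega), card_Z h (by omega)]; norm_num) hS h2.1 h2.2 hx2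
  exact le_of_double (Subgroup.upperCentralSeries_mono T (by omega : 2 ≤ 3))
    (by rw [card_Z h (by omega), card_Z h (by omega)]; norm_num) hZ2 h3.1 h3.2 hx3

theorem W_eq_inf (h : Cfg T W) {x2 x3 : T} (h2 : x2 ∈ Z 2 ∧ x2 ∉ Z 1) (h3 : x3 ∈ Z 3 ∧ x3 ∉ Z 2) :
    W = Subgroup.centralizer {x2} ⊓ Subgroup.centralizer {x3} := by
  ext w
  constructor
  · intro hw
    have hw' := (mem_W_iff h).1 hw
    exact ⟨Subgroup.mem_centralizer_singleton_iff.2
        (hw' x2 (Subgroup.upperCentralSeries_mono T (by omega : 2 ≤ 3) h2.1)).symm,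
      Subgroup.mem_centralizer_singleton_iff.2 (hw' x3 h3.1).symm⟩
  · rintro ⟨hw2, hw3⟩
    rw [mem_W_iff h]
    intro z hz
    have hle : Z 3 ≤ Subgroup.centralizer ({w} : Set T) := by
      refine Z3_le_of h h2 h3 ?_ ?_ ?_
      · rw [Subgroup.upperCentralSeries_one]
        exact fun u hu => Subgroup.mem_centralizer_singleton_iff.2 (Subgroup.mem_center_iff.1 hu w).symm
      · exact Subgroup.mem_centralizer_singleton_iff.2 (Subgroup.mem_centralizer_singleton_iff.1 hw2).symm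
      · exact Subgroup.mem_centralizer_singleton_iff.2 (Subgroup.mem_centralizer_singleton_iff.1 hw3).symm
    exact Subgroup.mem_centralizer_singleton_iff.1 (hle hz)

theorem index_W_le (h : Cfg T W) : W.index ≤ 8 := by
  obtain ⟨x2, x3, h2, h3⟩ := exists_x2x3 h
  rw [W_eq_inf h h2 h3]
  refine Subgroup.index_inf_le.trans ?_
  have i2 := index_centralizer_le 1 h2.1
  have i3 := index_centralizer_le 2 h3.1
  rw [card_Z h (by omega)] at i2 i3
  calc _ ≤ 2 ^ 1 * 2 ^ 2 := Nat.mul_le_mul i2 i3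
    _ = 8 := by norm_num

theorem card_W_ge (h : Cfg T W) : 2 ^ 11 ≤ Nat.card W := by
  have h1 := W.card_mul_index
  have h2 := h.ha
  have h3 := index_W_le h
  by_contra hlt
  push Not at hlt
  have : Nat.card W * W.index < 2 ^ 11 * 8 :=
    lt_of_le_of_lt (Nat.mul_le_mul_left _ h3) (by omega)
  omega

/-- Conjugation of an element of `W`. -/
def conjW (h : Cfg T W) (t : T) (w : W) : W :=
  ⟨t * (w : T) * t⁻¹, (W_normal h).conj_mem _ w.2 t⟩

theorem conjW_mul (h : Cfg T W) (t : T) (u v : W) : conjW h t (u * v) = conjW h t u * conjW h t v := by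
  ext; simp [conjW]

theorem conjW_conjW (h : Cfg T W) (t u : T) (w : W) : conjW h t (conjW h u w) = conjW h (t * u) w := by
  ext; simp [conjW, mul_assoc]

theorem conjW_coe (h : Cfg T W) (v w : W) : conjW h (v : T) w = v * w * v⁻¹ := by
  ext; simp [conjW]

theorem phi_normal (h : Cfg T W) : ((frattini ↥W).map W.subtype).Normal := by
  haveI := W_normal h
  infer_instance

theorem conjW_mem_frattini (h : Cfg T W) (t : T) {w : W} (hw : w ∈ frattini ↥W) :
    conjW h t w ∈ frattini ↥W := by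
  obtain ⟨v, hv, he⟩ := (phi_normal h).conj_mem _ (Subgroup.mem_map_of_mem W.subtype hw) t
  have : v = conjW h t w := Subtype.ext he
  exact this ▸ hv

theorem card_phi : Nat.card ((frattini ↥W).map W.subtype) = Nat.card (frattini ↥W) :=
  Subgroup.card_map_of_injective Subtype.val_injective

theorem index_frattini_le (h : Cfg T W) :
    ∃ lam : W → ZMod 2, (∀ u v, lam (u * v) = lam u + lam v) ∧
      (∀ w, (∀ t : T, lam (conjW h t w) = 0) ↔ w ∈ frattini ↥W) ∧
      (frattini ↥W).index ≤ 2 ^ W.index := by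
  classical
  haveI : Fact (Nat.Prime 2) := ⟨Nat.prime_two⟩
  haveI := phi_normal h
  set P := (frattini ↥W).map W.subtype with hP
  obtain ⟨k, hk⟩ : ∃ k, Nat.card P = 2 ^ k := IsPGroup.iff_card.1 (h.hT.to_subgroup _)
  have hk3 : k ≤ 3 := by
    have := h.hc
    rw [← card_phi, ← hP, hk] at this
    exact (Nat.pow_le_pow_iff_right one_lt_two).1 (show 2 ^ k ≤ 2 ^ 3 from this)
  have hPk : P = Z k := normal_eq h (by omega) P hk
  haveI := W_normal h
  have hZW : Z (k + 1) ≤ W := normal_ge h (by omega) W (le_trans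
    (Nat.pow_le_pow_right two_pos (by omega)) (card_W_ge h))
  obtain ⟨s, hs1, hs0⟩ := SetLike.exists_of_lt (show P < Z (k + 1) by
    rw [hPk]
    refine lt_of_le_of_ne (Subgroup.upperCentralSeries_mono T k.le_succ) fun he => ?_
    have h1 := card_Z h (i := k) (by omega)
    rw [he, card_Z h (by omega)] at h1
    exact absurd (Nat.pow_right_injective le_rfl h1) (by omega))
  have hsF : (⟨s, hZW hs1⟩ : W) ∉ frattini ↥W := fun hh => hs0 (Subgroup.mem_map_of_mem W.subtype hh)
  simp only [frattini, Order.radical, Subgroup.mem_iInf, not_forall] at hsF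
  obtain ⟨M, hM, hsM⟩ := hsF
  have hMi := PGroups.index_eq_of_isCoatom (h.hT.to_subgroup W) hM
  obtain ⟨lam, hlam⟩ : ∃ lam : W → ZMod 2, ∀ w, lam w = if w ∈ M then 0 else 1 := ⟨_, fun _ => rfl⟩
  have hadd : ∀ u v, lam (u * v) = lam u + lam v := by
    intro u v
    have := Subgroup.mul_mem_iff_of_index_two hMi (a := u) (b := v)
    rw [hlam, hlam, hlam]
    by_cases hu : u ∈ M <;> by_cases hv : v ∈ M <;> simp_all
    exact (show (0 : ZMod 2) = 1 + 1 from rfl)
  have h0 : lam 1 = 0 := by rw [hlam, if_pos M.one_mem]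
  have hinv : ∀ v w : W, lam (v * w * v⁻¹) = lam w := by
    intro v w
    have hc : lam v + lam v⁻¹ = 0 := by rw [← hadd, mul_inv_cancel, h0]
    rw [hadd, hadd, add_right_comm, hc, zero_add]
  let N : Subgroup T :=
    { carrier := {x | ∃ hx : x ∈ W, ∀ t : T, lam (conjW h t ⟨x, hx⟩) = 0}
      one_mem' := ⟨W.one_mem, fun t => by
        rw [show conjW h t ⟨1, W.one_mem⟩ = 1 by ext; simp [conjW]]; exact h0⟩
      mul_mem' := by
        rintro x y ⟨hx, hx'⟩ ⟨hy, hy'⟩
        refine ⟨W.mul_mem hx hy, fun t => ?_⟩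
        rw [show (⟨x * y, W.mul_mem hx hy⟩ : W) = ⟨x, hx⟩ * ⟨y, hy⟩ from rfl, conjW_mul, hadd, hx', hy',
          add_zero]
      inv_mem' := by
        rintro x ⟨hx, hx'⟩
        refine ⟨W.inv_mem hx, fun t => ?_⟩
        have := hadd (conjW h t ⟨x, hx⟩) (conjW h t ⟨x⁻¹, W.inv_mem hx⟩)
        rw [← conjW_mul, show (⟨x, hx⟩ : W) * ⟨x⁻¹, W.inv_mem hx⟩ = 1 from mul_inv_cancel _,
          show conjW h t 1 = 1 by ext; simp [conjW], h0, hx', zero_add] at this
        exact this.symm }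
  have hNn : N.Normal := by
    constructor
    rintro x ⟨hx, hx'⟩ g
    refine ⟨(W_normal h).conj_mem x hx g, fun t => ?_⟩
    have := hx' (t * g)
    rwa [← conjW_conjW] at this
  have hker : ∀ w : W, (∀ t : T, lam (conjW h t w) = 0) ↔ w ∈ frattini ↥W := by
    intro w
    constructor
    · intro hw
      by_contra hwF
      have hwN : (w : T) ∈ N := ⟨w.2, hw⟩
      have hwP : (w : T) ∉ P := fun ⟨v, hv, he⟩ => hwF (Subtype.ext he ▸ hv)
      haveI := hNn
      have hPN : P ≤ N := by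
        rintro _ ⟨v, hv, rfl⟩
        refine ⟨v.2, fun t => ?_⟩
        show lam (conjW h t v) = 0
        rw [hlam, if_pos (frattini_le_coatom hM (conjW_mem_frattini h t hv))]
      have hlt : P < N := lt_of_le_of_ne hPN fun he => hwP (he ▸ hwN)
      obtain ⟨j, hj⟩ : ∃ j, Nat.card N = 2 ^ j := IsPGroup.iff_card.1 (h.hT.to_subgroup _)
      have hkj : k < j := by
        by_contra hle
        push Not at hle
        refine hlt.ne (Subgroup.eq_of_le_of_card_ge hPN ?_)
        rw [hj, hk]; exact Nat.pow_le_pow_right two_pos hle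
      obtain ⟨hsW, hs'⟩ := normal_ge h (k := k + 1) (by omega) N
        (hj ▸ Nat.pow_le_pow_right two_pos hkj) hs1
      have := hs' 1
      rw [show conjW h 1 ⟨s, hsW⟩ = ⟨s, hsW⟩ by ext; simp [conjW], hlam, if_neg hsM] at this
      exact one_ne_zero this
    · intro hw t
      rw [hlam, if_pos (frattini_le_coatom hM (conjW_mem_frattini h t hw))]
  refine ⟨lam, hadd, hker, ?_⟩
  rw [Subgroup.index_eq_card, Subgroup.index_eq_card]
  have hf : Nat.card (T ⧸ W → ZMod 2) = 2 ^ Nat.card (T ⧸ W) := by rw [Nat.card_fun, Nat.card_zmod]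
  rw [← hf]
  refine Nat.card_le_card_of_injective (fun q => fun τ : T ⧸ W => lam (conjW h τ.out q.out)) ?_
  intro a b hab
  rw [← a.out_eq', ← b.out_eq', QuotientGroup.eq]
  refine (hker _).1 fun t => ?_
  obtain ⟨v, hv⟩ := QuotientGroup.mk_out_eq_mul W t
  have e : ∀ w : W, lam (conjW h t w) = lam (conjW h (t : T ⧸ W).out w) := by
    intro w
    rw [hv, ← conjW_conjW, conjW_coe]
    simp only [conjW_mul, hadd]
    have hc : lam (conjW h t v) + lam (conjW h t v⁻¹) = 0 := by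
      rw [← hadd, ← conjW_mul, mul_inv_cancel, show conjW h t 1 = 1 by ext; simp [conjW], h0]
    rw [add_right_comm, hc, zero_add]
  have h1 := congrFun hab (t : T ⧸ W)
  simp only at h1
  rw [conjW_mul, hadd, e, e, ← h1]
  have := hadd (conjW h (t : T ⧸ W).out a.out⁻¹) (conjW h (t : T ⧸ W).out a.out)
  rw [← conjW_mul, inv_mul_cancel, show conjW h (t : T ⧸ W).out 1 = 1 by ext; simp [conjW], h0] at this
  exact this.symm

theorem basic (h : Cfg T W) : W.index = 8 ∧ Nat.card T = 2 ^ 14 ∧ Nat.card W = 2 ^ 11 ∧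
    Nat.card (frattini ↥W) = 8 ∧ (frattini ↥W).index = 2 ^ 8 := by
  obtain ⟨lam, -, -, hle⟩ := index_frattini_le h
  have h1 := W.card_mul_index
  have h2 := (frattini ↥W).card_mul_index
  have h3 := h.hc
  have h4 := index_W_le h
  have h5 := card_W_ge h
  have h6 : (frattini ↥W).index ≤ 2 ^ 8 := hle.trans (Nat.pow_le_pow_right two_pos h4)
  have h7 : Nat.card W ≤ 8 * 2 ^ 8 := h2 ▸ Nat.mul_le_mul h3 h6
  have hW11 : Nat.card W = 2 ^ 11 := by omega
  have hF : Nat.card (frattini ↥W) = 8 := by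
    by_contra hne
    have : Nat.card (frattini ↥W) * (frattini ↥W).index ≤ 7 * 2 ^ 8 := Nat.mul_le_mul (by omega) h6
    omega
  have hFi : (frattini ↥W).index = 2 ^ 8 := by rw [hF, hW11] at h2; omega
  have ha := h.ha
  have hWi : W.index = 8 := by rw [hW11] at h1; omega
  refine ⟨hWi, ?_, hW11, hF, hFi⟩
  rw [← h1, hW11, hWi]
  norm_num

theorem phi_eq (h : Cfg T W) : (frattini ↥W).map W.subtype = Z 3 := by
  haveI := phi_normal h
  exact normal_eq h (by omega) _ (by rw [card_phi, (basic h).2.2.2.1]; norm_num)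

theorem Z_le_W (h : Cfg T W) {k : ℕ} (hk : k ≤ 4) : Z k ≤ W := by
  haveI := W_normal h
  exact normal_ge h hk W (le_trans (Nat.pow_le_pow_right two_pos (by omega)) (card_W_ge h))

theorem mem_frattini_iff (h : Cfg T W) {w : W} : w ∈ frattini ↥W ↔ (w : T) ∈ Z 3 := by
  rw [← phi_eq h]
  exact ⟨fun hw => Subgroup.mem_map_of_mem W.subtype hw, fun ⟨v, hv, he⟩ => Subtype.ext he ▸ hv⟩

theorem frattini_le_center (h : Cfg T W) : frattini ↥W ≤ Subgroup.center ↥W := by
  intro z hz
  rw [Subgroup.mem_center_iff]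
  intro g
  exact Subtype.ext ((mem_W_iff h).1 g.2 _ ((mem_frattini_iff h).1 hz)).symm

theorem sq_mem_Z (h : Cfg T W) {x : T} (hx : x ∈ W) : x ^ 2 ∈ Z 3 := by
  haveI : Fact (Nat.Prime 2) := ⟨Nat.prime_two⟩
  have h1 := (mem_frattini_iff h).1
    (PGroups.pow_mem_frattini (G := ↥W) (p := 2) (h.hT.to_subgroup W) ⟨x, hx⟩)
  rwa [SubgroupClass.coe_pow] at h1

theorem comm_mem_Z (h : Cfg T W) {x y : T} (hx : x ∈ W) (hy : y ∈ W) : ⁅x, y⁆ ∈ Z 3 := by
  haveI : Fact (Nat.Prime 2) := ⟨Nat.prime_two⟩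
  have h0 : ⁅(⟨x, hx⟩ : W), (⟨y, hy⟩ : W)⁆ ∈ commutator ↥W :=
    Subgroup.commutator_mem_commutator (Subgroup.mem_top _) (Subgroup.mem_top _)
  have h1 := (mem_frattini_iff h).1
    (PGroups.commutator_le_frattini (G := ↥W) (p := 2) (h.hT.to_subgroup W) h0)
  rwa [show ((⁅(⟨x, hx⟩ : W), (⟨y, hy⟩ : W)⁆ : W) : T) = ⁅x, y⁆ from
    map_commutatorElement W.subtype _ _] at h1

end Cfsg.Agent.H46.BigTwo
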