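import Cfsg.Agent.H46.BigTwoCore

/-!
In the configuration of `BigTwoCore` the derived group of `W` is the third upper central term, which is
elementary abelian.
-/

set_option autoImplicit false

namespace Cfsg.Agent.H46.BigTwo

open scoped commutatorElement

variable {T : Type*} [Group T] [Finite T] {W : Subgroup T}

local notation "Z" => Subgroup.upperCentralSeries T

theorem derived_eq (h : Cfg T W) : (commutator ↥W).map W.subtype = Z 3 := by
  classical
  haveI : Fact (Nat.Prime 2) := ⟨Nat.prime_two⟩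
  haveI := W_normal h
  set C := (commutator ↥W).map W.subtype with hC
  have hCn : C.Normal := inferInstance
  have hCle : C ≤ Z 3 := by
    rw [← phi_eq h]
    exact Subgroup.map_mono (PGroups.commutator_le_frattini (h.hT.to_subgroup W))
  obtain ⟨k, hk⟩ : ∃ k, Nat.card C = 2 ^ k := IsPGroup.iff_card.1 (h.hT.to_subgroup _)
  rcases Nat.lt_or_ge k 3 with hk2 | hk3
  swap
  · exact Subgroup.eq_of_le_of_card_ge hCle
      (by rw [card_Z h (by omega), hk]; exact Nat.pow_le_pow_right two_pos hk3)
  exfalso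
  have hC2 : C ≤ Z 2 := (normal_le h k C hCn hk).trans (Subgroup.upperCentralSeries_mono T (by omega))
  set K2 : Subgroup W := (Z 2).subgroupOf W with hK2
  have hcomm : ∀ a b : W ⧸ K2, Commute a b := by
    intro a b
    obtain ⟨a, rfl⟩ := QuotientGroup.mk_surjective a
    obtain ⟨b, rfl⟩ := QuotientGroup.mk_surjective b
    rw [← commutatorElement_eq_one_iff_commute]
    show ⁅QuotientGroup.mk' K2 a, QuotientGroup.mk' K2 b⁆ = 1
    rw [← map_commutatorElement]
    exact (QuotientGroup.eq_one_iff _).2 (hC2 (Subgroup.mem_map_of_mem W.subtype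
      (Subgroup.commutator_mem_commutator (Subgroup.mem_top a) (Subgroup.mem_top b))))
  obtain ⟨x2, x3, -, h3⟩ := exists_x2x3 h
  set x : W := ⟨x3, Z_le_W h (by omega) h3.1⟩ with hx
  set c := QuotientGroup.mk' K2 x with hc
  have hZ : Z 2 ≤ Z 3 := Subgroup.upperCentralSeries_mono T (by omega)
  have hcard : Nat.card (Z 3) = 2 * Nat.card (Z 2) := by
    rw [card_Z h (by omega), card_Z h (by omega)]; norm_num
  let sq : W ⧸ K2 →* W ⧸ K2 :=
    { toFun := fun a => a ^ 2, map_one' := one_pow 2, map_mul' := fun a b => (hcomm a b).mul_pow 2 }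
  have hcK : c ∈ sq.ker := by
    show c ^ 2 = 1
    rw [hc, ← map_pow]
    refine (QuotientGroup.eq_one_iff _).2 ?_
    rw [hK2, Subgroup.mem_subgroupOf, SubgroupClass.coe_pow, pow_two]
    exact (double_mem_iff hZ hcard h3.1 h3.1).2 Iff.rfl
  have hker : sq.ker.index ≤ 2 := by
    rw [Subgroup.index_ker]
    refine le_trans (Nat.card_mono (Set.toFinite ({1, c⁻¹} : Set (W ⧸ K2))) ?_) ?_
    · rintro _ ⟨a, rfl⟩
      obtain ⟨a, rfl⟩ := QuotientGroup.mk_surjective a
      by_cases ha : (a : T) ^ 2 ∈ Z 2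
      · left
        show (QuotientGroup.mk' K2 a) ^ 2 = 1
        rw [← map_pow]
        exact (QuotientGroup.eq_one_iff _).2 (by rw [hK2, Subgroup.mem_subgroupOf, SubgroupClass.coe_pow]; exact ha)
      · right
        show (QuotientGroup.mk' K2 a) ^ 2 = c⁻¹
        rw [hc, ← mul_eq_one_iff_eq_inv, ← map_pow, ← map_mul]
        refine (QuotientGroup.eq_one_iff _).2 ?_
        rw [hK2, Subgroup.mem_subgroupOf, Subgroup.coe_mul, SubgroupClass.coe_pow]
        exact (double_mem_iff hZ hcard (sq_mem_Z h a.2) h3.1).2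
          ⟨fun hh => absurd hh ha, fun hh => absurd hh h3.2⟩
    · rw [Nat.card_coe_set_eq]
      exact (Set.ncard_insert_le _ _).trans (by rw [Set.ncard_singleton])
  have hKp : IsPGroup 2 sq.ker := ((h.hT.to_subgroup W).to_quotient K2).to_subgroup _
  have hfr : frattini sq.ker = ⊥ := by
    refine eq_bot_iff.2 (PGroups.frattini_le_of_commutator_le (p := 2) ⊥ ?_ fun a => ?_)
    · rw [commutator_def, Subgroup.commutator_le]
      intro a _ b _
      rw [Subgroup.mem_bot, commutatorElement_eq_one_iff_mul_comm]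
      exact Subtype.ext (hcomm a b).eq
    · rw [Subgroup.mem_bot]
      exact Subtype.ext a.2
  have hc1 : (⟨c, hcK⟩ : sq.ker) ∉ frattini sq.ker := by
    rw [hfr, Subgroup.mem_bot]
    intro hh
    exact h3.2 (Subgroup.mem_subgroupOf.1 ((QuotientGroup.eq_one_iff x).1 (congrArg Subtype.val hh)))
  simp only [frattini, Order.radical, Subgroup.mem_iInf, not_forall] at hc1
  obtain ⟨M, hM, hcM⟩ := hc1
  set U := (M.map sq.ker.subtype).comap (QuotientGroup.mk' K2) with hU
  have hidx : U.index ≤ 16 := by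
    rw [hU, Subgroup.index_comap_of_surjective _ (QuotientGroup.mk'_surjective K2), Subgroup.index_map_subtype,
      PGroups.index_eq_of_isCoatom hKp hM]
    omega
  have := h.hd U hidx ((mem_frattini_iff h).2 h3.1 : x ∈ frattini ↥W)
  obtain ⟨v, hv, he⟩ := this
  exact hcM ((Subtype.ext he : v = ⟨c, hcK⟩) ▸ hv)

theorem sq_eq_one (h : Cfg T W) : ∀ z ∈ Z 3, z ^ 2 = 1 := by
  intro z hz
  rw [← derived_eq h] at hz
  obtain ⟨w, hw, rfl⟩ := hz
  have hle : commutator ↥W ≤
      { carrier := {u : W | u ∈ Subgroup.center ↥W ∧ u ^ 2 = 1}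
        one_mem' := ⟨Subgroup.one_mem _, one_pow 2⟩
        mul_mem' := fun {a b} ha hb => ⟨Subgroup.mul_mem _ ha.1 hb.1, by
          rw [(show Commute a b from (Subgroup.mem_center_iff.1 hb.1 a)).mul_pow, ha.2, hb.2, mul_one]⟩
        inv_mem' := fun {a} ha => ⟨Subgroup.inv_mem _ ha.1, by rw [inv_pow, ha.2, inv_one]⟩ } := by
    rw [commutator_def, Subgroup.commutator_le]
    intro a _ b _
    haveI : Fact (Nat.Prime 2) := ⟨Nat.prime_two⟩
    have hP := h.hT.to_subgroup W
    have hab : ⁅a, b⁆ ∈ Subgroup.center ↥W := frattini_le_center h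
      (PGroups.commutator_le_frattini (p := 2) hP
        (Subgroup.commutator_mem_commutator (Subgroup.mem_top a) (Subgroup.mem_top b)))
    refine ⟨hab, ?_⟩
    rw [← comm_of_central (Subgroup.mem_center_iff.1 hab), commutatorElement_eq_one_iff_mul_comm]
    exact (Subgroup.mem_center_iff.1 (frattini_le_center h (PGroups.pow_mem_frattini hP a)) b).symm
  have := (hle hw).2
  rw [← map_pow, this, map_one]

end Cfsg.Agent.H46.BigTwo
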