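import Mathlib.GroupTheory.SpecificGroups.Dihedral
import Cfsg.Agent.H46.BigTwoDerived

/-!
In the configuration of `BigTwoCore` the quotient `T / W` is dihedral of order 8, `W / Φ(W)` is its regular
module, and a check of the quadratic form `W / Z₃ → Z₃ / Z₂` shows that the centre of `W` is `Z₃`.
-/

set_option autoImplicit false

namespace Cfsg.Agent.H46.BigTwo

open scoped commutatorElement
open DihedralGroup

variable {T : Type*} [Group T] [Finite T] {W : Subgroup T}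

local notation "Z" => Subgroup.upperCentralSeries T

/-- A power indexed by `ZMod 2`. -/
def pw {M : Type*} [Monoid M] (x : M) (a : ZMod 2) : M := x ^ a.val

theorem pw_add {M : Type*} [Monoid M] {x : M} (hx : x ^ 2 = 1) (a b : ZMod 2) :
    pw x (a + b) = pw x a * pw x b := by
  rw [pw, pw, pw, ZMod.val_add, ← pow_add]
  exact (pow_eq_pow_mod _ hx).symm

theorem pw_zero {M : Type*} [Monoid M] (x : M) : pw x 0 = 1 := by rw [pw, ZMod.val_zero, pow_zero]

theorem pw_one {M : Type*} [Monoid M] (x : M) : pw x 1 = x := pow_one x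

theorem pw_cases (a : ZMod 2) : a = 0 ∨ a = 1 := by revert a; decide

/-- The composition of the actions on the third upper central term. -/
def comp (p q : ZMod 2 × ZMod 2 × ZMod 2) : ZMod 2 × ZMod 2 × ZMod 2 :=
  (p.1 + q.1, p.2.1 + q.2.1, p.2.2 + q.2.2 + p.1 * q.2.1)

/-- The dihedral element of a triple. -/
def toD (p : ZMod 2 × ZMod 2 × ZMod 2) : DihedralGroup 4 :=
  if p = (0, 0, 0) then r 0 else if p = (1, 1, 0) then r 1 else if p = (0, 0, 1) then r 2
  else if p = (1, 1, 1) then r 3 else if p = (1, 0, 0) then sr 0 else if p = (0, 1, 1) then sr 1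
  else if p = (1, 0, 1) then sr 2 else sr 3

theorem toD_comp : ∀ p q, toD (comp p q) = toD p * toD q := by decide

theorem toD_inj : ∀ p q, toD p = toD q → p = q := by decide

theorem exists_chi (h : Cfg T W) : ∃ χ : T →* DihedralGroup 4, χ.ker = W ∧ Function.Surjective χ ∧
    ∀ v : T, (χ v = r 2 ∨ χ v = sr 1 ∨ χ v = sr 3) → ∀ c ∈ Z 3, c ∉ Z 2 → v * c * v⁻¹ ≠ c := by
  classical
  haveI := W_normal h
  obtain ⟨x2, x3, h2, h3⟩ := exists_x2x3 h
  have hsq := sq_eq_one h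
  have h12 : Z 1 ≤ Z 2 := Subgroup.upperCentralSeries_mono T (by omega)
  have h23 : Z 2 ≤ Z 3 := Subgroup.upperCentralSeries_mono T (by omega)
  have c12 : Nat.card (Z 2) = 2 * Nat.card (Z 1) := by
    rw [card_Z h (by omega), card_Z h (by omega)]; norm_num
  have c23 : Nat.card (Z 3) = 2 * Nat.card (Z 2) := by
    rw [card_Z h (by omega), card_Z h (by omega)]; norm_num
  have c01 : Nat.card (Z 1) = 2 * Nat.card (⊥ : Subgroup T) := by
    rw [card_Z h (by omega), Subgroup.card_bot]; norm_num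
  obtain ⟨z, hz, hz1⟩ := SetLike.exists_of_lt (show (⊥ : Subgroup T) < Z 1 from bot_lt_iff_ne_bot.2 (by
    intro he; rw [he, Subgroup.card_bot] at c01; omega))
  rw [Subgroup.mem_bot] at hz1
  have hZc : ∀ a ∈ Z 3, ∀ b ∈ Z 3, a * b = b * a := fun a ha b hb =>
    (mem_W_iff h).1 (Z_le_W h (k := 3) (by omega) hb) a ha
  have hzc : ∀ g : T, g * z = z * g := by
    rw [Subgroup.upperCentralSeries_one] at hz
    exact Subgroup.mem_center_iff.1 hz
  have hzs := hsq z (h23 (h12 hz))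
  have hx2s := hsq x2 (h23 h2.1)
  have e1 : ∀ y ∈ Z 1, ∃ a, y = pw z a := by
    intro y hy
    by_cases hy1 : y = 1
    · exact ⟨0, by rw [pw_zero, hy1]⟩
    · refine ⟨1, ?_⟩
      have := (double_mem_iff bot_le c01 hy hz).2 (by simp [hy1, hz1])
      rw [Subgroup.mem_bot] at this
      rw [pw_one, eq_inv_of_mul_eq_one_left this]
      exact inv_eq_of_mul_eq_one_right (by rw [← pow_two, hzs])
  have e2 : ∀ y ∈ Z 2, ∃ a b, y = pw x2 a * pw z b := by
    intro y hy
    by_cases hy1 : y ∈ Z 1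
    · obtain ⟨b, hb⟩ := e1 y hy1
      exact ⟨0, b, by rw [pw_zero, one_mul, hb]⟩
    · have := (double_mem_iff h12 c12 h2.1 hy).2 ⟨fun hh => absurd hh h2.2, fun hh => absurd hh hy1⟩
      obtain ⟨b, hb⟩ := e1 _ this
      refine ⟨1, b, ?_⟩
      rw [← hb, pw_one, ← mul_assoc, ← pow_two, hx2s, one_mul]
  have eP : ∀ t : T, ∃ p : ZMod 2 × ZMod 2 × ZMod 2,
      t * x2 * t⁻¹ = x2 * pw z p.1 ∧ t * x3 * t⁻¹ = x3 * (pw x2 p.2.1 * pw z p.2.2) := by
    intro t
    have m1 : x2⁻¹ * (t * x2 * t⁻¹) ∈ Z 1 := by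
      have := Subgroup.mem_upperCentralSeries_succ_iff.1 ((Z 2).inv_mem h2.1) t
      simpa [commutatorElement_def, mul_assoc] using this
    have m2 : x3⁻¹ * (t * x3 * t⁻¹) ∈ Z 2 := by
      have := Subgroup.mem_upperCentralSeries_succ_iff.1 ((Z 3).inv_mem h3.1) t
      simpa [commutatorElement_def, mul_assoc] using this
    obtain ⟨a, ha⟩ := e1 _ m1
    obtain ⟨b, c, hbc⟩ := e2 _ m2
    exact ⟨(a, b, c), by rw [← ha]; group, by rw [← hbc]; group⟩
  choose Ψ hΨ2 hΨ3 using eP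
  have hu1 : ∀ a b, pw z a = pw z b → a = b := by
    intro a b hab
    rcases pw_cases a with rfl | rfl <;> rcases pw_cases b with rfl | rfl <;>
      simp [pw_zero, pw_one, hz1, Ne.symm hz1] at hab ⊢
  have hu : ∀ a a' b b', pw x2 a * pw z b = pw x2 a' * pw z b' → a = a' ∧ b = b' := by
    intro a a' b b' hab
    have hzm : ∀ q, pw z q ∈ Z 1 := fun q => (Z 1).pow_mem hz _
    have : a = a' := by
      rcases pw_cases a with rfl | rfl <;> rcases pw_cases a' with rfl | rfl <;> try rfl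
      · rw [pw_zero, one_mul, pw_one] at hab
        exact absurd (by rw [show x2 = pw z b * (pw z b')⁻¹ by rw [hab]; group]
                         exact (Z 1).mul_mem (hzm b) ((Z 1).inv_mem (hzm b'))) h2.2
      · rw [pw_zero, one_mul, pw_one] at hab
        exact absurd (by rw [show x2 = pw z b' * (pw z b)⁻¹ by rw [← hab]; group]
                         exact (Z 1).mul_mem (hzm b') ((Z 1).inv_mem (hzm b))) h2.2
    exact ⟨this, hu1 _ _ (by subst this; exact mul_left_cancel hab)⟩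
  have hmul : ∀ t u, Ψ (t * u) = comp (Ψ t) (Ψ u) := by
    intro t u
    have hcz : ∀ (g : T) (a : ZMod 2), g * pw z a = pw z a * g := fun g a =>
      (Commute.pow_right (hzc g) _ : Commute g _).eq
    have k2 : (t * u) * x2 * (t * u)⁻¹ = x2 * pw z ((Ψ t).1 + (Ψ u).1) := by
      calc (t * u) * x2 * (t * u)⁻¹ = t * (u * x2 * u⁻¹) * t⁻¹ := by group
        _ = (t * x2 * t⁻¹) * (t * pw z (Ψ u).1 * t⁻¹) := by rw [hΨ2 u]; group
        _ = x2 * pw z ((Ψ t).1 + (Ψ u).1) := by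
          rw [hΨ2 t, hcz t, mul_inv_cancel_right, pw_add hzs, mul_assoc]
    have k3 : (t * u) * x3 * (t * u)⁻¹ = x3 * (pw x2 ((Ψ t).2.1 + (Ψ u).2.1) *
        pw z ((Ψ t).2.2 + (Ψ u).2.2 + (Ψ t).1 * (Ψ u).2.1)) := by
      have hp : t * pw x2 (Ψ u).2.1 * t⁻¹ = pw x2 (Ψ u).2.1 * pw z ((Ψ t).1 * (Ψ u).2.1) := by
        rcases pw_cases (Ψ u).2.1 with e | e <;> rw [e]
        · simp [pw_zero]
        · rw [pw_one, mul_one, hΨ2 t]
      calc (t * u) * x3 * (t * u)⁻¹ = t * (u * x3 * u⁻¹) * t⁻¹ := by group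
        _ = (t * x3 * t⁻¹) * ((t * pw x2 (Ψ u).2.1 * t⁻¹) * (t * pw z (Ψ u).2.2 * t⁻¹)) := by
          rw [hΨ3 u]; group
        _ = x3 * (pw x2 ((Ψ t).2.1 + (Ψ u).2.1) *
              pw z ((Ψ t).2.2 + (Ψ u).2.2 + (Ψ t).1 * (Ψ u).2.1)) := by
          rw [hΨ3 t, hp, hcz t, mul_inv_cancel_right, pw_add hx2s, pw_add hzs, pw_add hzs]
          simp only [mul_assoc]
          rw [← mul_assoc (pw z (Ψ t).2.2) (pw x2 (Ψ u).2.1), ← hcz (pw x2 (Ψ u).2.1), mul_assoc,
            hcz (pw z ((Ψ t).1 * (Ψ u).2.1)) (Ψ u).2.2]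
    obtain ⟨j2, j3⟩ := hu _ _ _ _ (mul_left_cancel ((hΨ3 (t * u)).symm.trans k3))
    have j1 := hu1 _ _ (mul_left_cancel ((hΨ2 (t * u)).symm.trans k2))
    exact Prod.ext j1 (Prod.ext j2 j3)
  have hK : (MonoidHom.mk' (fun t => toD (Ψ t)) (fun t u => by rw [hmul, toD_comp])).ker = W := by
    ext t
    rw [MonoidHom.mem_ker, MonoidHom.mk'_apply, show (1 : DihedralGroup 4) = toD (0, 0, 0) from rfl,
      (show ∀ p q, toD p = toD q ↔ p = q from fun p q => ⟨toD_inj p q, congrArg toD⟩),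
      W_eq_inf h h2 h3, Subgroup.mem_inf, Subgroup.mem_centralizer_singleton_iff,
      Subgroup.mem_centralizer_singleton_iff]
    constructor
    · intro e
      have a2 := hΨ2 t
      have a3 := hΨ3 t
      rw [e] at a2 a3
      simp only [pw_zero, mul_one] at a2 a3
      exact ⟨(mul_inv_eq_iff_eq_mul.1 a2), (mul_inv_eq_iff_eq_mul.1 a3)⟩
    · rintro ⟨a2, a3⟩
      have b2 : pw z (Ψ t).1 = pw z 0 := mul_left_cancel ((hΨ2 t).symm.trans
        (by rw [a2, mul_inv_cancel_right, pw_zero, mul_one]))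
      have b3 : pw x2 (Ψ t).2.1 * pw z (Ψ t).2.2 = pw x2 0 * pw z 0 := mul_left_cancel ((hΨ3 t).symm.trans
        (by rw [a3, mul_inv_cancel_right, pw_zero, pw_zero, mul_one, mul_one]))
      exact Prod.ext (hu1 _ _ b2) (Prod.ext (hu _ _ _ _ b3).1 (hu _ _ _ _ b3).2)
  refine ⟨_, hK, ?_, ?_⟩
  · rw [← MonoidHom.range_eq_top]
    refine Subgroup.eq_top_of_card_eq _ ?_
    rw [← Subgroup.index_ker, hK, (basic h).1, DihedralGroup.nat_card]
  · intro v hv c hc hc2 hfix
    simp only [MonoidHom.mk'_apply] at hv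
    have key : ∀ p : ZMod 2 × ZMod 2 × ZMod 2, (toD p = r 2 ∨ toD p = sr 1 ∨ toD p = sr 3) →
        p.1 = 0 ∧ ¬ (p.2.1 = 0 ∧ p.2.2 = 0) := by decide
    obtain ⟨k1, k2⟩ := key _ hv
    have hd := (double_mem_iff h23 c23 hc h3.1).2 ⟨fun hh => absurd hh hc2, fun hh => absurd hh h3.2⟩
    obtain ⟨a, b, hab⟩ := e2 _ hd
    have f2 : v * x2 * v⁻¹ = x2 := by rw [hΨ2 v, k1, pw_zero, mul_one]
    have fd : v * (c * x3) * v⁻¹ = c * x3 := by
      rw [hab]
      calc v * (pw x2 a * pw z b) * v⁻¹ = (v * pw x2 a * v⁻¹) * (v * pw z b * v⁻¹) := by group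
        _ = pw x2 a * pw z b := by
          rw [show v * pw z b = pw z b * v from (Commute.pow_right (hzc v) _ : Commute v _).eq,
            mul_inv_cancel_right, pw, ← conj_pow, f2]
    have f3 : v * x3 * v⁻¹ = x3 := by
      have : v * (c * x3) * v⁻¹ = (v * c * v⁻¹) * (v * x3 * v⁻¹) := by group
      rw [fd, hfix] at this
      exact (mul_left_cancel this).symm
    obtain ⟨j2, j3⟩ := hu _ 0 _ 0 (mul_left_cancel (((hΨ3 v).symm.trans f3).trans (by
      rw [pw_zero, pw_zero, mul_one, mul_one])))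
    exact k2 ⟨j2, j3⟩

end Cfsg.Agent.H46.BigTwo
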