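import Cfsg.Agent.H76.ClassProportion
import Cfsg.Agent.H24.Basic
import Cfsg.Agent.H75.Cover
import Cfsg.Agent.Cores.Basic
import Cfsg.Agent.Cores.PCore
import Cfsg.Agent.Frobenius.Basic

/-!
Groups whose class sizes split into two coprime families (Bertram, Herzog, Mann; Kazarin):
modulo the centre they are Frobenius groups with abelian kernel and abelian complement.
-/

set_option autoImplicit false

namespace Cfsg.Agent.H46.CoprimeClasses

open Subgroup Cfsg.Agent.Cores
open scoped commutatorElement Pointwise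

variable {G : Type*} [Group G]

/-- The class size. -/
noncomputable def cs (x : G) : ℕ := (centralizer ({x} : Set G)).index

/-- A non-central element whose class size is a `Sᶜ`-number. -/
def IsA (S : Set ℕ) (x : G) : Prop := cs x ≠ 1 ∧ IsPiNumber Sᶜ (cs x)

/-- A non-central element whose class size is an `S`-number. -/
def IsB (S : Set ℕ) (x : G) : Prop := cs x ≠ 1 ∧ IsPiNumber S (cs x)

theorem cs_eq_one_iff {x : G} : cs x = 1 ↔ x ∈ center G := by
  rw [cs, index_eq_one, eq_top_iff, mem_center_iff]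
  exact ⟨fun h g => mem_centralizer_singleton_iff.mp (h (mem_top g)),
    fun h g _ => mem_centralizer_singleton_iff.mpr (h g)⟩

theorem cs_dvd {x y : G} (h : y ∈ zpowers x) : cs y ∣ cs x := by
  refine index_dvd_of_le fun g hg => ?_
  obtain ⟨i, rfl⟩ := mem_zpowers_iff.mp h
  exact mem_centralizer_singleton_iff.mpr
    (Commute.zpow_right (mem_centralizer_singleton_iff.mp hg) i)

/-- An element lies in a subgroup containing all its powers of prime power order. -/
theorem mem_of_prime_powers [Finite G] {K : Subgroup G} {g : G}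
    (h : ∀ u ∈ zpowers g, (∃ t k : ℕ, t.Prime ∧ orderOf u = t ^ k) → u ∈ K) : g ∈ K := by
  have hpos : 0 < orderOf g := orderOf_pos g
  have hd : orderOf g ∣ Nat.card ↥(K ⊓ zpowers g) := by
    rw [Nat.dvd_iff_prime_pow_dvd_dvd]
    intro t k ht hdvd
    obtain ⟨m, hm⟩ := hdvd
    have hu : orderOf (g ^ m) = t ^ k := by
      rw [orderOf_pow, Nat.gcd_eq_right ⟨t ^ k, by rw [hm, mul_comm]⟩, hm,
        Nat.mul_div_cancel _ (Nat.pos_of_ne_zero fun h0 => hpos.ne' (by rw [hm, h0, mul_zero]))]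
    have hmem : g ^ m ∈ K ⊓ zpowers g :=
      mem_inf.mpr ⟨h _ (pow_mem (mem_zpowers g) m) ⟨t, k, ht, hu⟩, pow_mem (mem_zpowers g) m⟩
    rw [← hu, ← orderOf_mk (g ^ m) hmem]
    exact orderOf_dvd_natCard _
  have : K ⊓ zpowers g = zpowers g := eq_of_le_of_card_ge inf_le_right
    (by rw [Nat.card_zpowers]; exact Nat.le_of_dvd Nat.card_pos hd)
  exact (mem_inf.mp (this.symm ▸ mem_zpowers g : g ∈ K ⊓ zpowers g)).1

theorem cs_dvd_mul {x y : G} (hxy : Commute x y) (hc : (orderOf x).Coprime (orderOf y)) :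
    cs x ∣ cs (x * y) := by
  refine cs_dvd ?_
  have h : x ^ orderOf y ∈ zpowers (x * y) :=
    ⟨(orderOf y : ℤ), by simp [hxy.mul_pow, pow_orderOf_eq_one]⟩
  obtain ⟨m, hm⟩ := exists_pow_eq_self_of_coprime hc.symm
  have h' := pow_mem h m
  rwa [hm] at h'

theorem card_class [Finite G] (x : G) : Nat.card {a : G // IsConj x a} = cs x := by
  rw [cs, index_eq_card]
  refine (Nat.card_eq_of_bijective (Quotient.lift
    (fun g : G => (⟨g * x * g⁻¹, isConj_iff.mpr ⟨g, rfl⟩⟩ : {a : G // IsConj x a})) ?_) ⟨?_, ?_⟩).symm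
  · intro g g' h
    have h' := mem_centralizer_singleton_iff.mp (QuotientGroup.leftRel_apply.mp h)
    refine Subtype.ext ?_
    show g * x * g⁻¹ = g' * x * g'⁻¹
    calc g * x * g⁻¹ = g * (x * (g⁻¹ * g')) * g'⁻¹ := by group
      _ = g * (g⁻¹ * g' * x) * g'⁻¹ := by rw [← h']
      _ = _ := by group
  · intro u v
    induction u using QuotientGroup.induction_on with
    | _ g =>
      induction v using QuotientGroup.induction_on with
      | _ g' =>
        intro h
        have h' : g * x * g⁻¹ = g' * x * g'⁻¹ := congrArg Subtype.val h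
        refine QuotientGroup.eq.mpr (mem_centralizer_singleton_iff.mpr ?_)
        calc g⁻¹ * g' * x = g⁻¹ * (g' * x * g'⁻¹) * g' := by group
          _ = x * (g⁻¹ * g') := by rw [← h']; group
  · rintro ⟨a, ha⟩
    obtain ⟨g, hg⟩ := isConj_iff.mp ha
    refine ⟨QuotientGroup.mk g, Subtype.ext ?_⟩
    exact hg

/-- Elements with class size prime to `p` centralise a conjugate of any given Sylow subgroup. -/
theorem exists_conj_centralized [Finite G] {p : ℕ} [Fact p.Prime] {x : G} (hx : ¬ p ∣ cs x)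
    (P : Sylow p G) : ∃ a : G, ∀ z ∈ (P : Subgroup G), Commute x (a * z * a⁻¹) := by
  obtain ⟨Q, hQ⟩ := H76.exists_sylow_le_centralizer hx
  obtain ⟨a, rfl⟩ := MulAction.exists_smul_eq G P Q
  refine ⟨a, fun z hz => (mem_centralizer_singleton_iff.mp (hQ ?_)).symm⟩
  rw [Sylow.coe_subgroup_smul]
  exact ⟨z, hz, by simp⟩

theorem eq_top_of_sylows [Finite G] {K : Subgroup G}
    (h : ∀ p : ℕ, p.Prime → ∃ P : Sylow p G, (P : Subgroup G) ≤ K) : K = ⊤ := by
  rw [← index_eq_one, Nat.eq_one_iff_not_exists_prime_dvd]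
  intro p hp hd
  have := Fact.mk hp
  obtain ⟨P, hP⟩ := h p hp
  exact P.not_dvd_index (hd.trans (index_dvd_of_le hP))

variable [Finite G] {S : Set ℕ} (hd : ∀ x : G, IsPiNumber S (cs x) ∨ IsPiNumber Sᶜ (cs x))

/-- The hypotheses: the families split, and an element of largest class size has an `S`-number. -/
structure Setup (S : Set ℕ) (G : Type*) [Group G] : Prop where
  split : ∀ x : G, IsPiNumber S (cs x) ∨ IsPiNumber Sᶜ (cs x)
  exists_max : ∃ x0 : G, IsPiNumber S (cs x0) ∧ ∀ y : G, cs y ≤ cs x0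
  exists_A : ∃ g : G, IsA S g

omit [Finite G] in
theorem Setup.isA_or_isB (h : Setup S G) {x : G} (hx : x ∉ center G) : IsA S x ∨ IsB S x := by
  have h1 : cs x ≠ 1 := fun e => hx (cs_eq_one_iff.mp e)
  exact (h.split x).symm.imp (fun h' => ⟨h1, h'⟩) (fun h' => ⟨h1, h'⟩)

omit [Finite G] in
theorem not_mem_center_of_isA {x : G} (h : IsA S x) : x ∉ center G :=
  fun e => h.1 (cs_eq_one_iff.mpr e)

omit [Finite G] in
theorem IsA.exists_prime {x : G} (h : IsA S x) : ∃ q, q.Prime ∧ q ∉ S ∧ q ∣ cs x := by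
  obtain ⟨q, hq, hqd⟩ := Nat.exists_prime_and_dvd h.1
  exact ⟨q, hq, h.2 q hq hqd, hqd⟩

omit [Finite G] in
theorem IsA.not_dvd {x : G} (h : IsA S x) {t : ℕ} (ht : t.Prime) (htS : t ∈ S) : ¬ t ∣ cs x :=
  fun hd => h.2 t ht hd htS

omit [Finite G] in
theorem IsB.not_dvd {x : G} (h : IsB S x) {q : ℕ} (hq : q.Prime) (hqS : q ∉ S) : ¬ q ∣ cs x :=
  fun hd => hqS (h.2 q hq hd)

omit [Finite G] in
/-- Commuting elements of coprime order lie in the same family. -/
theorem Setup.not_commute (h : Setup S G) {x y : G} (hx : IsB S x) (hy : IsA S y)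
    (hxy : Commute x y) (hc : (orderOf x).Coprime (orderOf y)) : False := by
  have h1 := cs_dvd_mul hxy hc
  have h2 : cs y ∣ cs (x * y) := by rw [hxy.eq]; exact cs_dvd_mul hxy.symm hc.symm
  rcases h.split (x * y) with h' | h'
  · exact hy.1 ((h'.of_dvd h2).eq_one hy.2)
  · exact hx.1 (hx.2.eq_one (h'.of_dvd h1))

/-- For `y` in the smaller family, `[y, G]` lies in a normal `S`-subgroup centralising `y`. -/
theorem Setup.exists_stab (h : Setup S G) {y : G} (hy : IsA S y) :
    ∃ M : Subgroup G, M.Normal ∧ IsPiNumber S (Nat.card M) ∧ M ≤ centralizer ({y} : Set G) ∧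
      ∀ g : G, g * y * g⁻¹ * y⁻¹ ∈ M := by
  obtain ⟨x, hxS, hmax⟩ := h.exists_max
  have hco : (cs x).Coprime (cs y) := hxS.coprime hy.2 fun p _ a b => b a
  have hfac := H24.exists_mul_of_coprime_index (centralizer ({x} : Set G))
    (centralizer ({y} : Set G)) hco
  have hprod : ∀ g : G, IsConj (x * y) (x * (g * y * g⁻¹)) := by
    intro g
    obtain ⟨a, ha, b, hb, rfl⟩ := hfac g
    refine isConj_iff.mpr ⟨a, ?_⟩
    rw [mem_centralizer_singleton_iff] at ha hb
    calc a * (x * y) * a⁻¹ = a * x * (y * a⁻¹) := by group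
      _ = x * a * (y * a⁻¹) := by rw [ha]
      _ = x * (a * (b * y * b⁻¹) * a⁻¹) := by rw [hb]; group
      _ = _ := by group
  have hin : ∀ {a : G} (g : G), IsConj x a → IsConj (x * y) (a * (g * y * g⁻¹)) := by
    intro a g ha
    obtain ⟨k, rfl⟩ := isConj_iff.mp ha
    refine (hprod (k⁻¹ * g)).trans (isConj_iff.mpr ⟨k, ?_⟩)
    group
  have hsurj : ∀ w : G, IsConj (x * y) w → IsConj x (w * y⁻¹) := by
    intro w hw
    let f : {a : G // IsConj x a} → {w : G // IsConj (x * y) w} := fun a =>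
      ⟨a.1 * y, by simpa using hin 1 a.2⟩
    have hf : Function.Injective f := fun a b e =>
      Subtype.ext (mul_right_cancel (congrArg Subtype.val e))
    have hb : Function.Bijective f := hf.bijective_of_nat_card_le (by
      rw [card_class, card_class]; exact hmax _)
    obtain ⟨a, ha⟩ := hb.2 ⟨w, hw⟩
    have ha' : a.1 * y = w := congrArg Subtype.val ha
    rw [← ha', mul_inv_cancel_right]
    exact a.2
  let M0 : Submonoid G :=
    { carrier := {u | ∀ a, IsConj x a → IsConj x (a * u)}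
      one_mem' := fun a ha => by rwa [mul_one]
      mul_mem' := fun {u v} hu hv a ha => by rw [← mul_assoc]; exact hv _ (hu a ha) }
  let M : Subgroup G :=
    { M0 with
      inv_mem' := fun {u} hu => by
        obtain ⟨n, hn⟩ := Submonoid.mem_powers_iff _ _ |>.mp
          ((isOfFinOrder_of_finite u).mem_powers_iff_mem_zpowers.mpr (inv_mem (mem_zpowers u)))
        show u⁻¹ ∈ M0
        rw [← hn]
        exact pow_mem hu n }
  have hMn : M.Normal := ⟨fun u hu g a ha => by
    have h1 := hu (g⁻¹ * a * g) (ha.trans (isConj_iff.mpr ⟨g⁻¹, by group⟩))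
    exact h1.trans (isConj_iff.mpr ⟨g, by group⟩)⟩
  have hMmem : ∀ g : G, g * y * g⁻¹ * y⁻¹ ∈ M := by
    intro g a ha
    have := hsurj _ (hin g ha)
    rwa [mul_assoc] at this
  have hMcard : Nat.card M ∣ cs x := by
    rw [← card_class]
    let _ : MulAction M {a : G // IsConj x a} :=
      { smul := fun u a => ⟨a.1 * (u⁻¹ : M), (u⁻¹).2 a.1 a.2⟩
        one_smul := fun a => Subtype.ext (by show a.1 * ((1 : M)⁻¹ : M) = a.1; simp)
        mul_smul := fun u v a => Subtype.ext (by
          show a.1 * ((u * v)⁻¹ : M) = a.1 * (v⁻¹ : M) * (u⁻¹ : M)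
          simp [mul_assoc]) }
    refine Frobenius.dvd_card_of_free M fun u a hu => ?_
    have : a.1 * ((u⁻¹ : M) : G) = a.1 := congrArg Subtype.val hu
    rw [mul_eq_left, OneMemClass.coe_eq_one, inv_eq_one] at this
    exact this
  have hMS : IsPiNumber S (Nat.card M) := hxS.of_dvd hMcard
  refine ⟨M, hMn, hMS, ?_, hMmem⟩
  rw [← relIndex_eq_one]
  refine (hMS.of_dvd (relIndex_dvd_card _ _)).eq_one (hy.2.of_dvd ?_)
  have key : (centralizer ({y} : Set G)).relIndex M =
      (centralizer ({y} : Set G)).relIndex (centralizer ({y} : Set G) ⊔ M) := by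
    have h1 := card_sup_mul_card_inf (centralizer ({y} : Set G)) M
    have h2 := relIndex_mul_relIndex (⊥ : Subgroup G) (centralizer ({y} : Set G))
      (centralizer ({y} : Set G) ⊔ M) bot_le le_sup_left
    have h3 := relIndex_mul_relIndex (⊥ : Subgroup G) (centralizer ({y} : Set G) ⊓ M) M bot_le inf_le_right
    rw [relIndex_bot_left, relIndex_bot_left] at h2 h3
    rw [inf_relIndex_right] at h3
    rw [← h2, ← h3] at h1
    have hpos : 0 < Nat.card (centralizer ({y} : Set G)) *
        Nat.card ↥(centralizer ({y} : Set G) ⊓ M) := Nat.mul_pos Nat.card_pos Nat.card_pos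
    refine (Nat.eq_of_mul_eq_mul_left hpos ?_).symm
    linear_combination h1
  rw [key]
  exact ⟨(centralizer ({y} : Set G) ⊔ M).index, (relIndex_mul_index le_sup_left).symm⟩

/-- Prime power elements of the smaller family lie in the `t`-core, with `t ∈ S`. -/
theorem Setup.isA_prime_power (h : Setup S G) {y : G} (hy : IsA S y) {t k : ℕ} (ht : t.Prime)
    (ho : orderOf y = t ^ k) : t ∈ S ∧ y ∈ pCore t G := by
  have := Fact.mk ht
  obtain ⟨M, hMn, hMS, hMC, hMmem⟩ := h.exists_stab hy
  have hcomm : ∀ g : G, Commute y (g * y * g⁻¹) := by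
    intro g
    have := mem_centralizer_singleton_iff.mp (hMC (hMmem g))
    have h2 : Commute y (g * y * g⁻¹ * y⁻¹) := this.symm
    simpa using h2.mul_right (Commute.refl y)
  set K := normalClosure ({y} : Set G) with hK
  have hKc : IsMulCommutative K := by
    refine Subgroup.isMulCommutative_closure ?_
    intro a ha b hb
    simp only [Group.mem_conjugatesOfSet_iff, Set.mem_singleton_iff, exists_eq_left] at ha hb
    obtain ⟨g, rfl⟩ := isConj_iff.mp ha
    obtain ⟨g', rfl⟩ := isConj_iff.mp hb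
    have := (hcomm (g⁻¹ * g')).map (MulAut.conj g).toMonoidHom
    simp only [MulEquiv.coe_toMonoidHom, MulAut.conj_apply] at this
    convert this.eq using 2 <;> group
  have hsub : (zpowers y).IsSubnormal := by
    refine IsSubnormal.step _ K (zpowers_le.mpr (subset_normalClosure rfl))
      (IsSubnormal.step _ ⊤ le_top IsSubnormal.top inferInstance) ?_
    refine ⟨fun n hn g => ?_⟩
    rw [mul_comm' g n, mul_inv_cancel_right]
    exact hn
  have hmem : y ∈ pCore t G :=
    le_pCore_of_isSubnormal hsub (IsPGroup.of_card (n := k) (by rw [Nat.card_zpowers, ho]))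
      (mem_zpowers y)
  refine ⟨?_, hmem⟩
  by_contra htS
  refine not_mem_center_of_isA hy (mem_center_iff.mpr fun g => ?_)
  have hu : g * y * g⁻¹ * y⁻¹ ∈ M ⊓ pCore t G :=
    mem_inf.mpr ⟨hMmem g, mul_mem ((pCore_normal t G).conj_mem y hmem g) (inv_mem hmem)⟩
  have hbot : M ⊓ pCore t G = ⊥ := by
    rw [inf_comm]
    exact disjoint_of_isPGroup_of_coprime pCore_isPGroup
      ((Nat.Prime.coprime_iff_not_dvd ht).mpr fun hd => htS (hMS t ht hd)).symm
  rw [hbot, mem_bot, mul_inv_eq_one, mul_inv_eq_iff_eq_mul] at hu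
  exact hu

/-- There is a prime power element in the smaller family. -/
theorem Setup.exists_A_prime_power (h : Setup S G) :
    ∃ (y : G) (s k : ℕ), s.Prime ∧ IsA S y ∧ orderOf y = s ^ k := by
  obtain ⟨g, hg⟩ := h.exists_A
  by_contra hcon
  push Not at hcon
  refine not_mem_center_of_isA hg (mem_of_prime_powers fun u hu ⟨t, k, ht, hk⟩ => ?_)
  by_contra hu'
  exact hcon u t k ht ⟨fun e => hu' (cs_eq_one_iff.mp e), hg.2.of_dvd (cs_dvd hu)⟩ hk

/-- The join of the `t`-cores, `t ∈ S`. -/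
def kerS (S : Set ℕ) (G : Type*) [Group G] : Subgroup G :=
  sSup {K : Subgroup G | ∃ t, t.Prime ∧ t ∈ S ∧ K = pCore t G}

instance kerS_normal : (kerS S G).Normal :=
  sSup_normal _ (by rintro _ ⟨t, -, -, rfl⟩; exact pCore_normal t G)

omit [Finite G] in
theorem pCore_le_kerS {t : ℕ} (ht : t.Prime) (htS : t ∈ S) : pCore t G ≤ kerS S G :=
  le_sSup ⟨t, ht, htS, rfl⟩

theorem kerS_isPiNumber : IsPiNumber S (Nat.card (kerS S G)) := by
  have hle : kerS S G ≤ piCore S G := by
    refine sSup_le ?_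
    rintro _ ⟨t, ht, htS, rfl⟩
    have := Fact.mk ht
    refine le_piCore ?_
    intro p hp hd
    have h1 := (isPGroup_iff_isPiNumber ht).mp (pCore_isPGroup (p := t) (G := G)) p hp hd
    rw [Set.mem_singleton_iff.mp h1]
    exact htS
  exact (piCore_isPiNumber S).of_dvd (card_dvd_of_le hle)

theorem kerS_inf_eq_bot {q : ℕ} [Fact q.Prime] (hqS : q ∉ S) {Q : Subgroup G} (hQ : IsPGroup q Q) :
    kerS S G ⊓ Q = ⊥ := by
  rw [inf_comm]
  exact disjoint_of_isPGroup_of_coprime hQ
    ((Nat.Prime.coprime_iff_not_dvd (Fact.out : q.Prime)).mpr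
      fun hd => hqS (kerS_isPiNumber q Fact.out hd)).symm

omit [Finite G] in
theorem commute_pCore {t u : ℕ} [Fact t.Prime] [Fact u.Prime] (htu : t ≠ u) {x y : G}
    (hx : x ∈ pCore t G) (hy : y ∈ pCore u G) : Commute x y :=
  Subgroup.commute_of_normal_of_disjoint _ _ (pCore_normal t G) (pCore_normal u G)
    (IsPGroup.disjoint_of_ne t u htu _ _ pCore_isPGroup pCore_isPGroup) x y hx hy

omit [Finite G] in
theorem orderOf_eq_of_mem {t : ℕ} [Fact t.Prime] {K : Subgroup G} (hK : IsPGroup t K) {x : G}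
    (hx : x ∈ K) : ∃ k, orderOf x = t ^ k := by
  obtain ⟨k, hk⟩ := IsPGroup.iff_orderOf.mp hK ⟨x, hx⟩
  exact ⟨k, by rw [← hk, orderOf_mk]⟩

theorem coprime_of_ne {t u i j : ℕ} (ht : t.Prime) (hu : u.Prime) (htu : t ≠ u) :
    (t ^ i).Coprime (u ^ j) := ((Nat.coprime_primes ht hu).mpr htu).pow i j

/-- The `q`-core is central for `q ∉ S`. -/
theorem Setup.pCore_central (h : Setup S G) {q : ℕ} [hq : Fact q.Prime] (hqS : q ∉ S) :
    pCore q G ≤ center G := by
  intro u hu
  by_contra hu'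
  obtain ⟨k, hk⟩ := orderOf_eq_of_mem pCore_isPGroup hu
  obtain ⟨y, s, l, hs, hy, hl⟩ := h.exists_A_prime_power
  have := Fact.mk hs
  obtain ⟨hsS, hys⟩ := h.isA_prime_power hy hs hl
  rcases h.isA_or_isB hu' with hA | hB
  · exact hqS (h.isA_prime_power hA hq.out hk).1
  · have hne : q ≠ s := fun e => hqS (e ▸ hsS)
    exact h.not_commute hB hy (commute_pCore hne hu hys) (hk ▸ hl ▸ coprime_of_ne hq.out hs hne)

/-- `G = N C(Q)` for the Sylow subgroups with `q ∉ S`. -/
theorem Setup.kerS_sup_centralizer (h : Setup S G) {q : ℕ} [hq : Fact q.Prime] (hqS : q ∉ S)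
    (Q : Sylow q G) : kerS S G ⊔ centralizer ((Q : Subgroup G) : Set G) = ⊤ := by
  refine H75.eq_top_of_conj_cover _ fun g => ?_
  by_cases hg : g ∈ center G
  · exact ⟨1, by simpa using mem_sup_right (center_le_centralizer _ hg)⟩
  rcases h.isA_or_isB hg with hA | hB
  · refine ⟨1, ?_⟩
    rw [one_mul, inv_one, mul_one]
    refine mem_of_prime_powers fun u hu ⟨t, k, ht, hk⟩ => ?_
    by_cases huc : u ∈ center G
    · exact mem_sup_right (center_le_centralizer _ huc)
    · obtain ⟨htS, hut⟩ := h.isA_prime_power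
        ⟨fun e => huc (cs_eq_one_iff.mp e), hA.2.of_dvd (cs_dvd hu)⟩ ht hk
      exact mem_sup_left (pCore_le_kerS ht htS hut)
  · obtain ⟨a, ha⟩ := exists_conj_centralized (hB.not_dvd hq.out hqS) Q
    refine ⟨a⁻¹, mem_sup_right (mem_centralizer_iff.mpr fun z hz => ?_)⟩
    have e := (ha z hz).eq
    calc z * (a⁻¹ * g * a⁻¹⁻¹) = a⁻¹ * (a * z * a⁻¹ * g) * a := by group
      _ = a⁻¹ * (g * (a * z * a⁻¹)) * a := by rw [e]
      _ = a⁻¹ * g * a⁻¹⁻¹ * z := by group

theorem Setup.exists_mul_centralizing (h : Setup S G) {q : ℕ} [hq : Fact q.Prime] (hqS : q ∉ S)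
    (Q : Sylow q G) (g : G) :
    ∃ n ∈ kerS S G, ∃ c, (∀ z ∈ (Q : Subgroup G), Commute c z) ∧ g = n * c := by
  have hg : g ∈ kerS S G ⊔ centralizer ((Q : Subgroup G) : Set G) := by
    rw [h.kerS_sup_centralizer hqS Q]; exact mem_top g
  obtain ⟨n, hn, c, hc, rfl⟩ := mem_sup_of_normal_left.mp hg
  exact ⟨n, hn, c, fun z hz => (mem_centralizer_iff.mp hc z hz).symm, rfl⟩

/-- The Sylow `q`-subgroups, `q ∉ S`, are central modulo `kerS`. -/
theorem Setup.commutator_mem (h : Setup S G) {q : ℕ} [hq : Fact q.Prime] (hqS : q ∉ S)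
    (Q : Sylow q G) {a : G} (ha : a ∈ (Q : Subgroup G)) (x : G) : ⁅a, x⁆ ∈ kerS S G := by
  obtain ⟨n, hn, c, hc, rfl⟩ := h.exists_mul_centralizing hqS Q x
  have e : ⁅a, n * c⁆ = a * n * a⁻¹ * n⁻¹ := by
    have hca : a * c = c * a := (hc a ha).eq.symm
    calc ⁅a, n * c⁆ = a * n * (c * a⁻¹) * c⁻¹ * n⁻¹ := by rw [commutatorElement_def]; group
      _ = a * n * (a⁻¹ * c) * c⁻¹ * n⁻¹ := by rw [(show c * a⁻¹ = a⁻¹ * c from
          ((hc a ha).inv_right).eq)]
      _ = _ := by group
  rw [e]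
  exact mul_mem (kerS_normal.conj_mem n hn a) (inv_mem hn)

theorem Setup.sylow_comm_of_not_mem (h : Setup S G) {q : ℕ} [hq : Fact q.Prime] (hqS : q ∉ S)
    (Q : Sylow q G) {a x : G} (ha : a ∈ (Q : Subgroup G)) (hx : x ∈ (Q : Subgroup G)) :
    Commute a x := by
  have hm : ⁅a, x⁆ ∈ kerS S G ⊓ (Q : Subgroup G) :=
    mem_inf.mpr ⟨h.commutator_mem hqS Q ha x,
      mul_mem (mul_mem (mul_mem ha hx) (inv_mem ha)) (inv_mem hx)⟩
  rw [kerS_inf_eq_bot hqS Q.isPGroup', mem_bot, commutatorElement_eq_one_iff_mul_comm] at hm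
  exact hm

/-- Sylow subgroups for `t ∈ S` different from the distinguished prime. -/
theorem Setup.sylow_eq_pCore_of_ne (h : Setup S G) {y : G} {s l : ℕ} (hs : s.Prime) (hy : IsA S y)
    (hl : orderOf y = s ^ l) {t : ℕ} [ht : Fact t.Prime] (htS : t ∈ S) (hts : t ≠ s)
    (P : Sylow t G) :
    (P : Subgroup G) = pCore t G ∧ ∀ a ∈ pCore t G, ∀ b ∈ pCore t G, Commute a b := by
  obtain ⟨Q, hQ⟩ := H76.exists_sylow_le_centralizer (hy.not_dvd ht.out htS)
  have hmem : ∀ x ∈ (Q : Subgroup G), x ∈ pCore t G ∧ (x ∈ center G ∨ IsA S x) := by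
    intro x hx
    obtain ⟨k, hk⟩ := orderOf_eq_of_mem Q.isPGroup' hx
    by_cases hxc : x ∈ center G
    · refine ⟨?_, Or.inl hxc⟩
      have hn : (zpowers x).Normal := ⟨fun n hn g => by
        rw [mem_center_iff.mp (zpowers_le.mpr hxc hn) g, mul_inv_cancel_right]; exact hn⟩
      exact Cores.le_pCore (IsPGroup.of_card (n := k) (by rw [Nat.card_zpowers, hk])) (mem_zpowers x)
    · rcases h.isA_or_isB hxc with hA | hB
      · exact ⟨(h.isA_prime_power hA ht.out hk).2, Or.inr hA⟩
      · exact (h.not_commute hB hy (mem_centralizer_singleton_iff.mp (hQ hx))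
          (hk ▸ hl ▸ coprime_of_ne ht.out hs hts)).elim
  have heq : ∀ R : Sylow t G, (R : Subgroup G) = pCore t G := by
    intro R
    refine (eq_of_le_of_card_ge (pCore_le_sylow R) ?_).symm
    rw [Sylow.card_eq_multiplicity R, ← Sylow.card_eq_multiplicity Q]
    exact card_le_of_le fun x hx => (hmem x hx).1
  refine ⟨heq P, fun a ha b hb => ?_⟩
  rcases (hmem a (heq Q ▸ ha)).2 with hc | hA
  · exact (mem_center_iff.mp hc b).symm
  · obtain ⟨R, hR⟩ := H76.exists_sylow_le_centralizer (hA.not_dvd ht.out htS)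
    exact (mem_centralizer_singleton_iff.mp (hR (heq R ▸ hb))).symm

/-- The Sylow subgroup of the distinguished prime is normal and abelian. -/
theorem Setup.sylow_eq_pCore_self (h : Setup S G) {y : G} {s l : ℕ} [hs : Fact s.Prime]
    (hy : IsA S y) (hl : orderOf y = s ^ l) (P : Sylow s G) :
    (P : Subgroup G) = pCore s G ∧ ∀ a ∈ pCore s G, ∀ b ∈ pCore s G, Commute a b := by
  obtain ⟨hsS, hys⟩ := h.isA_prime_power hy hs.out hl
  set N := kerS S G with hN
  have hT : ∀ t : ℕ, t.Prime → t ∈ S → t ≠ s → ∀ T : Sylow t G,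
      (T : Subgroup G) = pCore t G ∧ ∀ a ∈ pCore t G, ∀ b ∈ pCore t G, Commute a b :=
    fun t ht htS hts T => by
      have := Fact.mk ht
      exact h.sylow_eq_pCore_of_ne hs.out hy hl htS hts T
  have hNC : ∀ t : ℕ, t.Prime → t ∈ S → t ≠ s → ∀ x ∈ pCore t G, ∀ n ∈ N, Commute x n := by
    intro t ht htS hts x hx n hn
    have := Fact.mk ht
    have hle : N ≤ centralizer {x} := by
      refine sSup_le ?_
      rintro _ ⟨u, hu, huS, rfl⟩ z hz
      have := Fact.mk hu
      refine mem_centralizer_singleton_iff.mpr ?_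
      rcases eq_or_ne u t with rfl | hut
      · exact ((hT u hu huS hts default).2 z hz x hx).eq
      · exact (commute_pCore hut hz hx).eq
    exact (mem_centralizer_singleton_iff.mp (hle hn)).symm
  have hmap : ∀ a : G, (∀ x : G, ⁅a, x⁆ ∈ N) →
      a ∈ normalizer ((N ⊔ (P : Subgroup G) : Subgroup G) : Set G) := by
    intro a ha
    rw [mem_normalizer_iff_map_conj_eq]
    refine eq_of_le_of_card_ge ?_ (card_map_of_injective (MulEquiv.injective _)).ge
    rw [Subgroup.map_sup]
    refine sup_le ?_ ?_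
    · rintro _ ⟨n, hn, rfl⟩
      exact mem_sup_left (kerS_normal.conj_mem n hn a)
    · rintro _ ⟨x, hx, rfl⟩
      show a * x * a⁻¹ ∈ _
      rw [show a * x * a⁻¹ = ⁅a, x⁆ * x by rw [commutatorElement_def]; group]
      exact mul_mem (mem_sup_left (ha x)) (mem_sup_right hx)
  have hNP : (N ⊔ (P : Subgroup G)).Normal := by
    rw [← normalizer_eq_top_iff]
    refine eq_top_of_sylows fun p hp => ?_
    have := Fact.mk hp
    rcases eq_or_ne p s with rfl | hps
    · exact ⟨P, le_sup_right.trans le_normalizer⟩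
    by_cases hpS : p ∈ S
    · refine ⟨default, le_trans ?_ (le_sup_left.trans le_normalizer)⟩
      rw [(hT p hp hpS hps default).1]
      exact pCore_le_kerS hp hpS
    · exact ⟨default, fun a ha => hmap a fun x => h.commutator_mem hpS _ ha x⟩
  have hfr : ∀ g : G, ∃ n ∈ N, ∃ c ∈ normalizer ((P : Subgroup G) : Set G), g = n * c := by
    intro g
    have h1 := Sylow.normalizer_sup_eq_top' P (N := N ⊔ (P : Subgroup G)) le_sup_right
    have h2 : N ⊔ normalizer ((P : Subgroup G) : Set G) = ⊤ := by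
      rw [eq_top_iff, ← h1]
      exact sup_le le_sup_right (sup_le le_sup_left (le_normalizer.trans le_sup_right))
    obtain ⟨n, hn, c, hc, e⟩ := mem_sup_of_normal_left.mp (h2.symm.le (mem_top g))
    exact ⟨n, hn, c, hc, e.symm⟩
  have hTP : ∀ t : ℕ, t.Prime → t ∈ S → t ≠ s → ∀ x ∈ pCore t G, ∀ a ∈ (P : Subgroup G),
      Commute x a := by
    intro t ht htS hts x hx a ha
    have := Fact.mk ht
    by_cases hxc : x ∈ center G
    · exact (mem_center_iff.mp hxc a).symm
    obtain ⟨k, hk⟩ := orderOf_eq_of_mem pCore_isPGroup hx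
    rcases h.isA_or_isB hxc with hA | hB
    · obtain ⟨g, hg⟩ := exists_conj_centralized (hA.not_dvd hs.out hsS) P
      obtain ⟨n, hn, c, hc, rfl⟩ := hfr g
      have hc' := mem_normalizer_iff.mp (inv_mem hc) a
      rw [inv_inv] at hc'
      have h1 := (hg _ (hc'.mp ha)).map (MulAut.conj n⁻¹).toMonoidHom
      simp only [MulEquiv.coe_toMonoidHom, MulAut.conj_apply] at h1
      have e1 : n⁻¹ * x * n⁻¹⁻¹ = x := by
        rw [inv_inv, mul_assoc, (hNC t ht htS hts x hx n hn).eq, inv_mul_cancel_left]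
      rw [e1] at h1
      convert h1 using 1
      group
    · exact (h.not_commute hB hy (commute_pCore hts hx hys)
        (hk ▸ hl ▸ coprime_of_ne ht hs.out hts)).elim
  have hNle : N ≤ normalizer ((P : Subgroup G) : Set G) := by
    refine sSup_le ?_
    rintro _ ⟨t, ht, htS, rfl⟩
    rcases eq_or_ne t s with rfl | hts
    · exact (pCore_le_sylow P).trans le_normalizer
    · intro x hx
      rw [mem_normalizer_iff]
      intro a
      have key : ∀ b ∈ (P : Subgroup G), x * b * x⁻¹ = b := fun b hb => by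
        rw [(hTP t ht htS hts x hx b hb).eq, mul_inv_cancel_right]
      refine ⟨fun ha => (key a ha).symm ▸ ha, fun ha => ?_⟩
      have := key _ ha
      have e : x * a * x⁻¹ = a := by
        calc x * a * x⁻¹ = x⁻¹ * (x * (x * a * x⁻¹) * x⁻¹) * x := by group
          _ = x⁻¹ * (x * a * x⁻¹) * x := by rw [this]
          _ = a := by group
      rwa [e] at ha
  have hPn : (P : Subgroup G).Normal := by
    rw [← normalizer_eq_top_iff, eq_top_iff]
    intro g _
    obtain ⟨n, hn, c, hc, rfl⟩ := hfr g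
    exact mul_mem (hNle hn) hc
  have hPeq : (P : Subgroup G) = pCore s G :=
    le_antisymm (Cores.le_pCore P.isPGroup') (pCore_le_sylow P)
  refine ⟨hPeq, ?_⟩
  by_contra hab
  push Not at hab
  obtain ⟨a0, ha0, b0, hb0, hab0⟩ := hab
  have hNPC : N ≤ (P : Subgroup G) ⊔ centralizer ((P : Subgroup G) : Set G) := by
    refine sSup_le ?_
    rintro _ ⟨t, ht, htS, rfl⟩
    rcases eq_or_ne t s with rfl | hts
    · exact hPeq ▸ le_sup_left
    · exact fun x hx => mem_sup_right (mem_centralizer_iff.mpr fun a ha =>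
        (hTP t ht htS hts x hx a ha).eq.symm)
  have hB : ∀ a : ↥(P : Subgroup G), a ∉ center ↥(P : Subgroup G) → IsB S (a : G) := by
    intro a ha
    have hac : (a : G) ∉ center G := fun e => ha (mem_center_iff.mpr fun g =>
      Subtype.ext (mem_center_iff.mp e g))
    refine (h.isA_or_isB hac).resolve_left fun hA => ha (mem_center_iff.mpr fun g => Subtype.ext ?_)
    obtain ⟨R, hR⟩ := H76.exists_sylow_le_centralizer (hA.not_dvd hs.out hsS)
    have : Subsingleton (Sylow s G) := Sylow.unique_of_normal P hPn |>.instSubsingleton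
    rw [Subsingleton.elim R P] at hR
    exact mem_centralizer_singleton_iff.mp (hR g.2)
  have hC : ∀ q : ℕ, q.Prime → q ∉ S → ∀ Q : Sylow q G, ∀ a ∈ (P : Subgroup G),
      ∀ z ∈ (Q : Subgroup G), Commute a z := by
    intro q hq hqS Q
    have := Fact.mk hq
    set C := (centralizer ((Q : Subgroup G) : Set G)).subgroupOf (P : Subgroup G) with hCdef
    have hcov : ∀ a : ↥(P : Subgroup G), a ∉ center ↥(P : Subgroup G) →
        ∃ v : ↥(P : Subgroup G), v * a * v⁻¹ ∈ C := by
      intro a ha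
      obtain ⟨g, hg⟩ := exists_conj_centralized ((hB a ha).not_dvd hq hqS) Q
      obtain ⟨n, hn, c, hc, rfl⟩ := h.exists_mul_centralizing hqS Q g
      obtain ⟨v, hv, w, hw, rfl⟩ := mem_sup_of_normal_left.mp (hNPC hn)
      refine ⟨⟨v⁻¹, inv_mem hv⟩, ?_⟩
      rw [hCdef, mem_subgroupOf]
      refine mem_centralizer_iff.mpr fun z hz => ?_
      show z * (v⁻¹ * a * v⁻¹⁻¹) = v⁻¹ * a * v⁻¹⁻¹ * z
      have e1 := (hg z hz).eq
      have hz' : v * w * c * z * (v * w * c)⁻¹ = v * (w * z * w⁻¹) * v⁻¹ := by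
        calc v * w * c * z * (v * w * c)⁻¹ = v * w * (c * z) * c⁻¹ * w⁻¹ * v⁻¹ := by group
          _ = v * w * (z * c) * c⁻¹ * w⁻¹ * v⁻¹ := by rw [(hc z hz).eq]
          _ = _ := by group
      rw [hz'] at e1
      have e2 : Commute (v⁻¹ * (a : G) * v) (w * z * w⁻¹) := by
        show v⁻¹ * (a : G) * v * (w * z * w⁻¹) = w * z * w⁻¹ * (v⁻¹ * (a : G) * v)
        calc v⁻¹ * (a : G) * v * (w * z * w⁻¹)
            = v⁻¹ * ((a : G) * (v * (w * z * w⁻¹) * v⁻¹)) * v := by group
          _ = v⁻¹ * (v * (w * z * w⁻¹) * v⁻¹ * a) * v := by rw [e1]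
          _ = _ := by group
      have hwa : Commute (v⁻¹ * (a : G) * v) w :=
        mem_centralizer_iff.mp hw _ (mul_mem (mul_mem (inv_mem hv) a.2) hv)
      have e3 := (hwa.inv_right.mul_right e2).mul_right hwa
      rw [show w⁻¹ * (w * z * w⁻¹) * w = z by group] at e3
      rw [inv_inv]
      exact e3.eq.symm
    have htop : C ⊔ center ↥(P : Subgroup G) = ⊤ := by
      refine H75.eq_top_of_conj_cover _ fun a => ?_
      by_cases ha : a ∈ center ↥(P : Subgroup G)
      · exact ⟨1, by simpa using mem_sup_right ha⟩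
      · obtain ⟨v, hv⟩ := hcov a ha
        exact ⟨v, mem_sup_left hv⟩
    have hnc : ∀ a : ↥(P : Subgroup G), a ∉ center ↥(P : Subgroup G) → a ∈ C := by
      intro a ha
      obtain ⟨v, hv⟩ := hcov a ha
      have hv' : v⁻¹ ∈ C ⊔ center ↥(P : Subgroup G) := htop ▸ mem_top _
      obtain ⟨c, hc, z, hz, hcz⟩ := mem_sup_of_normal_right.mp hv'
      obtain ⟨b, hb⟩ : ∃ b, b = v * a * v⁻¹ := ⟨_, rfl⟩
      have e : a = c * b * c⁻¹ := by
        calc a = v⁻¹ * b * v⁻¹⁻¹ := by rw [hb]; group
          _ = c * (z * b) * z⁻¹ * c⁻¹ := by rw [← hcz]; group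
          _ = c * (b * z) * z⁻¹ * c⁻¹ := by rw [mem_center_iff.mp hz b]
          _ = _ := by group
      rw [e]
      exact mul_mem (mul_mem hc (hb ▸ hv)) (inv_mem hc)
    have hall : ∀ a : ↥(P : Subgroup G), a ∈ C := by
      intro a
      by_cases ha : a ∈ center ↥(P : Subgroup G)
      · have hb : (⟨b0, hPeq ▸ hb0⟩ : ↥(P : Subgroup G)) ∉ center ↥(P : Subgroup G) := fun e =>
          hab0 (congrArg Subtype.val (mem_center_iff.mp e ⟨a0, hPeq ▸ ha0⟩))
        have hab' : a * ⟨b0, hPeq ▸ hb0⟩ ∉ center ↥(P : Subgroup G) := fun e => hb (by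
          have := mul_mem (inv_mem ha) e
          rwa [inv_mul_cancel_left] at this)
        have := mul_mem (hnc _ hab') (inv_mem (hnc _ hb))
        rwa [mul_inv_cancel_right] at this
      · exact hnc a ha
    intro a ha z hz
    exact (mem_centralizer_iff.mp (mem_subgroupOf.mp (hall ⟨a, ha⟩)) z hz).symm
  obtain ⟨q, hq, hqS, hqd⟩ := hy.exists_prime
  have := Fact.mk hq
  obtain ⟨Q⟩ : Nonempty (Sylow q G) := inferInstance
  refine Q.not_dvd_index (hqd.trans (index_dvd_of_le fun z hz => mem_centralizer_singleton_iff.mpr ?_))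
  exact (hC q hq hqS Q y (hPeq.symm ▸ hys) z hz).eq.symm

theorem Setup.sylow_eq_pCore (h : Setup S G) {t : ℕ} [ht : Fact t.Prime] (htS : t ∈ S)
    (P : Sylow t G) :
    (P : Subgroup G) = pCore t G ∧ ∀ a ∈ pCore t G, ∀ b ∈ pCore t G, Commute a b := by
  obtain ⟨y, s, l, hs, hy, hl⟩ := h.exists_A_prime_power
  rcases eq_or_ne t s with rfl | hts
  · exact h.sylow_eq_pCore_self hy hl P
  · exact h.sylow_eq_pCore_of_ne hs hy hl htS hts P

theorem Setup.kerS_comm (h : Setup S G) : IsMulCommutative (kerS S G) := by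
  refine le_centralizer_iff_isMulCommutative.mp (sSup_le ?_)
  rintro _ ⟨t, ht, htS, rfl⟩ x hx
  have := Fact.mk ht
  have hle : kerS S G ≤ centralizer {x} := by
    refine sSup_le ?_
    rintro _ ⟨u, hu, huS, rfl⟩ z hz
    have := Fact.mk hu
    refine mem_centralizer_singleton_iff.mpr ?_
    rcases eq_or_ne u t with rfl | hut
    · exact ((h.sylow_eq_pCore huS default).2 z hz x hx).eq
    · exact (commute_pCore hut hz hx).eq
  exact mem_centralizer_iff.mpr fun z hz => (mem_centralizer_singleton_iff.mp (hle hz))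

theorem Setup.commutator_le (h : Setup S G) : commutator G ≤ kerS S G := by
  have htop : (center (G ⧸ kerS S G)).comap (QuotientGroup.mk' (kerS S G)) = ⊤ := by
    refine eq_top_of_sylows fun p hp => ?_
    have := Fact.mk hp
    refine ⟨default, fun a ha => mem_comap.mpr (mem_center_iff.mpr fun g => ?_)⟩
    obtain ⟨g, rfl⟩ := QuotientGroup.mk'_surjective _ g
    by_cases hpS : p ∈ S
    · have : QuotientGroup.mk' (kerS S G) a = 1 := (QuotientGroup.eq_one_iff a).mpr
        (pCore_le_kerS hp hpS ((h.sylow_eq_pCore hpS default).1 ▸ ha))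
      rw [this, mul_one, one_mul]
    · rw [eq_comm, ← commutatorElement_eq_one_iff_mul_comm, ← map_commutatorElement]
      exact (QuotientGroup.eq_one_iff _).mpr (h.commutator_mem hpS _ ha g)
  rw [_root_.commutator_def, Subgroup.commutator_le]
  intro a _ b _
  rw [← QuotientGroup.eq_one_iff, ← QuotientGroup.mk'_apply, map_commutatorElement,
    commutatorElement_eq_one_iff_mul_comm]
  exact mem_center_iff.mp (mem_comap.mp (htop.symm.le (mem_top b))) _

/-- The structure theorem. -/
theorem Setup.frobenius (h : Setup S G) :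
    ∃ N H : Subgroup G, N.Normal ∧ IsMulCommutative N ∧ IsMulCommutative H ∧
      (Nat.card N).Coprime (Nat.card H) ∧ IsComplement' N H ∧
      Cfsg.IsFrobeniusComplement (H.map (QuotientGroup.mk' (center G))) ∧
      Cfsg.frobeniusKernel (H.map (QuotientGroup.mk' (center G))) =
        (N.map (QuotientGroup.mk' (center G)) : Set (G ⧸ center G)) := by
  set N := kerS S G with hN
  have hNS : IsPiNumber S (Nat.card N) := kerS_isPiNumber
  have hidx : IsPiNumber Sᶜ N.index := by
    intro t ht hd htS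
    have := Fact.mk ht
    obtain ⟨P⟩ : Nonempty (Sylow t G) := inferInstance
    exact P.not_dvd_index (hd.trans (index_dvd_of_le
      ((h.sylow_eq_pCore htS P).1.le.trans (pCore_le_kerS ht htS))))
  have hcop : (Nat.card N).Coprime N.index := hNS.coprime hidx fun p _ a b => b a
  obtain ⟨H, hH⟩ := exists_right_complement'_of_coprime hcop
  have hHc : Nat.card H = N.index := hH.symm.index_eq_card.symm
  have hcopH : (Nat.card N).Coprime (Nat.card H) := hHc ▸ hcop
  have hHcomm : IsMulCommutative H := isMulCommutative_iff.mpr fun a b => by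
    refine commutatorElement_eq_one_iff_mul_comm.mp (Subtype.ext ?_)
    have h1 : ⁅(a : G), (b : G)⁆ ∈ N ⊓ H := mem_inf.mpr ⟨h.commutator_le
      (Subgroup.commutator_mem_commutator (mem_top _) (mem_top _)), (⁅a, b⁆ : H).2⟩
    rw [hH.disjoint.eq_bot, mem_bot] at h1
    exact h1
  have hNcomm := h.kerS_comm
  have hfpf : ∀ a ∈ H, ∀ b ∈ N, Commute a b → a ∈ center G ∨ b ∈ center G := by
    intro a ha b hb hab
    by_contra hcon
    rw [not_or] at hcon
    have hA : IsA S b := by
      refine ⟨fun e => hcon.2 (cs_eq_one_iff.mp e), hidx.of_dvd (index_dvd_of_le ?_)⟩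
      exact fun z hz => mem_centralizer_singleton_iff.mpr
        (congrArg Subtype.val (mul_comm' (⟨z, hz⟩ : N) ⟨b, hb⟩))
    have hB : IsB S a := by
      refine ⟨fun e => hcon.1 (cs_eq_one_iff.mp e), hNS.of_dvd ?_⟩
      rw [← hH.index_eq_card]
      exact index_dvd_of_le fun z hz => mem_centralizer_singleton_iff.mpr
        (congrArg Subtype.val (mul_comm' (⟨z, hz⟩ : H) ⟨a, ha⟩))
    refine h.not_commute hB hA hab ((hcopH.symm).of_dvd ?_ ?_)
    · rw [← orderOf_mk a ha]; exact orderOf_dvd_natCard _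
    · rw [← orderOf_mk b hb]; exact orderOf_dvd_natCard _
  obtain ⟨g0, hg0⟩ := h.exists_A
  have hnab : ¬ ∀ a b : G, a * b = b * a := fun hall =>
    not_mem_center_of_isA hg0 (mem_center_iff.mpr fun g => hall g g0)
  have hgen : ∀ K : Subgroup G, N ≤ K → H ≤ K → K = ⊤ := fun K h1 h2 =>
    top_le_iff.mp (hH.sup_eq_top ▸ sup_le h1 h2)
  have hHnz : ¬ H ≤ center G := by
    intro hle
    refine hnab fun a b => ?_
    have := hgen (centralizer (N : Set G)) (le_centralizer_iff_isMulCommutative.mpr hNcomm)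
      (hle.trans (center_le_centralizer _))
    have h2 : N ≤ center G := fun n hn => mem_center_iff.mpr fun g =>
      (mem_centralizer_iff.mp (this.symm ▸ mem_top g) n hn).symm
    exact mem_center_iff.mp ((hgen _ h2 hle).symm ▸ mem_top b) a
  have hNnz : ¬ N ≤ center G := by
    intro hle
    refine hnab fun a b => ?_
    have := hgen (centralizer (H : Set G)) (hle.trans (center_le_centralizer _))
      (le_centralizer_iff_isMulCommutative.mpr hHcomm)
    have h2 : H ≤ center G := fun n hn => mem_center_iff.mpr fun g =>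
      (mem_centralizer_iff.mp (this.symm ▸ mem_top g) n hn).symm
    exact mem_center_iff.mp ((hgen _ hle h2).symm ▸ mem_top b) a
  set π := QuotientGroup.mk' (center G) with hπ
  have hNn : (N.map π).Normal := Subgroup.Normal.map inferInstance π (QuotientGroup.mk'_surjective _)
  have hcompl : IsComplement' (N.map π) (H.map π) := by
    refine isComplement'_of_disjoint_and_mul_eq_univ (disjoint_iff.mpr ?_) ?_
    · exact inf_eq_bot_of_coprime ((hcopH.coprime_dvd_left (card_map_dvd N π)).coprime_dvd_right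
        (card_map_dvd H π))
    · rw [← normal_mul, ← Subgroup.map_sup, hH.sup_eq_top,
        Subgroup.map_top_of_surjective π (QuotientGroup.mk'_surjective _), coe_top]
  have hne : ∀ K : Subgroup G, ¬ K ≤ center G → K.map π ≠ ⊥ := by
    intro K hK e
    refine hK ?_
    rw [Subgroup.map_eq_bot_iff, hπ, QuotientGroup.ker_mk'] at e
    exact e
  have hF : Cfsg.IsFrobeniusComplement (H.map π) := by
    refine Frobenius.of_fixedPointFree hcompl (hne N hNnz) (hne H hHnz) ?_
    rintro _ ⟨a, ha, rfl⟩ ha1 _ ⟨b, hb, rfl⟩ hab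
    have hz : ⁅a, b⁆ ∈ center G := by
      rw [← QuotientGroup.eq_one_iff, ← QuotientGroup.mk'_apply, map_commutatorElement,
        commutatorElement_eq_one_iff_mul_comm]
      exact hab
    have hzN : ⁅a, b⁆ ∈ N := by
      rw [commutatorElement_def]
      exact mul_mem (kerS_normal.conj_mem b hb a) (inv_mem hb)
    have hpow : ∀ i : ℕ, a ^ i * b * (a ^ i)⁻¹ = ⁅a, b⁆ ^ i * b := by
      intro i
      induction i with
      | zero => simp
      | succ i ih =>
        calc a ^ (i + 1) * b * (a ^ (i + 1))⁻¹ = a * (a ^ i * b * (a ^ i)⁻¹) * a⁻¹ := by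
              rw [pow_succ']; group
          _ = a * ⁅a, b⁆ ^ i * (b * a⁻¹) := by rw [ih]; group
          _ = ⁅a, b⁆ ^ i * a * (b * a⁻¹) := by rw [mem_center_iff.mp (pow_mem hz i) a]
          _ = ⁅a, b⁆ ^ i * (⁅a, b⁆ * b) := by rw [commutatorElement_def]; group
          _ = _ := by rw [pow_succ]; group
    have h1 := hpow (orderOf a)
    rw [pow_orderOf_eq_one, one_mul, inv_one, mul_one, right_eq_mul] at h1
    have hab1 : ⁅a, b⁆ = 1 := by
      rw [← orderOf_eq_one_iff]
      refine Nat.eq_one_of_dvd_coprimes hcopH ?_ ((orderOf_dvd_of_pow_eq_one h1).trans ?_)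
      · rw [← orderOf_mk _ hzN]; exact orderOf_dvd_natCard _
      · rw [← orderOf_mk a ha]; exact orderOf_dvd_natCard _
    rcases hfpf a ha b hb (commutatorElement_eq_one_iff_mul_comm.mp hab1) with hc | hc
    · exact absurd ((QuotientGroup.eq_one_iff a).mpr hc) ha1
    · exact (QuotientGroup.eq_one_iff b).mpr hc
  exact ⟨N, H, inferInstance, hNcomm, hHcomm, hcopH, hH, hF,
    (Frobenius.coe_eq_kernel hF hcompl).symm⟩

end Cfsg.Agent.H46.CoprimeClasses
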