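import Mathlib

/-!
Any two Sylow 2-subgroups of the orthogonal group of a plus-type quadratic space over the field with two
elements have a non-trivial intersection.
-/

set_option autoImplicit false
set_option linter.unusedSectionVars false

namespace Cfsg.Agent.H46.OrthoMeet

open scoped Pointwise
open Module

universe u

theorem zcases (c : ZMod 2) : c = 0 ∨ c = 1 := by revert c; decide

/-- A nondegenerate quadratic space over the field with two elements. -/
structure QSpace (V : Type*) [AddCommGroup V] [Module (ZMod 2) V] where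
  Q : V → ZMod 2
  B : V →ₗ[ZMod 2] V →ₗ[ZMod 2] ZMod 2
  polar : ∀ v w, Q (v + w) = Q v + Q w + B v w
  nondeg : ∀ v, (∀ w, B v w = 0) → v = 0

variable {V : Type u} [AddCommGroup V] [Module (ZMod 2) V] [Finite V] (q : QSpace V)

theorem Q_zero : q.Q 0 = 0 := by
  have := q.polar 0 0
  simp only [add_zero, map_zero, CharTwo.add_self_eq_zero] at this
  exact this

theorem B_self (v : V) : q.B v v = 0 := by
  have := q.polar v v
  rw [ZModModule.add_self, Q_zero, CharTwo.add_self_eq_zero, zero_add] at this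
  exact this.symm

theorem B_comm (v w : V) : q.B v w = q.B w v := by
  have h1 := q.polar v w
  have h2 := q.polar w v
  rw [add_comm w v, add_comm (q.Q w) (q.Q v)] at h2
  exact add_left_cancel (h1.symm.trans h2)

theorem Q_smul (c : ZMod 2) (v : V) : q.Q (c • v) = c * q.Q v := by
  rcases zcases c with rfl | rfl <;> simp [Q_zero]

/-- The isometry group. -/
def isoGroup : Subgroup (V ≃ₗ[ZMod 2] V) where
  carrier := {g | ∀ v, q.Q (g v) = q.Q v}
  mul_mem' {g h} hg hh v := (hg (h v)).trans (hh v)
  one_mem' _ := rfl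
  inv_mem' {g} hg v := by
    have := hg (g⁻¹ v)
    rw [show g (g⁻¹ v) = v from g.apply_symm_apply v] at this
    exact this.symm

instance : Finite (V ≃ₗ[ZMod 2] V) :=
  Finite.of_injective (fun g : V ≃ₗ[ZMod 2] V => (g : V → V)) DFunLike.coe_injective

variable {q}

theorem B_map (g : isoGroup q) (v w : V) : q.B (g.1 v) (g.1 w) = q.B v w := by
  have h1 := q.polar (g.1 v) (g.1 w)
  rw [← map_add, g.2, g.2, g.2, q.polar] at h1
  exact (add_left_cancel h1).symm

theorem mul_apply (g h : isoGroup q) (v : V) : (g * h).1 v = g.1 (h.1 v) := rfl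

theorem apply_inv (g : isoGroup q) (v : V) : g.1 ((g⁻¹).1 v) = v := g.1.apply_symm_apply v

theorem inv_apply (g : isoGroup q) (v : V) : (g⁻¹).1 (g.1 v) = v := g.1.symm_apply_apply v

theorem iso_ext {g h : isoGroup q} (e : ∀ v, g.1 v = h.1 v) : g = h :=
  Subtype.ext (LinearEquiv.ext e)

theorem exists_B_eq_one {p : V} (hp : p ≠ 0) : ∃ v, q.B v p = 1 := by
  by_contra hc
  refine hp (q.nondeg p fun w => ?_)
  rcases zcases (q.B w p) with h | h
  · rw [B_comm]; exact h
  · exact absurd ⟨w, h⟩ hc

section Siegel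

variable (q)

/-- The Siegel transformation. -/
def eMap (p w : V) : V →ₗ[ZMod 2] V :=
  LinearMap.id + (q.B.flip p).smulRight w + (q.B.flip w + q.Q w • q.B.flip p).smulRight p

theorem eMap_apply (p w v : V) :
    eMap q p w v = v + q.B v p • w + (q.B v w + q.Q w * q.B v p) • p := by
  simp [eMap]

theorem eMap_eMap {p w : V} (hwp : q.B w p = 0) (v : V) : eMap q p w (eMap q p w v) = v := by
  have h1 : q.B (eMap q p w v) p = q.B v p := by simp [eMap_apply, hwp, B_self]
  have h2 : q.B (eMap q p w v) w = q.B v w := by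
    simp [eMap_apply, B_comm q p w, hwp, B_self]
  rw [eMap_apply q p w (eMap q p w v), h1, h2, eMap_apply]
  generalize q.B v p • w = a
  generalize (q.B v w + q.Q w * q.B v p) • p = c
  calc v + a + c + a + c = v + ((a + a) + (c + c)) := by abel
    _ = v := by simp [ZModModule.add_self]

theorem Q_eMap {p w : V} (hp : q.Q p = 0) (hwp : q.B w p = 0) (v : V) :
    q.Q (eMap q p w v) = q.Q v := by
  rw [eMap_apply, q.polar, q.polar, Q_smul, Q_smul, hp]
  simp only [map_add, map_smul, LinearMap.add_apply, LinearMap.smul_apply, smul_eq_mul, hwp]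
  rcases zcases (q.B v p) with h | h <;> rw [h] <;> simp
  generalize q.Q v = a; generalize q.Q w = b; generalize q.B v w = c
  revert a b c; decide

/-- The Siegel transformation as an isometry. -/
def eIso (p w : V) (hp : q.Q p = 0) (hwp : q.B w p = 0) : isoGroup q :=
  ⟨LinearEquiv.ofInvolutive (eMap q p w) (eMap_eMap q hwp), Q_eMap q hp hwp⟩

theorem eIso_apply (p w : V) (hp : q.Q p = 0) (hwp : q.B w p = 0) (v : V) :
    (eIso q p w hp hwp).1 v = v + q.B v p • w + (q.B v w + q.Q w * q.B v p) • p :=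
  eMap_apply q p w v

/-- The unipotent radical of the stabilizer of a singular vector. -/
def radP (p : V) : Subgroup (isoGroup q) where
  carrier := {g | g.1 p = p ∧ ∀ v, q.B v p = 0 → g.1 v = v ∨ g.1 v = v + p}
  mul_mem' {g h} hg hh := by
    refine ⟨by rw [mul_apply, hh.1, hg.1], fun v hv => ?_⟩
    rw [mul_apply]
    rcases hh.2 v hv with e | e <;> rw [e]
    · exact hg.2 v hv
    · rw [map_add, hg.1]
      rcases hg.2 v hv with e' | e' <;> rw [e']
      · exact Or.inr rfl
      · left; rw [add_assoc, ZModModule.add_self, add_zero]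
  one_mem' := ⟨rfl, fun v _ => Or.inl rfl⟩
  inv_mem' {g} hg := by
    have hp : (g⁻¹).1 p = p := by conv_lhs => rw [← hg.1, inv_apply]
    refine ⟨hp, fun v hv => ?_⟩
    rcases hg.2 v hv with e | e
    · left; conv_lhs => rw [← e, inv_apply]
    · right
      have h1 : g.1 (v + p) = v := by
        rw [map_add, hg.1, e, add_assoc, ZModModule.add_self, add_zero]
      conv_lhs => rw [← h1, inv_apply]

theorem isPGroup_radP (p : V) : IsPGroup 2 (radP q p) := by
  rintro ⟨g, hg⟩
  refine ⟨2, Subtype.ext (iso_ext fun v => ?_)⟩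
  have h2 : ∀ v, g.1 (g.1 v) = v ∨ g.1 (g.1 v) = v + p := by
    intro v
    have hw : q.B (g.1 v + v) p = 0 := by
      have := B_map g v p
      rw [hg.1] at this
      rw [map_add, LinearMap.add_apply, this, CharTwo.add_self_eq_zero]
    rcases hg.2 _ hw with e | e <;> rw [map_add] at e
    · left
      exact add_right_cancel (e.trans (add_comm _ _))
    · right
      have := congrArg (· + g.1 v) e
      simp only [add_assoc, ZModModule.add_self, add_zero] at this
      rw [this]
      calc g.1 v + (v + (p + g.1 v)) = (g.1 v + g.1 v) + (v + p) := by abel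
        _ = v + p := by rw [ZModModule.add_self, zero_add]
  have e4 : ((⟨g, hg⟩ : radP q p) ^ (2 ^ 2) : radP q p).1.1 v = g.1 (g.1 (g.1 (g.1 v))) := by
    simp only [show (2 : ℕ) ^ 2 = 4 from rfl, pow_succ, pow_zero, one_mul]
    rfl
  rw [e4]
  show _ = v
  rcases h2 v with e | e <;> rw [e]
  · exact e
  · rw [map_add, map_add, hg.1, hg.1, e, add_assoc, ZModModule.add_self, add_zero]

theorem conj_mem_radP {p : V} {h k : isoGroup q} (hh : h.1 p = p) (hk : k ∈ radP q p) :
    h * k * h⁻¹ ∈ radP q p := by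
  have hh' : (h⁻¹).1 p = p := by conv_lhs => rw [← hh, inv_apply]
  refine ⟨by rw [mul_apply, mul_apply, hh', hk.1, hh], fun v hv => ?_⟩
  have hv' : q.B ((h⁻¹).1 v) p = 0 := by
    rw [← hh', B_map]; exact hv
  rw [mul_apply, mul_apply]
  rcases hk.2 _ hv' with e | e <;> rw [e]
  · left; exact apply_inv h v
  · right; rw [map_add, apply_inv, hh]

theorem eIso_mem_radP {p w : V} (hp : q.Q p = 0) (hwp : q.B w p = 0) :
    eIso q p w hp hwp ∈ radP q p := by
  refine ⟨?_, fun v hv => ?_⟩
  · rw [eIso_apply]; simp [B_self, B_comm q p w, hwp]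
  · rw [eIso_apply, hv, zero_smul, add_zero, mul_zero, add_zero]
    rcases zcases (q.B v w) with h | h <;> rw [h] <;> simp

theorem eIso_ne_one {p w : V} (hp : q.Q p = 0) (hp0 : p ≠ 0) (hwp : q.B w p = 0)
    (hw0 : w ≠ 0) (hw : w ≠ p) : eIso q p w hp hwp ≠ 1 := by
  intro h
  obtain ⟨v, hv⟩ := exists_B_eq_one (q := q) hp0
  have h1 := congrArg (fun g : isoGroup q => g.1 v) h
  simp only [eIso_apply, hv, one_smul] at h1
  change v + w + _ = v at h1
  rw [add_assoc, add_eq_left] at h1
  rcases zcases (q.B v w + q.Q w * 1) with h2 | h2 <;> rw [h2] at h1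
  · exact hw0 (by simpa using h1)
  · rw [one_smul] at h1
    exact hw (by
      have := congrArg (· + p) h1
      simpa [add_assoc, ZModModule.add_self] using this)

end Siegel

/-- A pointwise stabilizer of a vector. -/
def stab (q : QSpace V) (p : V) : Subgroup (isoGroup q) where
  carrier := {g | g.1 p = p}
  mul_mem' {g h} hg hh := by
    show (g * h).1 p = p
    rw [mul_apply, hh, hg]
  one_mem' := rfl
  inv_mem' {g} hg := by
    show (g⁻¹).1 p = p
    conv_lhs => rw [← (show g.1 p = p from hg), inv_apply]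

theorem radP_le_stab (p : V) : radP q p ≤ stab q p := fun _ h => h.1

theorem radP_le_sylow {p : V} (H : Sylow 2 (isoGroup q))
    (hH : (H : Subgroup (isoGroup q)) ≤ stab q p) : radP q p ≤ (H : Subgroup (isoGroup q)) := by
  have hn : (H : Subgroup (isoGroup q)) ≤ Subgroup.normalizer (radP q p : Set (isoGroup q)) := by
    intro h hh
    rw [Subgroup.mem_normalizer_iff]
    intro z
    refine ⟨conj_mem_radP q (hH hh), fun hz => ?_⟩
    have := conj_mem_radP q (hH ((H : Subgroup (isoGroup q)).inv_mem hh)) hz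
    simpa [mul_assoc] using this
  have := H.is_maximal' (H.isPGroup'.to_sup_of_normal_right' (isPGroup_radP q p) hn) le_sup_left
  rw [← this]
  exact le_sup_right

section Singular

variable {p w : V}

theorem even_card_singular (hp : q.Q p = 0) (hp0 : p ≠ 0) (hwp : q.B w p = 0)
    (hw0 : w ≠ 0) (hw : w ≠ p) : Even (Nat.card {v : V // q.Q v = 0}) := by
  classical
  have := Fintype.ofFinite V
  let τ : V → V := fun v => if q.B v p = 0 then v + p else (eIso q p w hp hwp).1 v
  have hB : ∀ v, q.B ((eIso q p w hp hwp).1 v) p = q.B v p := fun v => by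
    have := B_map (eIso q p w hp hwp) v p
    rwa [(eIso_mem_radP q hp hwp).1] at this
  have hpp : ∀ v, q.B (v + p) p = q.B v p := fun v => by simp [B_self]
  have hinv : ∀ v, τ (τ v) = v := by
    intro v
    by_cases h : q.B v p = 0
    · simp only [τ, if_pos h, if_pos (show q.B (v + p) p = 0 by rw [hpp, h])]
      rw [add_assoc, ZModModule.add_self, add_zero]
    · simp only [τ, if_neg h, if_neg (show ¬ q.B ((eIso q p w hp hwp).1 v) p = 0 by rw [hB]; exact h)]
      exact eMap_eMap q hwp v
  have hne : ∀ v, τ v ≠ v := by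
    intro v
    by_cases h : q.B v p = 0
    · simp only [τ, if_pos h, ne_eq, add_eq_left]; exact hp0
    · simp only [τ, if_neg h, eIso_apply]
      have h1 := (zcases (q.B v p)).resolve_left h
      rw [h1, one_smul, add_assoc, ne_eq, add_eq_left]
      rcases zcases (q.B v w + q.Q w * 1) with h2 | h2 <;> rw [h2]
      · simpa using hw0
      · rw [one_smul]
        intro h3
        have := congrArg (· + p) h3
        exact hw (by simpa [add_assoc, ZModModule.add_self] using this)
  have hQ : ∀ v, q.Q v = 0 → q.Q (τ v) = 0 := by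
    intro v hv
    by_cases h : q.B v p = 0
    · simp only [τ, if_pos h]; rw [q.polar, hv, hp, h]; rfl
    · simp only [τ, if_neg h]; rw [(eIso q p w hp hwp).2, hv]
  have hsum : ∑ _v ∈ Finset.univ.filter (fun v => q.Q v = 0), (1 : ZMod 2) = 0 := by
    refine Finset.sum_involution (fun v _ => τ v) (fun _ _ => by decide) (fun v _ _ => hne v)
      (fun v hv => ?_) (fun v _ => hinv v)
    simp only [Finset.mem_filter, Finset.mem_univ, true_and] at hv ⊢
    exact hQ v hv
  rw [Finset.sum_const, nsmul_eq_mul, mul_one, ZMod.natCast_eq_zero_iff_even] at hsum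
  rwa [Nat.card_eq_fintype_card, Fintype.card_subtype]

theorem exists_fixed (hT : Even (Nat.card {v : V // q.Q v = 0})) (P : Subgroup (isoGroup q))
    (hP : IsPGroup 2 P) : ∃ p : V, p ≠ 0 ∧ q.Q p = 0 ∧ P ≤ stab q p := by
  have : Fact (Nat.Prime 2) := ⟨Nat.prime_two⟩
  let T := {v : V // q.Q v = 0}
  letI : MulAction P T :=
    { smul := fun g v => ⟨g.1.1 v.1, (g.1.2 v.1).trans v.2⟩
      one_smul := fun v => Subtype.ext rfl
      mul_smul := fun g h v => Subtype.ext rfl }
  have h0 : (⟨0, Q_zero q⟩ : T) ∈ MulAction.fixedPoints P T := fun g => Subtype.ext (map_zero g.1.1)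
  have hmod := hP.card_modEq_card_fixedPoints T
  have : Nonempty (MulAction.fixedPoints P T) := ⟨⟨_, h0⟩⟩
  have hpos : 0 < Nat.card (MulAction.fixedPoints P T) := Nat.card_pos
  have heven : Nat.card T % 2 = 0 := Nat.even_iff.1 hT
  have h2 : 1 < Nat.card (MulAction.fixedPoints P T) := by
    have h3 : Nat.card (MulAction.fixedPoints P T) % 2 = 0 := by
      unfold Nat.ModEq at hmod; omega
    omega
  obtain ⟨x, hx⟩ :=
    exists_ne' h2 (⟨_, h0⟩ : MulAction.fixedPoints P T)
  refine ⟨x.1.1, fun h => hx (Subtype.ext (Subtype.ext h)), x.1.2, fun g hg => ?_⟩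
  exact congrArg Subtype.val (x.2 ⟨g, hg⟩)
where
  exists_ne' {α : Type u} (h : 1 < Nat.card α) (a : α) : ∃ x : α, x ≠ a := by
    have := Nat.finite_of_card_ne_zero (by omega : Nat.card α ≠ 0)
    have := Finite.one_lt_card_iff_nontrivial.1 h
    exact exists_ne a

end Singular

section Pair

variable (q) (p p' : V)

/-- The orthogonal complement of a pair. -/
def comp2 : Submodule (ZMod 2) V := LinearMap.ker ((q.B.flip p).prod (q.B.flip p'))

theorem mem_comp2 {v : V} : v ∈ comp2 q p p' ↔ q.B v p = 0 ∧ q.B v p' = 0 := by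
  simp [comp2, Prod.ext_iff]

/-- The projection on the complement. -/
def proj : V →ₗ[ZMod 2] V :=
  LinearMap.id + (q.B.flip p').smulRight p + (q.B.flip p).smulRight p'

theorem proj_apply (v : V) : proj q p p' v = v + q.B v p' • p + q.B v p • p' := by simp [proj]

variable {p p'} (hpp : q.B p p' = 1) (hp : q.Q p = 0) (hp' : q.Q p' = 0)
include hpp

theorem proj_mem (v : V) : proj q p p' v ∈ comp2 q p p' := by
  rw [mem_comp2]
  constructor <;>
    simp [proj_apply, B_self, hpp, B_comm q p' p, CharTwo.add_self_eq_zero]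

theorem comp2_ext (v : V) : proj q p p' v + q.B v p' • p + q.B v p • p' = v := by
  rw [proj_apply]
  generalize q.B v p' • p = a
  generalize q.B v p • p' = c
  calc v + a + c + a + c = v + ((a + a) + (c + c)) := by abel
    _ = v := by simp [ZModModule.add_self]

include hp hp' in
theorem Q_decomp {w : V} (hw : w ∈ comp2 q p p') (a c : ZMod 2) :
    q.Q (w + a • p + c • p') = q.Q w + a * c := by
  rw [mem_comp2] at hw
  rw [q.polar, q.polar, Q_smul, Q_smul, hp, hp']
  simp [hw.1, hw.2, hpp, mul_comm]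

/-- The quadratic space on the complement. -/
def restrict : QSpace (comp2 q p p') where
  Q w := q.Q w
  B := q.B.compl₁₂ (comp2 q p p').subtype (comp2 q p p').subtype
  polar v w := q.polar v w
  nondeg v hv := by
    refine Subtype.ext (q.nondeg v fun x => ?_)
    have h1 := (mem_comp2 q p p').1 v.2
    rw [← comp2_ext q hpp x]
    have h2 := hv ⟨proj q p p' x, proj_mem q hpp x⟩
    simp only [LinearMap.compl₁₂_apply, Submodule.coe_subtype] at h2
    simp [h2, h1.1, h1.2]

/-- The joint stabilizer of the pair. -/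
def pairStab (p p' : V) : Subgroup (isoGroup q) := stab q p ⊓ stab q p'

theorem pairStab_maps (g : pairStab q p p') {w : V} (hw : w ∈ comp2 q p p') :
    g.1.1 w ∈ comp2 q p p' := by
  rw [mem_comp2] at hw ⊢
  have h1 : g.1.1 p = p := g.2.1
  have h2 : g.1.1 p' = p' := g.2.2
  constructor
  · have := B_map g.1 w p
    rw [h1] at this
    exact this.trans hw.1
  · have := B_map g.1 w p'
    rw [h2] at this
    exact this.trans hw.2

/-- Restriction to the complement. -/
def resFun (g : pairStab q p p') : isoGroup (restrict q hpp) :=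
  ⟨LinearEquiv.ofLinearMap (g.1.1.toLinearMap.restrict fun _ hw => pairStab_maps q hpp g hw)
      ((g⁻¹).1.1.toLinearMap.restrict fun _ hw => pairStab_maps q hpp g⁻¹ hw)
      (LinearMap.ext fun w => Subtype.ext (apply_inv g.1 w))
      (LinearMap.ext fun w => Subtype.ext (inv_apply g.1 w)),
    fun w => g.1.2 w⟩

/-- Restriction as a homomorphism. -/
def res : pairStab q p p' →* isoGroup (restrict q hpp) :=
  MonoidHom.mk' (resFun q hpp) fun _ _ => iso_ext fun _ => Subtype.ext rfl

include hp hp' in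
theorem res_surjective : Function.Surjective (res q hpp) := by
  intro h
  let ext : isoGroup (restrict q hpp) → (V →ₗ[ZMod 2] V) := fun h =>
    (comp2 q p p').subtype ∘ₗ h.1.toLinearMap ∘ₗ (proj q p p').codRestrict _ (proj_mem q hpp) +
      (q.B.flip p').smulRight p + (q.B.flip p).smulRight p'
  have hext : ∀ h v, ext h v = (h.1 ⟨proj q p p' v, proj_mem q hpp v⟩ : V) +
      q.B v p' • p + q.B v p • p' := fun h v => by simp [ext]; rfl
  have hcoord : ∀ h v, q.B (ext h v) p = q.B v p ∧ q.B (ext h v) p' = q.B v p' := fun h v => by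
    have := (mem_comp2 q p p').1 (h.1 ⟨proj q p p' v, proj_mem q hpp v⟩).2
    constructor <;> simp [hext, this.1, this.2, B_self, hpp, B_comm q p' p]
  have hproj : ∀ h v, proj q p p' (ext h v) = (h.1 ⟨proj q p p' v, proj_mem q hpp v⟩ : V) := by
    intro h v
    rw [proj_apply, (hcoord h v).1, (hcoord h v).2, hext]
    generalize q.B v p' • p = a
    generalize q.B v p • p' = c
    generalize ((h.1 ⟨proj q p p' v, proj_mem q hpp v⟩ : comp2 q p p') : V) = z
    calc z + a + c + a + c = z + ((a + a) + (c + c)) := by abel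
      _ = z := by simp [ZModModule.add_self]
  have hcomp : ∀ g h v, ext g (ext h v) = ext (g * h) v := by
    intro g h v
    rw [hext g, (hcoord h v).1, (hcoord h v).2, hext (g * h)]
    congr 2
    exact congrArg (fun z => ((g.1 z : comp2 q p p') : V)) (Subtype.ext (hproj h v))
  have hone : ∀ v, ext 1 v = v := fun v => by rw [hext]; exact comp2_ext q hpp v
  let e : V ≃ₗ[ZMod 2] V := LinearEquiv.ofLinearMap (ext h) (ext h⁻¹)
    (LinearMap.ext fun v => by simp [hcomp, hone])
    (LinearMap.ext fun v => by simp [hcomp, hone])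
  have he : ∀ v, e v = ext h v := fun _ => rfl
  have heQ : e ∈ isoGroup q := fun v => by
    rw [he, hext, Q_decomp q hpp hp hp' (h.1 _).2]
    conv_rhs => rw [← comp2_ext q hpp v, Q_decomp q hpp hp hp' (proj_mem q hpp v)]
    rw [show q.Q ((h.1 ⟨proj q p p' v, proj_mem q hpp v⟩ : comp2 q p p') : V) =
      q.Q (proj q p p' v) from h.2 _]
  have hp1 : proj q p p' p = 0 := by simp [proj_apply, hpp, B_self, ZModModule.add_self]
  have hp2 : proj q p p' p' = 0 := by
    simp [proj_apply, B_comm q p' p, hpp, B_self, ZModModule.add_self]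
  refine ⟨⟨⟨e, heQ⟩, ?_, ?_⟩, iso_ext fun w => Subtype.ext ?_⟩
  · show e p = p
    rw [he, hext]; simp [hp1, hpp, B_self]
  · show e p' = p'
    rw [he, hext]; simp [hp2, hpp, B_comm q p' p, B_self]
  · show e w = _
    have hw := (mem_comp2 q p p').1 w.2
    rw [he, hext, hw.1, hw.2, zero_smul, zero_smul, add_zero, add_zero]
    have : (⟨proj q p p' w, proj_mem q hpp w⟩ : comp2 q p p') = w :=
      Subtype.ext (by simp [proj_apply, hw.1, hw.2])
    rw [this]

theorem res_injective : Function.Injective (res q hpp) := by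
  intro g h e
  refine Subtype.ext (iso_ext fun v => ?_)
  have h1 := congrArg (fun f : isoGroup (restrict q hpp) =>
    ((f.1 ⟨proj q p p' v, proj_mem q hpp v⟩ : comp2 q p p') : V)) e
  change g.1.1 (proj q p p' v) = h.1.1 (proj q p p' v) at h1
  rw [← comp2_ext q hpp v]
  simp only [map_add, map_smul, h1, show g.1.1 p = p from g.2.1, show g.1.1 p' = p' from g.2.2,
    show h.1.1 p = p from h.2.1, show h.1.1 p' = p' from h.2.2]

theorem finrank_comp2 {k : ℕ} (hk : finrank (ZMod 2) V = 2 * (k + 1)) :
    finrank (ZMod 2) (comp2 q p p') = 2 * k := by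
  have hs : LinearMap.range ((q.B.flip p).prod (q.B.flip p')) = ⊤ := by
    rw [LinearMap.range_eq_top]
    rintro ⟨a, c⟩
    exact ⟨c • p + a • p', by simp [hpp, B_comm q p' p, B_self]⟩
  have h1 := LinearMap.finrank_range_add_finrank_ker ((q.B.flip p).prod (q.B.flip p'))
  rw [hs, finrank_top, finrank_prod, finrank_self, hk] at h1
  show finrank (ZMod 2) (LinearMap.ker ((q.B.flip p).prod (q.B.flip p'))) = 2 * k
  omega

include hp in
theorem exists_isotropic {k : ℕ} (L : Submodule (ZMod 2) V) (hL : k + 1 ≤ finrank (ZMod 2) L)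
    (hQ : ∀ v ∈ L, q.Q v = 0) : ∃ M : Submodule (ZMod 2) (comp2 q p p'),
      k ≤ finrank (ZMod 2) M ∧ ∀ w ∈ M, (restrict q hpp).Q w = 0 := by
  let f : L →ₗ[ZMod 2] ZMod 2 := (q.B.flip p).comp L.subtype
  let π : LinearMap.ker f →ₗ[ZMod 2] comp2 q p p' :=
    ((proj q p p').codRestrict _ (proj_mem q hpp)).comp (L.subtype.comp (LinearMap.ker f).subtype)
  refine ⟨LinearMap.range π, ?_, ?_⟩
  · have h1 := LinearMap.finrank_range_add_finrank_ker π
    have h2 := LinearMap.finrank_range_add_finrank_ker f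
    have hmem : ∀ x : LinearMap.ker f, x ∈ LinearMap.ker π → ∃ c : ZMod 2, (x.1.1 : V) = c • p := by
      intro x hx
      have hx0 : q.B x.1.1 p = 0 := x.2
      have := congrArg Subtype.val (LinearMap.mem_ker.1 hx)
      change proj q p p' x.1.1 = 0 at this
      have h3 := comp2_ext q hpp x.1.1
      rw [this, hx0, zero_smul, zero_add, add_zero] at h3
      exact ⟨_, h3.symm⟩
    by_cases hpL : p ∈ L
    · have hf : LinearMap.range f = ⊥ := by
        rw [LinearMap.range_eq_bot]
        refine LinearMap.ext fun x => ?_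
        show q.B x.1 p = 0
        have h3 := q.polar x.1 p
        rw [hQ _ (L.add_mem x.2 hpL), hQ _ x.2, hp, zero_add, zero_add] at h3
        exact h3.symm
      rw [hf, finrank_bot, zero_add] at h2
      have h4 : finrank (ZMod 2) (LinearMap.ker π) ≤ 1 := by
        let j : LinearMap.ker π →ₗ[ZMod 2] V :=
          L.subtype.comp ((LinearMap.ker f).subtype.comp (LinearMap.ker π).subtype)
        have hj : Function.Injective j := fun a b h =>
          Subtype.ext (Subtype.ext (Subtype.ext h))
        have h5 : LinearMap.range j ≤ Submodule.span (ZMod 2) {p} := by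
          rintro _ ⟨x, rfl⟩
          obtain ⟨c, hc⟩ := hmem x.1 x.2
          exact Submodule.mem_span_singleton.2 ⟨c, hc.symm⟩
        rw [← LinearMap.finrank_range_of_inj hj]
        refine le_trans (Submodule.finrank_mono h5) ?_
        exact (finrank_span_le_card ({p} : Set V)).trans (by simp)
      omega
    · have h4 : LinearMap.ker π = ⊥ := by
        rw [Submodule.eq_bot_iff]
        intro x hx
        obtain ⟨c, hc⟩ := hmem x hx
        rcases zcases c with rfl | rfl
        · exact Subtype.ext (Subtype.ext (by simpa using hc))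
        · rw [one_smul] at hc
          exact absurd (hc ▸ x.1.2) hpL
      rw [h4, finrank_bot, add_zero] at h1
      have h5 : finrank (ZMod 2) (LinearMap.range f) ≤ 1 :=
        le_trans (Submodule.finrank_le _) (finrank_self (ZMod 2)).le
      omega
  · rintro w ⟨x, rfl⟩
    show q.Q (proj q p p' x.1.1) = 0
    have hx0 : q.B x.1.1 p = 0 := x.2
    rw [proj_apply, hx0, zero_smul, add_zero, q.polar, hQ _ x.1.2, Q_smul, hp]
    simp [hx0]

include hp' in
theorem exists_move (hp : q.Q p = 0) {x : V} (hxp : q.B x p = 1) (hx : q.Q x = 0) :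
    ∃ k ∈ radP q p, k.1 p' = x := by
  set w := x + p' + q.B x p' • p with hw
  have hwp : q.B w p = 0 := by
    simp [hw, hxp, B_comm q p' p, hpp, B_self, CharTwo.add_self_eq_zero]
  refine ⟨eIso q p w hp hwp, eIso_mem_radP q hp hwp, ?_⟩
  rw [eIso_apply, B_comm q p' p, hpp, one_smul, mul_one]
  have h1 : q.B p' w = 0 := by
    simp [hw, B_comm q p' x, B_self, B_comm q p' p, hpp, CharTwo.add_self_eq_zero]
  have h2 : q.Q w = q.B x p' := by
    rw [hw, q.polar, q.polar, hx, hp', Q_smul, hp]
    simp [hxp, B_comm q p' p, hpp, CharTwo.add_self_eq_zero]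
  rw [h1, h2, zero_add, hw]
  generalize q.B x p' • p = c
  calc p' + (x + p' + c) + c = x + ((p' + p') + (c + c)) := by abel
    _ = x := by simp [ZModModule.add_self]

include hp hp' in
theorem sylow_subgroupOf (H : Sylow 2 (isoGroup q))
    (hH : (H : Subgroup (isoGroup q)) ≤ stab q p) :
    ∃ S : Sylow 2 (pairStab q p p'),
      (S : Subgroup (pairStab q p p')) = (H : Subgroup (isoGroup q)).subgroupOf (pairStab q p p') := by
  have : Fact (Nat.Prime 2) := ⟨Nat.prime_two⟩
  set D := pairStab q p p' with hD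
  obtain ⟨S, hS⟩ := (H.isPGroup'.comap_of_injective D.subtype D.subtype_injective).exists_le_sylow
  refine ⟨S, (Subgroup.eq_of_le_of_card_ge hS ?_).symm⟩
  set S' := (S : Subgroup D).map D.subtype with hS'
  have hS'p : IsPGroup 2 S' := S.isPGroup'.map _
  have hS'st : S' ≤ stab q p := by
    rintro _ ⟨z, -, rfl⟩
    exact z.2.1
  have hn : S' ≤ Subgroup.normalizer (radP q p : Set (isoGroup q)) := by
    intro h hh
    rw [Subgroup.mem_normalizer_iff]
    intro z
    refine ⟨conj_mem_radP q (hS'st hh), fun hz => ?_⟩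
    have := conj_mem_radP q (hS'st (S'.inv_mem hh)) hz
    simpa [mul_assoc] using this
  have hU : IsPGroup 2 (S' ⊔ radP q p : Subgroup (isoGroup q)) :=
    hS'p.to_sup_of_normal_right' (isPGroup_radP q p) hn
  obtain ⟨R, hR⟩ :=
    (hU.comap_of_injective (stab q p).subtype (stab q p).subtype_injective).exists_le_sylow
  obtain ⟨g, hg⟩ := MulAction.exists_smul_eq (stab q p) (H.subtype hH) R
  have hg' : (g.1⁻¹).1 p = p := (g⁻¹).2
  obtain ⟨k, hk, hkp⟩ := exists_move q hpp hp' hp (x := (g.1⁻¹).1 p')
    (by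
      have := B_map (g.1⁻¹) p' p
      rw [hg'] at this
      rw [this, B_comm q p' p, hpp])
    (by rw [(g.1⁻¹).2, hp'])
  have hd : g.1 * k ∈ D := by
    refine ⟨(stab q p).mul_mem g.2 hk.1, ?_⟩
    show (g.1 * k).1 p' = p'
    rw [mul_apply, hkp, apply_inv]
  have hkH := radP_le_sylow H hH hk
  let φ : ↥(S : Subgroup D) → (H : Subgroup (isoGroup q)).subgroupOf D := fun z =>
    ⟨(⟨g.1 * k, hd⟩ : D)⁻¹ * z.1 * ⟨g.1 * k, hd⟩, by
      have hz : (⟨z.1.1, z.1.2.1⟩ : stab q p) ∈ (R : Subgroup (stab q p)) :=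
        hR (le_sup_left (a := S') ⟨z.1, z.2, rfl⟩)
      rw [← hg, Sylow.coe_subgroup_smul, Subgroup.mem_pointwise_smul_iff_inv_smul_mem] at hz
      simp only [MulAut.smul_def, ← map_inv, MulAut.conj_apply, inv_inv] at hz
      have hz' : g.1⁻¹ * z.1.1 * g.1 ∈ (H : Subgroup (isoGroup q)) := hz
      rw [Subgroup.mem_subgroupOf]
      show (g.1 * k)⁻¹ * z.1.1 * (g.1 * k) ∈ (H : Subgroup (isoGroup q))
      have := (H : Subgroup (isoGroup q)).mul_mem
        ((H : Subgroup (isoGroup q)).mul_mem ((H : Subgroup (isoGroup q)).inv_mem hkH) hz') hkH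
      simpa [mul_assoc] using this⟩
  refine Nat.card_le_card_of_injective φ fun a b h => ?_
  exact Subtype.ext (mul_left_cancel (mul_right_cancel (congrArg Subtype.val h)))

end Pair

theorem finrank_ker_B {p : V} (hp0 : p ≠ 0) :
    finrank (ZMod 2) (LinearMap.ker (q.B.flip p)) + 1 = finrank (ZMod 2) V := by
  obtain ⟨v, hv⟩ := exists_B_eq_one (q := q) hp0
  have hs : LinearMap.range (q.B.flip p) = ⊤ := by
    rw [LinearMap.range_eq_top]
    exact fun c => ⟨c • v, by simp [hv]⟩
  have h1 := LinearMap.finrank_range_add_finrank_ker (q.B.flip p)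
  rw [hs, finrank_top, finrank_self] at h1
  omega

theorem exists_orth {p : V} (hp0 : p ≠ 0) (hd : 3 ≤ finrank (ZMod 2) V) :
    ∃ w, q.B w p = 0 ∧ w ≠ 0 ∧ w ≠ p := by
  by_contra hc
  simp only [not_exists, not_and, not_not] at hc
  have h1 : LinearMap.ker (q.B.flip p) ≤ Submodule.span (ZMod 2) {p} := by
    intro w hw
    by_cases h0 : w = 0
    · rw [h0]; exact Submodule.zero_mem _
    · rw [hc w hw h0]; exact Submodule.mem_span_singleton_self p
  have h2 := Submodule.finrank_mono h1
  have h3 := finrank_span_le_card (R := ZMod 2) ({p} : Set V)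
  have h4 := finrank_ker_B (q := q) hp0
  simp at h3
  omega

theorem base_case (hd : finrank (ZMod 2) V = 2) {p : V} (hp0 : p ≠ 0) (hp : q.Q p = 0)
    (H H' : Sylow 2 (isoGroup q)) :
    (H : Subgroup (isoGroup q)) ⊓ H' ≠ ⊥ := by
  obtain ⟨v, hv⟩ := exists_B_eq_one (q := q) hp0
  set r := v + q.Q v • p with hr
  have hrp : q.B r p = 1 := by simp [hr, hv, B_self]
  have hpr : q.B p r = 1 := by rw [B_comm]; exact hrp
  have hrQ : q.Q r = 0 := by
    rw [hr, q.polar, Q_smul, hp, map_smul, smul_eq_mul, hv, mul_zero, add_zero, mul_one,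
      CharTwo.add_self_eq_zero]
  have hW : comp2 q p r = ⊥ := Submodule.finrank_eq_zero.1 (finrank_comp2 q hpr (k := 0) hd)
  have hdec : ∀ x : V, q.B x r • p + q.B x p • r = x := by
    intro x
    have h := comp2_ext q hpr x
    have h0 := proj_mem q hpr x
    rw [hW, Submodule.mem_bot] at h0
    rwa [h0, zero_add] at h
  have hsing : ∀ x : V, x ≠ 0 → q.Q x = 0 → x = p ∨ x = r := by
    intro x hx hQ
    have h := hdec x
    rcases zcases (q.B x r) with h1 | h1 <;> rcases zcases (q.B x p) with h2 | h2 <;>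
      rw [h1, h2] at h <;> simp only [zero_smul, one_smul, zero_add, add_zero] at h
    · exact absurd h.symm hx
    · exact Or.inr h.symm
    · exact Or.inl h.symm
    · rw [← h, q.polar, hp, hrQ, hpr] at hQ
      simp at hQ
  have hr0 : r ≠ 0 := fun h => by simp [h] at hrp
  have h22 : IsPGroup 2 (isoGroup q) := by
    intro g
    refine ⟨1, iso_ext fun x => ?_⟩
    rw [pow_one, pow_two, mul_apply]
    show g.1 (g.1 x) = x
    have hgp : g.1 p = p ∨ g.1 p = r := hsing _ (by simpa using hp0) ((g.2 p).trans hp)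
    have hgr : g.1 r = p ∨ g.1 r = r := hsing _ (by simpa using hr0) ((g.2 r).trans hrQ)
    have hne : g.1 p ≠ g.1 r := fun h => by
      have := g.1.injective h
      rw [this, B_self] at hrp
      exact zero_ne_one hrp
    have hh : g.1 (g.1 p) = p ∧ g.1 (g.1 r) = r := by
      rcases hgp with a | a <;> rcases hgr with b | b
      · exact absurd (a.trans b.symm) hne
      · exact ⟨by rw [a, a], by rw [b, b]⟩
      · exact ⟨by rw [a, b], by rw [b, a]⟩
      · exact absurd (a.trans b.symm) hne
    rw [← hdec x]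
    simp [hh.1, hh.2]
  have hall : ∀ K : Sylow 2 (isoGroup q), (K : Subgroup (isoGroup q)) = ⊤ := fun K =>
    (K.is_maximal' (h22.to_subgroup ⊤) le_top).symm
  rw [hall, hall, inf_top_eq]
  intro hbot
  let t : V →ₗ[ZMod 2] V := (q.B.flip p).smulRight p + (q.B.flip r).smulRight r
  have htt : ∀ x, t (t x) = x := fun x => by
    conv_rhs => rw [← hdec x]
    simp [t, B_self, hpr, hrp]
  have htQ : ∀ x, q.Q (t x) = q.Q x := fun x => by
    conv_rhs => rw [← hdec x]
    simp [t, q.polar, Q_smul, hp, hrQ, hpr, hrp, mul_comm]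
  let T : isoGroup q := ⟨LinearEquiv.ofInvolutive t htt, htQ⟩
  have hT : T ∈ (⊥ : Subgroup (isoGroup q)) := hbot ▸ Subgroup.mem_top T
  rw [Subgroup.mem_bot] at hT
  have := congrArg (fun g : isoGroup q => g.1 p) hT
  change t p = p at this
  simp [t, B_self, hpr] at this
  rw [this, B_self] at hrp
  exact zero_ne_one hrp

theorem sylow_inter_ne_bot : ∀ (k : ℕ), 1 ≤ k → ∀ (V : Type u) [AddCommGroup V] [Module (ZMod 2) V]
    [Finite V] (q : QSpace V), finrank (ZMod 2) V = 2 * k →
    ∀ L : Submodule (ZMod 2) V, k ≤ finrank (ZMod 2) L → (∀ v ∈ L, q.Q v = 0) →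
    ∀ H H' : Sylow 2 (isoGroup q), (H : Subgroup (isoGroup q)) ⊓ H' ≠ ⊥ := by
  have : Fact (Nat.Prime 2) := ⟨Nat.prime_two⟩
  intro k hk
  induction k, hk using Nat.le_induction with
  | base =>
    intro V _ _ _ q hd L hL hQ H H'
    have hLne : L ≠ ⊥ := fun h => by rw [h, finrank_bot] at hL; omega
    obtain ⟨p, hpL, hp0⟩ := (Submodule.ne_bot_iff L).1 hLne
    exact base_case hd hp0 (hQ p hpL) H H'
  | succ k hk ih =>
    intro V _ _ _ q hd L hL hQ H H'
    have hLne : L ≠ ⊥ := fun h => by rw [h, finrank_bot] at hL; omega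
    obtain ⟨p₀, hpL, hp₀⟩ := (Submodule.ne_bot_iff L).1 hLne
    obtain ⟨w₀, hw1, hw2, hw3⟩ := exists_orth (q := q) hp₀ (by omega)
    have hT := even_card_singular (hQ p₀ hpL) hp₀ hw1 hw2 hw3
    obtain ⟨p, hp0, hp, hH⟩ := exists_fixed hT _ H.isPGroup'
    obtain ⟨p', hp'0, hp', hH'⟩ := exists_fixed hT _ H'.isPGroup'
    have hK := radP_le_sylow H hH
    have hK' := radP_le_sylow H' hH'
    intro hbot
    rw [Subgroup.eq_bot_iff_forall] at hbot
    rcases zcases (q.B p p') with hb | hb
    · by_cases he : p = p'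
      · subst he
        obtain ⟨w, hwp, hw0, hw⟩ := exists_orth (q := q) hp0 (by omega)
        exact eIso_ne_one q hp hp0 hwp hw0 hw (hbot _ ⟨hK (eIso_mem_radP q hp hwp),
          hK' (eIso_mem_radP q hp hwp)⟩)
      · have hwp : q.B p' p = 0 := by rw [B_comm]; exact hb
        refine eIso_ne_one q hp hp0 hwp hp'0 (Ne.symm he)
          (hbot _ ⟨hK (eIso_mem_radP q hp hwp), hK' ⟨?_, fun v hv => ?_⟩⟩)
        · rw [eIso_apply, hwp, hp', B_self]
          simp
        · rw [eIso_apply, hv, hp']
          rcases zcases (q.B v p) with h | h <;> rw [h] <;> simp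
    · have hb' : q.B p' p = 1 := by rw [B_comm]; exact hb
      obtain ⟨S, hS⟩ := sylow_subgroupOf q hb hp hp' H hH
      obtain ⟨S', hS'⟩ := sylow_subgroupOf q hb' hp' hp H' hH'
      obtain ⟨M, hM, hMQ⟩ := exists_isotropic q hb hp L hL hQ
      have hsur := res_surjective q hb hp hp'
      have hinj := res_injective q hb
      have hswap : pairStab q p' p = pairStab q p p' := inf_comm _ _
      obtain ⟨S'', hS''⟩ : ∃ S'' : Sylow 2 (pairStab q p p'),
          (S'' : Subgroup (pairStab q p p')) =
            (H' : Subgroup (isoGroup q)).subgroupOf (pairStab q p p') := by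
        rw [← hswap]; exact ⟨S', hS'⟩
      apply ih (comp2 q p p') (restrict q hb) (finrank_comp2 q hb hd) M hM hMQ
        (S.mapSurjective hsur) (S''.mapSurjective hsur)
      rw [Sylow.coe_mapSurjective, Sylow.coe_mapSurjective, ← Subgroup.map_inf _ _ _ hinj,
        Subgroup.map_eq_bot_iff_of_injective _ hinj, Subgroup.eq_bot_iff_forall]
      intro z hz
      rw [hS, hS'', Subgroup.mem_inf, Subgroup.mem_subgroupOf, Subgroup.mem_subgroupOf] at hz
      exact Subtype.ext (hbot _ hz)

end Cfsg.Agent.H46.OrthoMeet
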