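import Cfsg.Agent.H81.FullyRamified
import Cfsg.Agent.H80.FullyRamified
import Cfsg.Agent.Cores.Basic

/-!
Quotients of groups with a fully ramified character: complements to Sylow subgroups.
-/

open scoped ComplexConjugate
open Cfsg.Agent.CharBasic Cfsg.Agent.CharInduce

namespace Cfsg.Agent.H46.RamifiedQuot

set_option linter.style.haveILetI false
set_option linter.unusedSectionVars false

universe u

section Over

variable {G : Type u} [Group G] [Fintype G] (Z : Subgroup G) [Z.Normal] [Fintype Z]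
  {θ : Z → ℂ} (hθ : IsIrrCharacter Z θ) (hinv : ∀ x : G, conjFun Z θ x = θ)

/-- `ψ` restricted to `Z` is proportional to `θ`. -/
def Over {R : Subgroup G} (hZR : Z ≤ R) (θ : Z → ℂ) (ψ : R → ℂ) : Prop :=
  ∀ z : Z, ψ ⟨z, hZR z.2⟩ * θ 1 = ψ 1 * θ z

include hθ in
theorem inner_of_over {R : Subgroup G} (hZR : Z ≤ R) {ψ : R → ℂ} (h : Over Z hZR θ ψ) :
    classInner (fun z : Z => ψ ⟨z, hZR z.2⟩) θ = ψ 1 / θ 1 := by
  have h1 := IsIrr.one_ne_zero hθ
  rw [show (fun z : Z => ψ ⟨z, hZR z.2⟩) = (ψ 1 / θ 1) • θ from funext fun z => by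
      rw [Pi.smul_apply, smul_eq_mul, div_mul_eq_mul_div, ← h z, mul_div_assoc, div_self h1,
        mul_one],
    classInner_smul_left, classInner_irr_self hθ, mul_one]

include hθ in
theorem over_of_inner {R : Subgroup G} (hZR : Z ≤ R) {ψ : R → ℂ} {c : ℂ}
    (h : ∀ z : Z, ψ ⟨z, hZR z.2⟩ = c * θ z) : Over Z hZR θ ψ := by
  intro z
  have := h 1
  rw [show (⟨((1 : Z) : G), hZR (1 : Z).2⟩ : R) = 1 from rfl] at this
  rw [h z, this]
  ring

variable {e c₀ k : ℕ} {ν : G → ℂ} (hν : IsCharacter G ν)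
  (hνe : ∀ z : Z, ν z = (e : ℂ) * θ z) (hνoff : ∀ g, g ∉ Z → ν g = 0)
  (hc₀ : Z.index = c₀ ^ 2) (hek : e = c₀ * k) (hk : Nat.Coprime k c₀)

include hθ hinv hν hνe hνoff hc₀ hek hk

/-- An irreducible character over `θ` is determined. -/
theorem over_unique {η : G → ℂ} (hη : IsIrrCharacter G η)
    (h : classInner (fun z : Z => η z) θ ≠ 0) :
    (∀ z : Z, η z = (c₀ : ℂ) * θ z) ∧ ∀ g, g ∉ Z → η g = 0 := by
  classical
  obtain ⟨c, hc⟩ := classInner_isChar_nat (IsChar.res (IsIrr.isCharacter hη) Z)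
    (IsIrr.isCharacter hθ)
  have hres : ∀ z : Z, η z = (c : ℂ) * θ z := fun z => by
    rw [H81.res_eq_mul Z hθ hinv hη h z, hc]
  have hcpos : 0 < c := Nat.pos_of_ne_zero fun h0 => h (by rw [hc, h0, Nat.cast_zero])
  have hθsum : ∑ z : Z, θ z * conj (θ z) = (Nat.card Z : ℂ) := by
    have h := classInner_irr_self hθ
    rwa [classInner_def, inv_mul_eq_one₀ (card_ne_zero_complex Z), eq_comm] at h
  obtain ⟨m, hm⟩ := classInner_isChar_nat hν (IsIrr.isCharacter hη)
  have hmul : m * Z.index = e * c := by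
    have h1 : classInner ν η * (Nat.card G : ℂ) = (e * c : ℕ) * (Nat.card Z : ℂ) := by
      rw [classInner_def, mul_comm, ← mul_assoc, mul_inv_cancel₀ (card_ne_zero_complex G), one_mul,
        ← Finset.sum_subset (Finset.subset_univ (Finset.univ.filter (· ∈ Z)))
          (fun x _ hx => by rw [hνoff x (by simpa using hx), zero_mul]),
        Finset.sum_subtype (Finset.univ.filter (· ∈ Z)) (p := (· ∈ Z)) (F := inferInstance)
          (fun x => by simp)]
      simp only [hνe, hres, map_mul, Complex.conj_natCast]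
      rw [← hθsum, Finset.mul_sum]
      exact Finset.sum_congr rfl fun z _ => by push_cast; ring
    rw [hm, ← Subgroup.index_mul_card Z, Nat.cast_mul, ← mul_assoc] at h1
    exact_mod_cast mul_right_cancel₀ (card_ne_zero_complex Z) h1
  have hle : c ^ 2 ≤ Z.index := by
    have hG : ∑ g : G, ‖η g‖ ^ 2 = (Nat.card G : ℝ) := by
      have h := classInner_irr_self hη
      rw [classInner_self_eq, Complex.ofReal_eq_one,
        inv_mul_eq_one₀ (Nat.cast_ne_zero.2 Nat.card_pos.ne')] at h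
      exact h.symm
    have hZ : ∑ z : Z, ‖θ z‖ ^ 2 = (Nat.card Z : ℝ) := by
      have h := classInner_irr_self hθ
      rw [classInner_self_eq, Complex.ofReal_eq_one,
        inv_mul_eq_one₀ (Nat.cast_ne_zero.2 Nat.card_pos.ne')] at h
      exact h.symm
    have h1 : ∑ z : Z, ‖η z‖ ^ 2 ≤ ∑ g : G, ‖η g‖ ^ 2 := by
      rw [← Finset.sum_subtype (Finset.univ.filter (· ∈ Z)) (p := (· ∈ Z)) (F := inferInstance)
        (fun x => by simp) (fun g => ‖η g‖ ^ 2)]
      exact Finset.sum_le_univ_sum_of_nonneg fun g => by positivity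
    simp only [hres, norm_mul, Complex.norm_natCast, mul_pow, ← Finset.mul_sum] at h1
    rw [hZ, hG, ← Subgroup.index_mul_card Z, Nat.cast_mul, ← Nat.cast_pow] at h1
    exact_mod_cast le_of_mul_le_mul_right h1 (Nat.cast_pos.2 Nat.card_pos)
  have hc₀0 : 0 < c₀ := by
    refine Nat.pos_of_ne_zero fun h0 => Z.index_ne_zero_of_finite ?_
    rw [hc₀, h0]; rfl
  have hcc : c = c₀ := by
    have h1 : m * c₀ = k * c := by
      apply Nat.eq_of_mul_eq_mul_left hc₀0
      rw [hc₀, hek] at hmul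
      linarith [hmul, show c₀ * (m * c₀) = m * c₀ ^ 2 by ring]
    have h2 : c₀ ∣ c := hk.symm.dvd_of_dvd_mul_left ⟨m, by rw [← h1]; ring⟩
    refine le_antisymm ?_ (Nat.le_of_dvd hcpos h2)
    rw [hc₀] at hle
    exact (Nat.pow_le_pow_iff_left (by norm_num)).1 hle
  subst hcc
  exact ⟨hres, fun g hg => H81.eq_zero_of_fully_ramified Z hη hθ hc₀.symm hres hg⟩

theorem exists_over : ∃ η : G → ℂ, IsIrrCharacter G η ∧
    (∀ z : Z, η z = (c₀ : ℂ) * θ z) ∧ ∀ g, g ∉ Z → η g = 0 := by
  have h0 : indFun Z θ ≠ 0 := fun h => by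
    have h1 := congrFun h 1
    rw [indFun_one, Pi.zero_apply, mul_eq_zero, Nat.cast_eq_zero] at h1
    exact h1.elim Z.index_ne_zero_of_finite (IsIrr.one_ne_zero hθ)
  obtain ⟨η, hη⟩ := exists_constituent (IsChar.ind Z (IsIrr.isCharacter hθ)) h0
  refine ⟨η, η.2, over_unique Z hθ hinv hν hνe hνoff hc₀ hek hk η.2 ?_⟩
  rw [classInner_indFun_left Z θ _ (IsIrr.isClassFunction η.2)] at hη
  rw [← conj_classInner]
  exact fun h => hη (by simpa using h)

variable {R : Subgroup G} [R.Normal] [Fintype R] (hZR : Z ≤ R) {η : G → ℂ}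
  (hη : IsIrrCharacter G η) (hηe : ∀ z : Z, η z = (c₀ : ℂ) * θ z)
  (hηoff : ∀ g, g ∉ Z → η g = 0)

include hη hηe hηoff

/-- Everything on `R` over `θ` is a constituent of `η`. -/
theorem inner_res_ne {ψ : R → ℂ} (hψ : IsIrrCharacter R ψ) (ho : Over Z hZR θ ψ) :
    classInner (fun r : R => η r) ψ ≠ 0 := by
  classical
  have h0 : indFun R ψ ≠ 0 := fun h => by
    have h1 := congrFun h 1
    rw [indFun_one, Pi.zero_apply, mul_eq_zero, Nat.cast_eq_zero] at h1
    exact h1.elim R.index_ne_zero_of_finite (IsIrr.one_ne_zero hψ)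
  obtain ⟨ξ, hξ⟩ := exists_constituent (IsChar.ind R (IsIrr.isCharacter hψ)) h0
  rw [classInner_indFun_left R ψ _ (IsIrr.isClassFunction ξ.2)] at hξ
  have hξ' : classInner (fun r : R => (ξ : G → ℂ) r) ψ ≠ 0 := by
    rw [← conj_classInner]
    exact fun h => hξ (by simpa using h)
  obtain ⟨r, hr, he⟩ := IsChar.exists_eq_add (IsChar.res (IsIrr.isCharacter ξ.2) R) hψ hξ'
  obtain ⟨b, hb⟩ := classInner_isChar_nat (IsChar.comp hr (Subgroup.inclusion hZR))
    (IsIrr.isCharacter hθ)
  obtain ⟨a, ha⟩ := classInner_isChar_nat (IsChar.comp (IsIrr.isCharacter hψ)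
    (Subgroup.inclusion hZR)) (IsIrr.isCharacter hθ)
  have ha0 : a ≠ 0 := by
    rintro rfl
    have := inner_of_over Z hθ hZR ho
    rw [show classInner (fun z : Z => ψ ⟨z, hZR z.2⟩) θ = ((0 : ℕ) : ℂ) from ha, Nat.cast_zero,
      eq_comm, div_eq_zero_iff] at this
    exact this.elim (IsIrr.one_ne_zero hψ) (IsIrr.one_ne_zero hθ)
  have hne : classInner (fun z : Z => (ξ : G → ℂ) z) θ ≠ 0 := by
    rw [show (fun z : Z => (ξ : G → ℂ) z) =
        (fun z : Z => ψ (Subgroup.inclusion hZR z)) + fun z : Z => r (Subgroup.inclusion hZR z)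
      from funext fun z => congrFun he (Subgroup.inclusion hZR z), classInner_add_left, ha, hb,
      ← Nat.cast_add, Nat.cast_ne_zero]
    omega
  obtain ⟨h1, h2⟩ := over_unique Z hθ hinv hν hνe hνoff hc₀ hek hk ξ.2 hne
  have heq : (ξ : G → ℂ) = η := funext fun g => by
    by_cases hg : g ∈ Z
    · exact (h1 ⟨g, hg⟩).trans (hηe ⟨g, hg⟩).symm
    · rw [h2 g hg, hηoff g hg]
  rwa [heq] at hξ'

/-- The inertia group and the multiplicity. -/
theorem inertia_card {ψ : R → ℂ} (hψ : IsIrrCharacter R ψ) (ho : Over Z hZR θ ψ) :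
    ∃ g : ℕ, 0 < g ∧ classInner (fun r : R => η r) ψ = g ∧
      Nat.card (inertia R ψ) = g ^ 2 * Nat.card R := by
  classical
  obtain ⟨g, hg⟩ := classInner_isChar_nat (IsChar.res (IsIrr.isCharacter hη) R)
    (IsIrr.isCharacter hψ)
  have hne := inner_res_ne Z hθ hinv hν hνe hνoff hc₀ hek hk hZR hη hηe hηoff hψ ho
  refine ⟨g, Nat.pos_of_ne_zero fun h => hne (by rw [hg, h, Nat.cast_zero]), hg, ?_⟩
  set ηR := fun r : R => η r
  have hnorm : (Nat.card R : ℂ) * classInner ηR ηR = (Nat.card G : ℂ) := by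
    have h := classInner_irr_self hη
    rw [classInner_def, inv_mul_eq_one₀ (card_ne_zero_complex G)] at h
    rw [classInner_def, ← mul_assoc, mul_inv_cancel₀ (card_ne_zero_complex R), one_mul, h,
      ← Finset.sum_subset (Finset.subset_univ (Finset.univ.filter (· ∈ R)))
        (fun x _ hx => by
          rw [hηoff x (fun hz => (by simpa using hx : x ∉ R) (hZR hz)), zero_mul]),
      Finset.sum_subtype (Finset.univ.filter (· ∈ R)) (p := (· ∈ R)) (F := inferInstance)
        (fun x => by simp)]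
  have h := congrArg (fun f => classInner f ηR) (clifford_avg R hη hψ hne)
  simp only [classInner_smul_left, classInner_sum_left] at h
  have hconj : ∀ x : G, classInner (conjFun R ψ x) ηR = (g : ℂ) := fun x => by
    rw [← conj_classInner, classInner_res_conjFun R (IsIrr.isClassFunction hη) ψ x, hg,
      Complex.conj_natCast]
  simp only [hconj, Finset.sum_const, Finset.card_univ, nsmul_eq_mul,
    ← Nat.card_eq_fintype_card] at h
  have h2 : (Nat.card (inertia R ψ) : ℂ) * (Nat.card G : ℂ) =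
      ((g ^ 2 * Nat.card R : ℕ) : ℂ) * (Nat.card G : ℂ) := by
    calc (Nat.card (inertia R ψ) : ℂ) * (Nat.card G : ℂ)
        = (Nat.card R : ℂ) * ((Nat.card (inertia R ψ) : ℂ) * classInner ηR ηR) := by
          rw [← hnorm]; ring
      _ = _ := by rw [h, show classInner (fun r : R => η r) ψ = (g : ℂ) from hg]; push_cast; ring
  exact_mod_cast mul_right_cancel₀ (card_ne_zero_complex G) h2

/-- With cyclic quotient the inertia group is `R`. -/
theorem inner_eq_one_of_cyclic (hcyc : IsCyclic (G ⧸ R)) {ψ : R → ℂ}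
    (hψ : IsIrrCharacter R ψ) (ho : Over Z hZR θ ψ) :
    classInner (fun r : R => η r) ψ = 1 := by
  classical
  have hne := inner_res_ne Z hθ hinv hν hνe hνoff hc₀ hek hk hZR hη hηe hηoff hψ ho
  set T := inertia R ψ with hT
  obtain ⟨φ, hφ, hind, f, hf0, hf⟩ := exists_clifford_correspondent R hη hψ hne
  have hle : R ≤ T := le_inertia R (IsIrr.isClassFunction hψ)
  haveI : Fintype T := Fintype.ofFinite T
  haveI : Fintype (R.subgroupOf T) := Fintype.ofFinite _
  let ε := Subgroup.subgroupOfEquivOfLe hle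
  let ψ' : R.subgroupOf T → ℂ := fun n => ψ (ε n)
  have hψ' : IsIrrCharacter (R.subgroupOf T) ψ' := IsIrr.comp hψ ε.toMonoidHom ε.surjective
  have hinv' : ∀ x : T, conjFun (R.subgroupOf T) ψ' x = ψ' := by
    intro x
    funext n
    exact congrFun (show conjFun R ψ (x : G) = ψ from x.2) (ε n)
  have hcyc' : IsCyclic (T ⧸ R.subgroupOf T) := by
    have hker : R.subgroupOf T ≤ ((QuotientGroup.mk' R).comp T.subtype).ker := fun x hx =>
      (QuotientGroup.eq_one_iff _).2 hx
    refine isCyclic_of_injective (QuotientGroup.lift _ ((QuotientGroup.mk' R).comp T.subtype) hker) ?_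
    rw [injective_iff_map_eq_one]
    intro q hq
    obtain ⟨x, rfl⟩ := QuotientGroup.mk'_surjective _ q
    exact (QuotientGroup.eq_one_iff x).2
      (Subgroup.mem_subgroupOf.2 ((QuotientGroup.eq_one_iff (x : G)).1 hq))
  have hφres : ∀ n : R.subgroupOf T, φ (n : T) = (f : ℂ) * ψ' n := fun n => hf (ε n)
  have hmem : (⟨φ, hφ⟩ : IrrCharacter T) ∈ above (R.subgroupOf T) ψ' := by
    rw [mem_above, classInner_indFun_left _ _ _ (IsIrr.isClassFunction hφ), funext hφres,
      show (fun n => (f : ℂ) * ψ' n) = (f : ℂ) • ψ' from rfl, classInner_smul_right,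
      classInner_irr_self hψ', mul_one, Complex.conj_natCast, Nat.cast_ne_zero]
    exact hf0.ne'
  have h1 := (H80.FullyRamified.above_invariant_cyclic hψ' hinv' hcyc').2 _ hmem 1
  have hε : ψ' 1 = ψ 1 := congrArg ψ (map_one ε)
  have h2 : η 1 = (T.index : ℂ) * ψ 1 := by
    rw [← hind, indFun_one]
    congr 1
  rw [clifford_degree R hη hψ hne] at h2
  have hT0 : (T.index : ℂ) ≠ 0 := Nat.cast_ne_zero.2 T.index_ne_zero_of_finite
  have h3 : classInner (fun r : R => η r) ψ * ((T.index : ℂ) * ψ 1) = 1 * ((T.index : ℂ) * ψ 1) := by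
    rw [← mul_assoc, one_mul]; exact h2
  exact mul_right_cancel₀ (mul_ne_zero hT0 (IsIrr.one_ne_zero hψ)) h3

theorem exists_conj {ψ φ : R → ℂ} (hψ : IsIrrCharacter R ψ) (ho : Over Z hZR θ ψ)
    (hφ : IsIrrCharacter R φ) (hoφ : Over Z hZR θ φ) : ∃ x : G, φ = conjFun R ψ x :=
  exists_conjFun_eq_of_constituent R hη hψ hφ
    (inner_res_ne Z hθ hinv hν hνe hνoff hc₀ hek hk hZR hη hηe hηoff hψ ho)
    (inner_res_ne Z hθ hinv hν hνe hνoff hc₀ hek hk hZR hη hηe hηoff hφ hoφ)

theorem exists_base : ∃ ψ : R → ℂ, IsIrrCharacter R ψ ∧ Over Z hZR θ ψ := by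
  classical
  haveI : Fintype (Z.subgroupOf R) := Fintype.ofFinite _
  let ε := Subgroup.subgroupOfEquivOfLe hZR
  let θ' : Z.subgroupOf R → ℂ := fun n => θ (ε n)
  have hθ' : IsIrrCharacter (Z.subgroupOf R) θ' := IsIrr.comp hθ ε.toMonoidHom ε.surjective
  have h0 : indFun (Z.subgroupOf R) θ' ≠ 0 := fun h => by
    have h1 := congrFun h 1
    rw [indFun_one, Pi.zero_apply, mul_eq_zero, Nat.cast_eq_zero] at h1
    exact h1.elim (Z.subgroupOf R).index_ne_zero_of_finite (IsIrr.one_ne_zero hθ')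
  obtain ⟨ψ, hψ⟩ := exists_constituent (IsChar.ind _ (IsIrr.isCharacter hθ')) h0
  refine ⟨ψ, ψ.2, ?_⟩
  rw [classInner_indFun_left _ θ' _ (IsIrr.isClassFunction ψ.2)] at hψ
  have hψ' : classInner (fun n : Z.subgroupOf R => (ψ : R → ℂ) n) θ' ≠ 0 := by
    rw [← conj_classInner]
    exact fun h => hψ (by simpa using h)
  have hinv' : ∀ x : R, conjFun (Z.subgroupOf R) θ' x = θ' := fun x => funext fun n =>
    congrFun (hinv (x : G)) (ε n)
  exact over_of_inner Z hθ hZR fun z => H81.res_eq_mul _ hθ' hinv' ψ.2 hψ' (ε.symm z)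

end Over

section Main

variable {H : Type u} [Group H] [Fintype H]

/-- The subgroup fixing a function under conjugation. -/
def fixer (f : H → ℂ) : Subgroup H where
  carrier := {x | ∀ y, f (x * y * x⁻¹) = f y}
  one_mem' := fun y => by simp
  mul_mem' := fun {a b} ha hb y => by
    rw [show a * b * y * (a * b)⁻¹ = a * (b * y * b⁻¹) * a⁻¹ by group, ha, hb]
  inv_mem' := fun {a} ha y => by
    rw [← ha (a⁻¹ * y * a⁻¹⁻¹), show a * (a⁻¹ * y * a⁻¹⁻¹) * a⁻¹ = y by group]

theorem relIndex_eq_of_cover {A X S : Subgroup H} (hA : A ≤ X) (hS : S ≤ X)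
    (hcov : ∀ x ∈ X, ∃ s ∈ S, s * x ∈ A) : A.relIndex X = A.relIndex S := by
  rw [Subgroup.relIndex, Subgroup.relIndex, Subgroup.index, Subgroup.index]
  symm
  let F : S ⧸ A.subgroupOf S → X ⧸ A.subgroupOf X := Quotient.map' (fun s => ⟨s, hS s.2⟩)
    fun a b hab => by
      rw [QuotientGroup.leftRel_apply] at hab ⊢
      exact hab
  refine Nat.card_congr (Equiv.ofBijective F ⟨?_, ?_⟩)
  · intro q r hqr
    induction q using QuotientGroup.induction_on with | _ a => ?_
    induction r using QuotientGroup.induction_on with | _ b => ?_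
    exact QuotientGroup.eq.2 (QuotientGroup.eq.1 hqr :)
  · intro q
    induction q using QuotientGroup.induction_on with | _ x => ?_
    obtain ⟨s, hs, hsx⟩ := hcov x x.2
    refine ⟨QuotientGroup.mk ⟨s⁻¹, inv_mem hs⟩, QuotientGroup.eq.2 ?_⟩
    simpa [Subgroup.mem_subgroupOf] using hsx

theorem card_mul_relIndex {A B : Subgroup H} (h : A ≤ B) :
    Nat.card A * A.relIndex B = Nat.card B := by
  rw [← Subgroup.relIndex_bot_left, ← Subgroup.relIndex_bot_left,
    Subgroup.relIndex_mul_relIndex _ _ _ bot_le h]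

theorem relIndex_dvd_index_of_normal' (A K : Subgroup H) [K.Normal] :
    A.relIndex K ∣ A.index := by
  have h1 := Cores.card_sup_mul_card_inf A K
  have h2 := Subgroup.relIndex_mul_index (le_sup_left : A ≤ A ⊔ K)
  refine dvd_trans ⟨1, ?_⟩ (Dvd.intro _ h2)
  rw [mul_one]
  have hK : A.relIndex K * Nat.card (A ⊓ K : Subgroup H) = Nat.card K := by
    rw [← Subgroup.inf_relIndex_right, mul_comm, card_mul_relIndex inf_le_right]
  have hA : A.relIndex (A ⊔ K) * Nat.card A = Nat.card (A ⊔ K : Subgroup H) := by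
    rw [mul_comm, card_mul_relIndex le_sup_left]
  refine Nat.eq_of_mul_eq_mul_right (Nat.mul_pos (Nat.card_pos (α := A))
    (Nat.card_pos (α := (A ⊓ K : Subgroup H)))) ?_
  rw [show A.relIndex (A ⊔ K) * (Nat.card A * Nat.card (A ⊓ K : Subgroup H)) =
    A.relIndex (A ⊔ K) * Nat.card A * Nat.card (A ⊓ K : Subgroup H) by ring, hA, h1, ← hK]
  ring

variable (Z K : Subgroup H) [Z.Normal] [K.Normal] [Fintype Z]

/-- The key: a subgroup of `H / K` whose index is the `p`-part of the order. -/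
theorem exists_complement {χ : H → ℂ} (hχ : IsIrrCharacter H χ) {θ : Z → ℂ}
    (hθ : IsIrrCharacter Z θ) {e : ℕ} (he : e ^ 2 = Z.index)
    (hres : ∀ z : Z, χ z = (e : ℂ) * θ z) (hZK : Z ≤ K) (p : ℕ) [hp : Fact p.Prime]
    (hyp : (∀ A : Subgroup (H ⧸ K), IsPGroup p A → IsCyclic A) ∨
      ∃ φ : K → ℂ, IsCharacter K φ ∧ indFun K φ = χ) :
    ∃ M : Subgroup (H ⧸ K), M.index = p ^ (Nat.card (H ⧸ K)).factorization p := by
  classical
  have he0 : e ≠ 0 := fun h => Z.index_ne_zero_of_finite (by rw [← he, h]; rfl)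
  have heC : (e : ℂ) ≠ 0 := Nat.cast_ne_zero.2 he0
  have hθ1 := IsIrr.one_ne_zero hθ
  have hinv : ∀ x : H, conjFun Z θ x = θ := fun x => funext fun z => by
    have h1 := hres ⟨x * z * x⁻¹, Subgroup.Normal.conj_mem ‹Z.Normal› _ z.2 x⟩
    rw [IsIrr.isClassFunction hχ _ _, hres z] at h1
    exact (mul_left_cancel₀ heC h1).symm
  have hχoff := fun h (hh : h ∉ Z) => H81.eq_zero_of_fully_ramified Z hχ hθ he hres hh
  -- a Sylow subgroup over `Z`
  obtain ⟨S₀⟩ := (inferInstance : Nonempty (Sylow p H))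
  set S := (S₀ : Subgroup H) ⊔ Z with hS
  have hZS : Z ≤ S := le_sup_right
  have hSp : ¬ p ∣ S.index := fun h =>
    S₀.not_dvd_index (h.trans (Subgroup.index_dvd_of_le le_sup_left))
  obtain ⟨a, ha⟩ : ∃ a, Z.relIndex S = p ^ a := by
    obtain ⟨n, hn⟩ := IsPGroup.iff_card.1 S₀.isPGroup'
    have h1 := Cores.card_sup_mul_card_inf (S₀ : Subgroup H) Z
    rw [← hS] at h1
    rw [← card_mul_relIndex hZS, hn] at h1
    have h2 : Z.relIndex S ∣ p ^ n := ⟨Nat.card ((S₀ : Subgroup H) ⊓ Z : Subgroup H),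
      Nat.eq_of_mul_eq_mul_left (Nat.card_pos (α := Z)) (by rw [← mul_assoc, h1, mul_comm])⟩
    obtain ⟨a, -, ha⟩ := (Nat.dvd_prime_pow hp.out).1 h2
    exact ⟨a, ha⟩
  set c₀ := p ^ e.factorization p with hc₀def
  set k := e / c₀ with hkdef
  have hek : e = c₀ * k := (Nat.mul_div_cancel' (Nat.ordProj_dvd e p)).symm
  have hkp : ¬ p ∣ k := Nat.not_dvd_ordCompl hp.out he0
  have hk : Nat.Coprime k c₀ := ((hp.out.coprime_iff_not_dvd).2 hkp).symm.pow_right _
  have hSidx : Z.relIndex S * S.index = e ^ 2 := by rw [Subgroup.relIndex_mul_index hZS, he]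
  have hc₀ : Z.relIndex S = c₀ ^ 2 := by
    have h1 : a = 2 * e.factorization p := by
      have := congrArg (fun n => Nat.factorization n p) hSidx
      simp only [ha, Nat.factorization_mul (pow_ne_zero a hp.out.ne_zero) S.index_ne_zero_of_finite,
        Nat.factorization_pow, Finsupp.add_apply, Finsupp.smul_apply, smul_eq_mul,
        hp.out.factorization_self, Nat.factorization_eq_zero_of_not_dvd hSp, mul_one, add_zero] at this
      exact this
    rw [ha, h1, hc₀def, ← pow_mul, mul_comm]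
  set R := S ⊓ K with hR
  have hZR : Z ≤ R := le_inf hZS hZK
  have hRS : R ≤ S := inf_le_left
  haveI : (R.subgroupOf S).Normal := by
    rw [hR, Subgroup.inf_subgroupOf_left]
    infer_instance
  -- the data inside `S`
  haveI : Fintype S := Fintype.ofFinite S
  haveI : Fintype (Z.subgroupOf S) := Fintype.ofFinite _
  haveI : Fintype (R.subgroupOf S) := Fintype.ofFinite _
  let εZ := Subgroup.subgroupOfEquivOfLe hZS
  let θ' : Z.subgroupOf S → ℂ := fun n => θ (εZ n)
  have hθ' : IsIrrCharacter (Z.subgroupOf S) θ' := IsIrr.comp hθ εZ.toMonoidHom εZ.surjective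
  have hinv' : ∀ x : S, conjFun (Z.subgroupOf S) θ' x = θ' := fun x => funext fun n =>
    congrFun (hinv (x : H)) (εZ n)
  let ν : S → ℂ := fun s => χ s
  have hν : IsCharacter S ν := IsChar.res (IsIrr.isCharacter hχ) S
  have hνe : ∀ z : Z.subgroupOf S, ν z = (e : ℂ) * θ' z := fun z => hres (εZ z)
  have hνoff : ∀ s : S, s ∉ Z.subgroupOf S → ν s = 0 := fun s hs => hχoff s hs
  have hc₀' : (Z.subgroupOf S).index = c₀ ^ 2 := hc₀
  have hZR' : Z.subgroupOf S ≤ R.subgroupOf S := fun x hx => hZR hx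
  obtain ⟨η, hη, hηe, hηoff⟩ := exists_over _ hθ' hinv' hν hνe hνoff hc₀' hek hk
  obtain ⟨ψ, hψ, ho⟩ := exists_base _ hθ' hinv' hν hνe hνoff hc₀' hek hk hZR' hη hηe hηoff
  obtain ⟨g, hg0, hg, hgT⟩ :=
    inertia_card _ hθ' hinv' hν hνe hνoff hc₀' hek hk hZR' hη hηe hηoff hψ ho
  -- numbers
  obtain ⟨b, hb⟩ : ∃ b, R.relIndex S = p ^ b := by
    have h1 : R.relIndex S ∣ p ^ a := ha ▸ Dvd.intro_left _ (Subgroup.relIndex_mul_relIndex _ _ _ hZR hRS)
    obtain ⟨b, -, hb⟩ := (Nat.dvd_prime_pow hp.out).1 h1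
    exact ⟨b, hb⟩
  obtain ⟨t₁, ht₁, ht₁p⟩ : ∃ t₁, K.index = R.relIndex S * t₁ ∧ ¬ p ∣ t₁ := by
    refine ⟨(S ⊔ K).index, ?_, fun h => hSp (h.trans (Subgroup.index_dvd_of_le le_sup_left))⟩
    rw [← Subgroup.relIndex_mul_index (le_sup_right : K ≤ S ⊔ K)]
    congr 1
    rw [hR, Subgroup.inf_relIndex_left, Subgroup.relIndex_sup_right]
  have hRK : ¬ p ∣ R.relIndex K := by
    rw [hR, Subgroup.inf_relIndex_right]
    exact fun h => hSp (h.trans (relIndex_dvd_index_of_normal' S K))
  have hRcard : Nat.card (R.subgroupOf S) * R.relIndex S = Nat.card S :=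
    Subgroup.card_mul_index _
  have hg1 : g = 1 := by
    rcases hyp with hcyc | ⟨φ, hφ, hind⟩
    · have hc : IsCyclic (S ⧸ R.subgroupOf S) := by
        let f : S →* S.map (QuotientGroup.mk' K) :=
          ((QuotientGroup.mk' K).comp S.subtype).codRestrict _ fun x => ⟨x, x.2, rfl⟩
        have hker : R.subgroupOf S ≤ f.ker := fun x hx =>
          Subtype.ext ((QuotientGroup.eq_one_iff _).2 (Subgroup.mem_subgroupOf.1 hx).2)
        haveI : IsCyclic (S.map (QuotientGroup.mk' K)) := by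
          refine hcyc _ ?_
          rw [hS, Subgroup.map_sup, (Subgroup.map_eq_bot_iff Z).2
            (by rw [QuotientGroup.ker_mk']; exact hZK), sup_bot_eq]
          exact S₀.isPGroup'.map _
        refine isCyclic_of_injective (QuotientGroup.lift _ f hker) ?_
        rw [injective_iff_map_eq_one]
        intro q hq
        obtain ⟨x, rfl⟩ := QuotientGroup.mk'_surjective _ q
        exact (QuotientGroup.eq_one_iff x).2 (Subgroup.mem_subgroupOf.2
          ⟨x.2, (QuotientGroup.eq_one_iff (x : H)).1 (congrArg Subtype.val hq)⟩)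
      have := inner_eq_one_of_cyclic _ hθ' hinv' hν hνe hνoff hc₀' hek hk hZR' hη hηe hηoff hc hψ ho
      rw [hg] at this
      exact_mod_cast this
    · haveI : Fintype K := Fintype.ofFinite K
      -- `φ` lies over `θ`
      have hover : Over Z hZK θ φ := by
        haveI : Fintype (Z.subgroupOf K) := Fintype.ofFinite _
        let ιZ := Subgroup.inclusion hZK
        have hφZ : IsCharacter Z (fun z : Z => φ (ιZ z)) := IsChar.comp hφ ιZ
        have h0 : ∀ ξ : IrrCharacter Z, (ξ : Z → ℂ) ≠ θ →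
            classInner (fun z : Z => φ (ιZ z)) (ξ : Z → ℂ) = 0 := by
          intro ξ hξ
          have h1 : classInner (fun z : Z => χ z) (ξ : Z → ℂ) = 0 := by
            rw [show (fun z : Z => χ z) = (e : ℂ) • θ from funext hres, classInner_smul_left,
              classInner_irr_of_ne hθ ξ.2 (Ne.symm hξ), mul_zero]
          have h2 : (fun z : Z => χ z) = (Nat.card K : ℂ)⁻¹ •
              ∑ x : H, fun z : Z => conjFun K φ x (ιZ z) := by
            funext z
            rw [← hind, show ((z : H)) = ((ιZ z : K) : H) from rfl, indFun_normal_coe]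
            simp [Finset.sum_apply]
          rw [h2, classInner_smul_left, classInner_sum_left, mul_eq_zero] at h1
          have h3 := h1.resolve_left (inv_ne_zero (card_ne_zero_complex K))
          choose m hm using fun x : H => classInner_isChar_nat
            (IsChar.comp (isCharacter_conjFun K hφ x) ιZ) (IsIrr.isCharacter ξ.2)
          simp only [hm, ← Nat.cast_sum, Nat.cast_eq_zero, Finset.sum_eq_zero_iff] at h3
          have h4 := hm 1
          rw [h3 1 (Finset.mem_univ _), Nat.cast_zero, CharInduce.conjFun_one] at h4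
          exact h4
        refine over_of_inner Z hθ hZK (c := classInner (fun z : Z => φ (ιZ z)) θ) fun z => ?_
        have h5 := congrFun (classFunction_expansion (CharBasic.IsChar.isClassFunction hφZ)) z
        rw [Finset.sum_eq_single (⟨θ, hθ⟩ : IrrCharacter Z)
          (fun ξ _ hξ => by
            rw [h0 ξ fun h => hξ (Subtype.ext h), zero_smul])
          (fun h => absurd (Finset.mem_univ _) h)] at h5
        exact h5
      let ι : R.subgroupOf S →* K :=
        (S.subtype.comp (R.subgroupOf S).subtype).codRestrict K fun x =>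
          (Subgroup.mem_subgroupOf.1 x.2).2
      let φR : R.subgroupOf S → ℂ := fun r => φ (ι r)
      have hφR : IsCharacter _ φR := IsChar.comp hφ ι
      -- every constituent has the same degree
      have hdeg : ∀ ξ : IrrCharacter (R.subgroupOf S), classInner φR (ξ : _ → ℂ) ≠ 0 →
          (ξ : R.subgroupOf S → ℂ) 1 = ψ 1 := by
        intro ξ hξ
        obtain ⟨r, hr, hdec⟩ := IsChar.exists_eq_add hφR ξ.2 hξ
        have hξo : Over (Z.subgroupOf S) hZR' θ' (ξ : _ → ℂ) := by
          let ιZ := Subgroup.inclusion hZR'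
          have hξZ : IsCharacter (Z.subgroupOf S) (fun z => (ξ : _ → ℂ) (ιZ z)) :=
            IsChar.comp (IsIrr.isCharacter ξ.2) ιZ
          have h0 : ∀ ζ : IrrCharacter (Z.subgroupOf S), (ζ : _ → ℂ) ≠ θ' →
              classInner (fun z => (ξ : _ → ℂ) (ιZ z)) (ζ : _ → ℂ) = 0 := by
            intro ζ hζ
            obtain ⟨a₁, ha₁⟩ := classInner_isChar_nat hξZ (IsIrr.isCharacter ζ.2)
            obtain ⟨a₂, ha₂⟩ := classInner_isChar_nat (IsChar.comp hr ιZ) (IsIrr.isCharacter ζ.2)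
            have h1 : classInner (fun z => φR (ιZ z)) (ζ : _ → ℂ) = 0 := by
              rw [show (fun z => φR (ιZ z)) = (φ 1 / θ 1) • θ' from funext fun z => by
                rw [Pi.smul_apply, smul_eq_mul, div_mul_eq_mul_div, ← hover (εZ z), mul_div_assoc,
                  div_self hθ1, mul_one]
                rfl, classInner_smul_left, classInner_irr_of_ne hθ' ζ.2 (Ne.symm hζ), mul_zero]
            rw [show (fun z => φR (ιZ z)) = (fun z => (ξ : _ → ℂ) (ιZ z)) + fun z => r (ιZ z) from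
              funext fun z => congrFun hdec (ιZ z), classInner_add_left, ha₁, ha₂, ← Nat.cast_add,
              Nat.cast_eq_zero] at h1
            rw [ha₁, Nat.cast_eq_zero]
            omega
          refine over_of_inner _ hθ' hZR'
            (c := classInner (fun z => (ξ : _ → ℂ) (ιZ z)) θ') fun z => ?_
          have h5 := congrFun (classFunction_expansion (CharBasic.IsChar.isClassFunction hξZ)) z
          rw [Finset.sum_eq_single (⟨θ', hθ'⟩ : IrrCharacter (Z.subgroupOf S))
            (fun ζ _ hζ => by rw [h0 ζ fun h => hζ (Subtype.ext h), zero_smul])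
            (fun h => absurd (Finset.mem_univ _) h)] at h5
          exact h5
        obtain ⟨x, hx⟩ :=
          exists_conj _ hθ' hinv' hν hνe hνoff hc₀' hek hk hZR' hη hηe hηoff hψ ho ξ.2 hξo
        rw [hx]
        exact congrArg ψ (Subtype.ext (by simp))
      obtain ⟨n, hn⟩ : ∃ n : ℕ, φ 1 = (n : ℂ) * ψ 1 := by
        choose m hm using fun ξ : IrrCharacter (R.subgroupOf S) =>
          classInner_isChar_nat hφR (IsIrr.isCharacter ξ.2)
        refine ⟨∑ ξ, m ξ, ?_⟩
        have h1 := congrFun (classFunction_expansion (CharBasic.IsChar.isClassFunction hφR)) 1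
        rw [show φ 1 = φR 1 from congrArg φ (map_one ι).symm, h1, Finset.sum_apply, Nat.cast_sum,
          Finset.sum_mul]
        refine Finset.sum_congr rfl fun ξ _ => ?_
        rw [Pi.smul_apply, smul_eq_mul, hm]
        by_cases h : classInner φR (ξ : _ → ℂ) = 0
        · rw [← hm, h, zero_mul, zero_mul]
        · rw [hdeg ξ h]
      have hne := inner_res_ne _ hθ' hinv' hν hνe hνoff hc₀' hek hk hZR' hη hηe hηoff hψ ho
      have hd := clifford_degree _ hη hψ hne
      rw [hg] at hd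
      have hη1 : η 1 = (c₀ : ℂ) * θ 1 := by
        have := hηe 1
        rwa [show θ' 1 = θ 1 from congrArg θ (map_one εZ)] at this
      have hχ1 : (e : ℂ) * θ 1 = (K.index : ℂ) * φ 1 := by
        rw [← indFun_one K φ, hind]
        exact (hres 1).symm
      set T := inertia (R.subgroupOf S) ψ
      have hTi : T.index * g ^ 2 = R.relIndex S := by
        apply Nat.eq_of_mul_eq_mul_left (Nat.card_pos (α := R.subgroupOf S))
        rw [hRcard, ← Subgroup.card_mul_index T, hgT]
        ring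
      -- degree comparison
      have key : k * R.relIndex S = K.index * n * g := by
        have h1 : ((K.index * n * g * (T.index * g) : ℕ) : ℂ) * ψ 1
            = ((k * R.relIndex S * (T.index * g) : ℕ) : ℂ) * ψ 1 := by
          calc ((K.index * n * g * (T.index * g) : ℕ) : ℂ) * ψ 1
              = (K.index : ℂ) * φ 1 * ((T.index * g ^ 2 : ℕ) : ℂ) := by rw [hn]; push_cast; ring
            _ = (e : ℂ) * θ 1 * (R.relIndex S : ℂ) := by rw [← hχ1, hTi]
            _ = (k : ℂ) * (η 1) * (R.relIndex S : ℂ) := by rw [hη1, hek]; push_cast; ring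
            _ = _ := by rw [hd]; push_cast; ring
        have h2 := mul_right_cancel₀ (IsIrr.one_ne_zero hψ) h1
        exact (Nat.eq_of_mul_eq_mul_right
          (Nat.mul_pos (Nat.pos_of_ne_zero T.index_ne_zero_of_finite) hg0) (Nat.cast_inj.1 h2)).symm
      have hgk : g ∣ k := by
        refine ⟨t₁ * n, Nat.eq_of_mul_eq_mul_left (hb ▸ pow_pos hp.out.pos b :
          0 < R.relIndex S) ?_⟩
        rw [mul_comm, key, ht₁]
        ring
      have hgp : g ∣ p ^ b := by
        rw [← hb, ← hTi]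
        exact Dvd.dvd.mul_left (dvd_pow_self g two_ne_zero) _
      obtain ⟨i, -, rfl⟩ := (Nat.dvd_prime_pow hp.out).1 hgp
      rcases Nat.eq_zero_or_pos i with rfl | hi
      · rfl
      · exact absurd ((dvd_pow_self p hi.ne').trans hgk) hkp
  rw [hg1, one_pow, one_mul] at hgT
  have hinert : inertia (R.subgroupOf S) ψ = R.subgroupOf S :=
    (Subgroup.eq_of_le_of_card_ge (le_inertia _ (IsIrr.isClassFunction hψ)) hgT.le).symm
  -- transfer to functions on `H`
  let f : H → ℂ := fun y => if h : y ∈ R then ψ ⟨⟨y, hRS h⟩, h⟩ else 0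
  have hf : ∀ r : R.subgroupOf S, f ((r : S) : H) = ψ r := fun r => by
    simp only [f, dif_pos (Subgroup.mem_subgroupOf.1 r.2)]
  set N := Subgroup.normalizer (R : Set H) with hN
  have hNmem : ∀ x ∈ N, ∀ y, x * y * x⁻¹ ∈ R ↔ y ∈ R := fun x hx y =>
    (Subgroup.mem_normalizer_iff.1 hx y).symm
  have hSN : S ≤ N := by
    intro s hs
    rw [hN, Subgroup.mem_normalizer_iff]
    intro y
    have h1 : ∀ t ∈ S, ∀ y ∈ R, t * y * t⁻¹ ∈ R := fun t ht y hy =>
      (Subgroup.Normal.conj_mem ‹(R.subgroupOf S).Normal› ⟨y, hRS hy⟩ hy ⟨t, ht⟩ :)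
    refine ⟨h1 s hs y, fun h => ?_⟩
    have := h1 s⁻¹ (inv_mem hs) _ h
    simpa [mul_assoc] using this
  set M0 := fixer f ⊓ N with hM0
  have hcov : ∀ x ∈ N, ∃ s ∈ S, s * x ∈ M0 := by
    intro x₀ hx₀
    set x := x₀⁻¹ with hxdef
    have hx : x ∈ N := inv_mem hx₀
    let α : R.subgroupOf S →* R.subgroupOf S :=
      { toFun := fun r => ⟨⟨x * ((r : S) : H) * x⁻¹, hRS ((hNmem x hx _).2 r.2)⟩,
          (hNmem x hx _).2 r.2⟩
        map_one' := by ext; simp
        map_mul' := fun r r' => by ext; simp [mul_assoc] }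
    have hα : Function.Surjective α := fun r => by
      have hmm : x⁻¹ * ((r : S) : H) * x ∈ R := (hNmem x hx _).1 (by
        rw [show x * (x⁻¹ * ((r : S) : H) * x) * x⁻¹ = ((r : S) : H) by group]
        exact Subgroup.mem_subgroupOf.1 r.2)
      exact ⟨⟨⟨_, hRS hmm⟩, hmm⟩, by ext; simp [α, mul_assoc]⟩
    let φ : R.subgroupOf S → ℂ := fun r => ψ (α r)
    have hφ : IsIrrCharacter _ φ := IsIrr.comp hψ α hα
    have hoφ : Over (Z.subgroupOf S) hZR' θ' φ := by
      intro z
      have hmem : x * ((z : S) : H) * x⁻¹ ∈ Z := Subgroup.Normal.conj_mem ‹Z.Normal› _ z.2 x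
      have h1 := ho ⟨⟨x * ((z : S) : H) * x⁻¹, hZS hmem⟩, hmem⟩
      rw [show φ 1 = ψ 1 from congrArg ψ (map_one α),
        show θ' z = θ (εZ z) from rfl, ← congrFun (hinv x) (εZ z)]
      exact h1
    obtain ⟨s, hs⟩ :=
      exists_conj _ hθ' hinv' hν hνe hνoff hc₀' hek hk hZR' hη hηe hηoff hψ ho hφ hoφ
    refine ⟨(s : H), s.2, ?_⟩
    have hm : x * (s : H)⁻¹ ∈ M0 := by
      have hmN : x * (s : H)⁻¹ ∈ N := mul_mem hx (hSN (inv_mem s.2))
      refine ⟨fun y => ?_, hmN⟩
      by_cases hy : y ∈ R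
      · have hr' : (s : H)⁻¹ * y * (s : H)⁻¹⁻¹ ∈ R :=
          (hNmem _ (hSN (inv_mem s.2)) y).2 hy
        let r' : R.subgroupOf S := ⟨⟨_, hRS hr'⟩, hr'⟩
        have e1 : x * (s : H)⁻¹ * y * (x * (s : H)⁻¹)⁻¹ = ((α r' : S) : H) := by
          simp [α, r', mul_assoc]
        have e2 : y = (((⟨⟨y, hRS hy⟩, hy⟩ : R.subgroupOf S) : S) : H) := rfl
        rw [e1, hf]
        conv_rhs => rw [e2, hf]
        refine (congrFun hs r').trans (congrArg ψ (Subtype.ext (Subtype.ext ?_)))
        simp [r', mul_assoc]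
      · have hy' : x * (s : H)⁻¹ * y * (x * (s : H)⁻¹)⁻¹ ∉ R := fun h => hy ((hNmem _ hmN y).1 h)
        simp only [f, dif_neg hy, dif_neg hy']
    have := inv_mem hm
    simpa [hxdef] using this
  have hRM0 : R ≤ M0 := by
    intro r hr
    refine ⟨fun y => ?_, hSN (hRS hr)⟩
    by_cases hy : y ∈ R
    · have hy' : r * y * r⁻¹ ∈ R := mul_mem (mul_mem hr hy) (inv_mem hr)
      simp only [f, dif_pos hy, dif_pos hy']
      have h1 : (⟨r, hRS hr⟩ : S) ∈ inertia (R.subgroupOf S) ψ := by rw [hinert]; exact hr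
      exact congrFun h1 ⟨⟨y, hRS hy⟩, hy⟩
    · have hy' : r * y * r⁻¹ ∉ R := fun h => hy ((hNmem _ (hSN (hRS hr)) y).1 h)
      simp only [f, dif_neg hy, dif_neg hy']
  have hM0S : ∀ s ∈ S, s ∈ M0 → s ∈ R := by
    intro s hs hm
    have h1 : (⟨s, hs⟩ : S) ∈ inertia (R.subgroupOf S) ψ := funext fun r => by
      have h2 := hm.1 ((r : S) : H)
      rw [hf] at h2
      rw [← h2]
      exact (hf ⟨⟨s * ((r : S) : H) * s⁻¹, _⟩,
        Subgroup.Normal.conj_mem ‹(R.subgroupOf S).Normal› _ r.2 ⟨s, hs⟩⟩).symm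
    rw [hinert] at h1
    exact h1
  have hM0N : M0.relIndex N = R.relIndex S := by
    rw [relIndex_eq_of_cover inf_le_right hSN hcov, ← Subgroup.inf_relIndex_right M0 S]
    congr 1
    exact le_antisymm (fun s hs => hM0S s hs.2 hs.1) (le_inf hRM0 hRS)
  have hLM0 : N ⊓ K ≤ M0 := by
    rw [← Subgroup.relIndex_eq_one]
    have h1 : M0.relIndex (N ⊓ K) ∣ p ^ b := by
      rw [← hb, ← hM0N]
      haveI : (K.subgroupOf N).Normal := inferInstance
      have := relIndex_dvd_index_of_normal' (M0.subgroupOf N) (K.subgroupOf N)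
      rwa [show K.subgroupOf N = (N ⊓ K).subgroupOf N from (Subgroup.inf_subgroupOf_left _ _).symm,
        Subgroup.relIndex_subgroupOf inf_le_left] at this
    have h2 : M0.relIndex (N ⊓ K) ∣ R.relIndex K :=
      (Subgroup.relIndex_dvd_of_le_left _ hRM0).trans (Dvd.intro _ (Subgroup.relIndex_mul_relIndex _ _ _
        (le_inf (hRS.trans hSN) inf_le_right) inf_le_right))
    exact Nat.eq_one_of_dvd_coprimes (((hp.out.coprime_iff_not_dvd).2 hRK).pow_left b) h1 h2
  -- the Frattini argument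
  have hfrat : N ⊔ K = ⊤ := by
    set A := (S₀ : Subgroup H) ⊓ K with hA
    have hAK : ¬ p ∣ (A.subgroupOf K).index := by
      rw [hA, Subgroup.inf_subgroupOf_right]
      exact fun h => S₀.not_dvd_index (h.trans (relIndex_dvd_index_of_normal' _ K))
    let P : Sylow p K := (S₀.isPGroup'.to_le inf_le_left : IsPGroup p A).comap_subtype.toSylow hAK
    have hP : (P : Subgroup K).map K.subtype = A := by
      change (A.subgroupOf K).map K.subtype = A
      rw [Subgroup.subgroupOf_map_subtype, inf_eq_left]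
      exact inf_le_right
    have h1 := Sylow.normalizer_sup_eq_top P
    rw [hP] at h1
    refine top_le_iff.1 (h1.ge.trans (sup_le_sup_right ?_ K))
    have hRA : R = A ⊔ Z := by
      refine le_antisymm (fun r hr => ?_) (sup_le (inf_le_inf_right _ le_sup_left) hZR)
      obtain ⟨s, hs, z, hz, rfl⟩ := Subgroup.mem_sup_of_normal_right.1 hr.1
      have : s ∈ K := by simpa using K.mul_mem hr.2 (K.inv_mem (hZK hz))
      exact Subgroup.mul_mem_sup ⟨hs, this⟩ hz
    intro x hx
    rw [Subgroup.mem_normalizer_iff]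
    intro y
    have h2 : ∀ x ∈ Subgroup.normalizer (A : Set H), ∀ y ∈ R, x * y * x⁻¹ ∈ R := by
      intro x hx y hy
      rw [hRA] at hy ⊢
      obtain ⟨u, hu, z, hz, rfl⟩ := Subgroup.mem_sup_of_normal_right.1 hy
      rw [show x * (u * z) * x⁻¹ = (x * u * x⁻¹) * (x * z * x⁻¹) by group]
      exact Subgroup.mul_mem_sup ((Subgroup.mem_normalizer_iff.1 hx u).1 hu)
        (Subgroup.Normal.conj_mem ‹Z.Normal› z hz x)
    refine ⟨h2 x hx y, fun h => ?_⟩
    have := h2 x⁻¹ (inv_mem hx) _ h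
    simpa [mul_assoc] using this
  refine ⟨(M0 ⊔ K).map (QuotientGroup.mk' K), ?_⟩
  rw [Subgroup.index_map_eq _ (QuotientGroup.mk'_surjective K)
    (by rw [QuotientGroup.ker_mk']; exact le_sup_right)]
  have hcard : (Nat.card (H ⧸ K)).factorization p = b := by
    rw [← Subgroup.index_eq_card, ht₁, hb, Nat.factorization_mul (pow_ne_zero _ hp.out.ne_zero)
      (fun h => ht₁p (by rw [h]; exact dvd_zero p))]
    simp [hp.out.factorization_self, Nat.factorization_eq_zero_of_not_dvd ht₁p]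
  rw [hcard, ← hb, ← Subgroup.relIndex_top_right, relIndex_eq_of_cover le_top le_top (S := S)
    (fun h _ => ?_), ← Subgroup.inf_relIndex_right (M0 ⊔ K) S]
  · congr 1
    refine le_antisymm (fun s hs => ?_) (le_inf (hRM0.trans le_sup_left) hRS)
    obtain ⟨m, hm, q, hq, hmq⟩ := Subgroup.mem_sup_of_normal_right.1 hs.1
    refine hM0S s hs.2 (hmq ▸ mul_mem hm (hLM0 ⟨?_, hq⟩))
    rw [show q = m⁻¹ * s by rw [← hmq]; group]
    exact N.mul_mem (N.inv_mem hm.2) (hSN hs.2)
  · obtain ⟨n, hn, q, hq, rfl⟩ := Subgroup.mem_sup_of_normal_right.1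
      (hfrat ▸ Subgroup.mem_top h : h ∈ N ⊔ K)
    obtain ⟨s, hs, hsn⟩ := hcov n hn
    exact ⟨s, hs, by rw [← mul_assoc]; exact Subgroup.mul_mem_sup hsn hq⟩

end Main

end Cfsg.Agent.H46.RamifiedQuot
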