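import Cfsg.Agent.Cores.Constrained
import Cfsg.Agent.Cores.UpperSeries
import Cfsg.Agent.H84.Leonard
import Cfsg.Agent.Coprime.Generation
import Cfsg.Agent.PGroups.Basic
import Cfsg.Agent.Hall.MinimalNonNilpotent
import Cfsg.Prelude.Def_Solvable
import Cfsg.Prelude.Def_SolvableStructure

/-!
`p`-solvable groups whose Sylow `p`-subgroup is that of a minimal non-nilpotent group have
`p`-length at most one.
-/

set_option autoImplicit false
set_option linter.style.haveILetI false
set_option linter.unusedSectionVars false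

namespace Cfsg.Agent.H46.SchmidtPLength

open Subgroup
open scoped commutatorElement

/-- The properties of the normal Sylow subgroup of a minimal non-nilpotent group. -/
def SchmidtType (p : ℕ) (S : Type*) [Group S] : Prop :=
  (∀ x y : S, x * y = y * x) ∨
    ∃ (q : ℕ) (α : MulAut S), q.Prime ∧ q ≠ p ∧ α ^ q = 1 ∧ (∀ z ∈ center S, α z = z) ∧
      (∀ x : S, x ^ p ∈ center S) ∧ commutator S = center S ∧
      ∀ H : Subgroup S, center S ≤ H → H ≠ center S → (∀ h ∈ H, α h ∈ H) → H = ⊤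

section Derive

variable {X : Type*} [Group X] [Finite X] {p : ℕ} [Fact p.Prime]

theorem schmidtType (hX : IsMinimalNonNilpotent X) (P : Sylow p X)
    (hPn : (P : Subgroup X).Normal) (hP1 : (P : Subgroup X) ≠ ⊥) :
    SchmidtType p (P : Subgroup X) := by
  obtain ⟨r, q, hr, hq, hrq, R, Q, c, hR, hQn, -, hQR, hnc⟩ := Hall.schmidt_structure hX.2 hX.1
  haveI : Fact q.Prime := ⟨hq⟩
  haveI : Fact r.Prime := ⟨hr⟩
  haveI := hPn
  haveI := hQn
  have hpq : p = q := by
    by_contra hpq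
    have hpd : p ∣ Nat.card X :=
      ((P.isPGroup'.card_eq_or_dvd).resolve_left (fun h => hP1 (Subgroup.card_eq_one.1 h))).trans
        (Subgroup.card_subgroup_dvd_card _)
    rw [← hQR.card_mul_card] at hpd
    have hpp : p.Prime := Fact.out
    obtain ⟨i, hi⟩ := IsPGroup.iff_card.1 Q.isPGroup'
    obtain ⟨j, hj⟩ := IsPGroup.iff_card.1 R.isPGroup'
    rcases hpp.dvd_mul.1 hpd with h | h
    · rw [hi] at h
      exact hpq ((Nat.prime_dvd_prime_iff_eq hpp hq).1 (hpp.dvd_of_dvd_pow h))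
    · rw [hj] at h
      have hpr := (Nat.prime_dvd_prime_iff_eq hpp hr).1 (hpp.dvd_of_dvd_pow h)
      subst hpr
      haveI := Sylow.unique_of_normal P hPn
      have hRP : R = P := Subsingleton.elim _ _
      have hRn : (R : Subgroup X).Normal := hRP ▸ hPn
      exact hnc fun x hx => mem_centralizer_iff.2 fun y hy =>
        Subgroup.commute_of_normal_of_disjoint _ _ hQn hRn hQR.disjoint y x hy hx
  subst hpq
  haveI := Sylow.unique_of_normal P hPn
  obtain rfl : Q = P := Subsingleton.elim _ _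
  by_cases hab : ∀ x y : (Q : Subgroup X), x * y = y * x
  · exact Or.inl hab
  right
  set σ : MulAut (Q : Subgroup X) := MulAut.conjNormal c with hσ
  have hcR : c ∈ (R : Subgroup X) := hR ▸ mem_zpowers c
  have hdisj : ∀ x, x ∈ (Q : Subgroup X) → x ∈ (R : Subgroup X) → x = 1 := fun x h1 h2 =>
    Subgroup.mem_bot.1 (hQR.disjoint.le_bot ⟨h1, h2⟩)
  have hσ1 : σ ≠ 1 := by
    intro h
    apply hnc
    rw [hR, zpowers_le, mem_centralizer_iff]
    intro s hs
    have := congrArg Subtype.val (DFunLike.congr_fun h (⟨s, hs⟩ : (Q : Subgroup X)))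
    rw [hσ, MulAut.conjNormal_apply, MulAut.one_apply, mul_inv_eq_iff_eq_mul] at this
    exact this.symm
  -- proper invariant subgroups are fixed
  have hfix : ∀ H : Subgroup (Q : Subgroup X), (∀ h ∈ H, σ h ∈ H) → H ≠ ⊤ → ∀ h ∈ H, σ h = h := by
    intro H hinv hH h hh
    set Hx := H.map (Q : Subgroup X).subtype
    have hcN : c ∈ normalizer (Hx : Set X) := by
      refine mem_normalizer_iff.2 fun x => ⟨?_, ?_⟩
      · rintro ⟨y, hy, rfl⟩
        exact ⟨σ y, hinv y hy, by rw [hσ]; rfl⟩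
      · intro hx
        obtain ⟨y, hy, hyx⟩ := hx
        let σH : H → H := fun z => ⟨σ z, hinv z z.2⟩
        have hsurj : Function.Surjective σH := Finite.surjective_of_injective fun a b e =>
          Subtype.ext (σ.injective (congrArg Subtype.val e))
        obtain ⟨z, hz⟩ := hsurj ⟨y, hy⟩
        refine ⟨z, z.2, ?_⟩
        have : σ (z : (Q : Subgroup X)) = y := congrArg Subtype.val hz
        rw [← this, hσ] at hyx
        change c * ((z : (Q : Subgroup X)) : X) * c⁻¹ = c * x * c⁻¹ at hyx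
        exact mul_left_cancel (mul_right_cancel hyx)
    have hJ : Hx ⊔ zpowers c ≠ ⊤ := by
      intro hJ
      apply hH
      rw [eq_top_iff]
      intro y _
      have hy : (y : X) ∈ Hx ⊔ zpowers c := by rw [hJ]; trivial
      obtain ⟨t, ht, s, hs, hst⟩ := (Coprime.mem_sup_iff (zpowers_le.2 hcN)).1 hy
      have hsR : s ∈ (R : Subgroup X) := hR ▸ hs
      obtain ⟨t', ht', rfl⟩ := ht
      have hsQ : s ∈ (Q : Subgroup X) := by
        rw [eq_inv_mul_of_mul_eq hst]
        exact mul_mem (inv_mem t'.2) y.2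
      rw [hdisj s hsQ hsR, mul_one] at hst
      exact (Subtype.ext hst : t' = y) ▸ ht'
    have hcomm := Hall.commute_of_nilpotent_sup (hX.2 _ hJ)
      (a := (h : X)) (b := c) (mem_sup_left (⟨h, hh, rfl⟩ : (h : X) ∈ Hx)) (mem_sup_right (mem_zpowers c)) (by
        obtain ⟨i, hi⟩ := IsPGroup.iff_orderOf.1 Q.isPGroup' h
        obtain ⟨j, hj⟩ := IsPGroup.iff_orderOf.1 R.isPGroup' ⟨c, hcR⟩
        rw [Subgroup.orderOf_mk] at hj
        rw [Subgroup.orderOf_coe, hi, hj]
        exact ((Nat.coprime_primes Fact.out hr).2 hrq.symm).pow i j)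
    refine Subtype.ext ?_
    rw [hσ, MulAut.conjNormal_apply, ← hcomm, mul_inv_cancel_right]
  -- `σ` has order `r`
  have hσr : σ ^ r = 1 := by
    have hne : (Q : Subgroup X) ⊔ zpowers (c ^ r) ≠ ⊤ := by
      intro h
      have hc : c ∈ (Q : Subgroup X) ⊔ zpowers (c ^ r) := by rw [h]; trivial
      obtain ⟨t, ht, s, hs, hst⟩ :=
        (Coprime.mem_sup_iff (fun x _ => by rw [normalizer_eq_top]; trivial)).1 hc
      obtain ⟨k, rfl⟩ := mem_zpowers_iff.1 hs
      have ht1 : t = 1 := hdisj t ht (by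
        rw [eq_mul_inv_of_mul_eq hst]
        exact mul_mem hcR (inv_mem (zpow_mem (pow_mem hcR r) k)))
      rw [ht1, one_mul, ← zpow_natCast, ← zpow_mul] at hst
      have h1 : c ^ ((r : ℤ) * k - 1) = 1 := by rw [zpow_sub, zpow_one, hst, mul_inv_cancel]
      have h2 := orderOf_dvd_iff_zpow_eq_one.2 h1
      obtain ⟨j, hj⟩ := IsPGroup.iff_orderOf.1 R.isPGroup' ⟨c, hcR⟩
      rw [Subgroup.orderOf_mk] at hj
      rcases Nat.eq_zero_or_pos j with rfl | hj0
      · rw [pow_zero, orderOf_eq_one_iff] at hj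
        apply hσ1
        rw [hσ, hj, map_one]
      · rw [hj] at h2
        have h3 : (r : ℤ) ∣ (r : ℤ) * k - 1 :=
          (Int.natCast_dvd_natCast.2 (dvd_pow_self r hj0.ne')).trans h2
        have h4 : (r : ℤ) ∣ 1 := (dvd_sub_right (dvd_mul_right _ _)).1 h3
        exact hr.one_lt.ne' (Nat.dvd_one.1 (by exact_mod_cast h4))
    ext s
    rw [hσ, ← map_pow, MulAut.conjNormal_apply, MulAut.one_apply]
    have hcomm := Hall.commute_of_nilpotent_sup (hX.2 _ hne)
      (a := (s : X)) (b := c ^ r) (mem_sup_left s.2) (mem_sup_right (mem_zpowers _)) (by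
        obtain ⟨i, hi⟩ := IsPGroup.iff_orderOf.1 Q.isPGroup' s
        obtain ⟨j, hj⟩ := IsPGroup.iff_orderOf.1 R.isPGroup' ⟨c ^ r, pow_mem hcR r⟩
        rw [Subgroup.orderOf_mk] at hj
        rw [Subgroup.orderOf_coe, hi, hj]
        exact ((Nat.coprime_primes Fact.out hr).2 hrq.symm).pow i j)
    rw [← hcomm, mul_inv_cancel_right]
  -- the fixed points
  let F : Subgroup (Q : Subgroup X) :=
    { carrier := {x | σ x = x}
      one_mem' := map_one σ
      mul_mem' := fun {a b} ha hb => by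
        change σ (a * b) = a * b
        rw [map_mul, ha, hb]
      inv_mem' := fun {a} ha => by
        change σ a⁻¹ = a⁻¹
        rw [map_inv, ha] }
  have hpf := Q.isPGroup'
  haveI : Nontrivial (Q : Subgroup X) := (nontrivial_iff_ne_bot _).2 hP1
  have hcen : center (Q : Subgroup X) ≤ F := by
    intro z hz
    refine hfix _ (fun h hh => ?_) (fun h => ?_) z hz
    · exact Subgroup.mem_center_iff.2 fun g => by
        obtain ⟨g', rfl⟩ := σ.surjective g
        rw [← map_mul, ← map_mul, Subgroup.mem_center_iff.1 hh g']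
    · exact hab fun x y => (Subgroup.mem_center_iff.1 (h ▸ mem_top y) x)
  have hΦ : frattini (Q : Subgroup X) ≤ F := by
    intro z hz
    refine hfix _ (fun h hh => ?_) ?_ z hz
    · have := Subgroup.characteristic_iff_map_le.1 frattini_characteristic σ
      exact this ⟨h, hh, rfl⟩
    · intro h
      have h1 := frattini_nongenerating (K := (⊥ : Subgroup (Q : Subgroup X))) (by rw [bot_sup_eq, h])
      exact bot_ne_top h1
  have hcomm : commutator (Q : Subgroup X) ≤ F :=
    (PGroups.commutator_le_frattini hpf).trans hΦ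
  have hrpow : ∀ a z : (Q : Subgroup X), σ z = z → σ a = a * z → σ a = a := by
    intro a z hz ha
    have h : ∀ n : ℕ, (σ ^ n) a = a * z ^ n := by
      intro n
      induction n with
      | zero => simp
      | succ n ih => rw [pow_succ', MulAut.mul_apply, ih, map_mul, map_pow, hz, ha, mul_assoc, ← pow_succ']
    have h1 := h r
    rw [hσr, MulAut.one_apply, left_eq_mul] at h1
    obtain ⟨i, hi⟩ := IsPGroup.iff_orderOf.1 hpf z
    have h2 : orderOf z = 1 := Nat.eq_one_of_dvd_coprimes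
      ((Nat.coprime_primes Fact.out hr).2 hrq.symm |>.pow_left i) hi.dvd
      (orderOf_dvd_of_pow_eq_one h1)
    rw [orderOf_eq_one_iff.1 h2, mul_one] at ha
    exact ha
  let Bset : Set (Q : Subgroup X) := Set.range fun a => a⁻¹ * σ a
  have hB : closure Bset = ⊤ := by
    by_contra hne
    refine hσ1 (MulEquiv.ext fun a => ?_)
    refine hrpow a (a⁻¹ * σ a) (hfix _ ?_ hne _ (subset_closure ⟨a, rfl⟩))
      (mul_inv_cancel_left _ _).symm
    intro h hh
    induction hh using closure_induction with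
    | mem x hx =>
      obtain ⟨a, rfl⟩ := hx
      exact subset_closure ⟨σ a, by simp [map_mul]⟩
    | one => rw [map_one]; exact one_mem _
    | mul x y _ _ hx hy => rw [map_mul]; exact mul_mem hx hy
    | inv x _ hx => rw [map_inv]; exact inv_mem hx
  have hFc : F ≤ center (Q : Subgroup X) := by
    intro f hf
    have hle : closure Bset ≤ centralizer ({f} : Set (Q : Subgroup X)) := by
      rw [closure_le]
      rintro _ ⟨a, rfl⟩
      rw [SetLike.mem_coe, mem_centralizer_singleton_iff]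
      have h1 : σ ⁅f, a⁆ = ⁅f, a⁆ :=
        hcomm (commutator_mem_commutator (mem_top _) (mem_top _))
      rw [map_commutatorElement, show σ f = f from hf] at h1
      simp only [commutatorElement_def] at h1
      calc a⁻¹ * σ a * f = a⁻¹ * (σ a * f * (σ a)⁻¹) * σ a := by group
        _ = a⁻¹ * (a * f * a⁻¹) * σ a := by
          rw [show σ a * f * (σ a)⁻¹ = (f * σ a * f⁻¹ * (σ a)⁻¹)⁻¹ * f by group, h1,
            show (f * a * f⁻¹ * a⁻¹)⁻¹ * f = a * f * a⁻¹ by group]
        _ = f * (a⁻¹ * σ a) := by group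
    rw [hB, top_le_iff] at hle
    exact Subgroup.mem_center_iff.2 fun g =>
      mem_centralizer_singleton_iff.1 (hle ▸ mem_top g)
  refine ⟨r, σ, hr, hrq, hσr, hcen, fun x => hFc (hΦ (PGroups.pow_mem_frattini hpf x)), ?_, ?_⟩
  · refine le_antisymm (hcomm.trans hFc) fun z hz => ?_
    set D := commutator (Q : Subgroup X)
    have hmul : ∀ u v : (Q : Subgroup X), (u : (Q : Subgroup X) ⧸ D) * v = (v : (Q : Subgroup X) ⧸ D) * u :=
      fun u v => by
        rw [← commutatorElement_eq_one_iff_mul_comm]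
        rw [show ((u : (Q : Subgroup X) ⧸ D)) = QuotientGroup.mk' D u from rfl,
          show ((v : (Q : Subgroup X) ⧸ D)) = QuotientGroup.mk' D v from rfl, ← map_commutatorElement]
        exact (QuotientGroup.eq_one_iff _).2 (commutator_mem_commutator (mem_top _) (mem_top _))
    let δ : (Q : Subgroup X) →* (Q : Subgroup X) ⧸ D :=
      { toFun := fun a => QuotientGroup.mk (a⁻¹ * σ a)
        map_one' := by simp
        map_mul' := fun a b => by
          rw [map_mul, mul_inv_rev,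
            show b⁻¹ * a⁻¹ * (σ a * σ b) = b⁻¹ * (a⁻¹ * σ a) * σ b by group,
            QuotientGroup.mk_mul, QuotientGroup.mk_mul _ b⁻¹, hmul b⁻¹, mul_assoc,
            ← QuotientGroup.mk_mul _ b⁻¹] }
    have hsurj : (z : (Q : Subgroup X) ⧸ D) ∈ δ.range := by
      have hle : closure Bset ≤ δ.range.comap (QuotientGroup.mk' D) := by
        rw [closure_le]
        rintro _ ⟨a, rfl⟩
        exact ⟨a, rfl⟩
      rw [hB] at hle
      exact hle (mem_top z)
    obtain ⟨a, ha⟩ := hsurj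
    change ((a⁻¹ * σ a : (Q : Subgroup X)) : (Q : Subgroup X) ⧸ D) = z at ha
    have hw : (a⁻¹ * σ a)⁻¹ * z ∈ D := QuotientGroup.eq.1 ha
    have hzF : a⁻¹ * σ a ∈ F := by
      have h1 : z * ((a⁻¹ * σ a)⁻¹ * z)⁻¹ ∈ F := mul_mem (hcen hz) (inv_mem (hcomm hw))
      rwa [show z * ((a⁻¹ * σ a)⁻¹ * z)⁻¹ = a⁻¹ * σ a by group] at h1
    rw [hrpow a _ hzF (mul_inv_cancel_left _ _).symm, inv_mul_cancel, inv_one, one_mul] at hw
    exact hw
  · intro H hH hne hinv
    by_contra htop
    exact hne (le_antisymm (fun h hh => hFc (hfix H hinv htop h hh)) hH)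

end Derive

section Transport

variable {p : ℕ} {S T : Type*} [Group S] [Group T]

theorem SchmidtType.congr (e : S ≃* T) (h : SchmidtType p S) : SchmidtType p T := by
  rcases h with h | ⟨q, α, hq, hqp, hα, hfix, hpow, hcomm, hmax⟩
  · exact Or.inl fun x y => e.symm.injective (by rw [map_mul, map_mul, h])
  have hc : ∀ s, e s ∈ center T ↔ s ∈ center S := fun s => by
    simp only [Subgroup.mem_center_iff]
    refine ⟨fun h g => e.injective (by rw [map_mul, map_mul, h]), fun h g => ?_⟩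
    obtain ⟨g', rfl⟩ := e.surjective g
    rw [← map_mul, ← map_mul, h]
  refine Or.inr ⟨q, MulAut.congr e α, hq, hqp, by rw [← map_pow, hα, map_one], fun z hz => ?_,
    fun x => ?_, ?_, ?_⟩
  · obtain ⟨s, rfl⟩ := e.surjective z
    simp [MulAut.congr, hfix s ((hc s).1 hz)]
  · obtain ⟨s, rfl⟩ := e.surjective x
    rw [← map_pow, hc]
    exact hpow s
  · have h1 : (commutator S).map e.toMonoidHom = commutator T := by
      rw [commutator_def, map_commutator, map_top_of_surjective e.toMonoidHom e.surjective,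
        commutator_def]
    rw [← h1, hcomm]
    ext t
    obtain ⟨s, rfl⟩ := e.surjective t
    rw [hc, Subgroup.mem_map]
    exact ⟨fun ⟨u, hu, hus⟩ => e.injective hus ▸ hu, fun h => ⟨s, h, rfl⟩⟩
  · intro H hH hne hinv
    have := hmax (H.comap e.toMonoidHom) (fun s hs => hH ((hc s).2 hs)) ?_ ?_
    · rw [eq_top_iff]
      intro t _
      obtain ⟨s, rfl⟩ := e.surjective t
      exact (this ▸ mem_top s : s ∈ H.comap e.toMonoidHom)
    · intro h
      apply hne
      ext t
      obtain ⟨s, rfl⟩ := e.surjective t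
      rw [hc, ← h]
      rfl
    · intro s hs
      have := hinv _ hs
      simpa [MulAut.congr] using this

end Transport

section Core

variable {G : Type*} [Group G] [Finite G] {p : ℕ} [hp : Fact p.Prime]

theorem comm_mul_right {x y w : G} (h : Commute y ⁅x, w⁆) : ⁅x, y * w⁆ = ⁅x, y⁆ * ⁅x, w⁆ := by
  calc ⁅x, y * w⁆ = ⁅x, y⁆ * (y * ⁅x, w⁆ * y⁻¹) := by simp only [commutatorElement_def]; group
    _ = _ := by rw [h.eq, mul_inv_cancel_right]

theorem comm_mul_left {x y w : G} (h : Commute x ⁅y, w⁆) : ⁅x * y, w⁆ = ⁅y, w⁆ * ⁅x, w⁆ := by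
  calc ⁅x * y, w⁆ = x * ⁅y, w⁆ * x⁻¹ * ⁅x, w⁆ := by simp only [commutatorElement_def]; group
    _ = _ := by rw [h.eq, mul_inv_cancel_right]

/-- Exponentiation by a residue. -/
def pw (x : G) (i : ZMod p) : G := x ^ i.val

theorem pw_add {x : G} (hx : x ^ p = 1) (i j : ZMod p) : pw x (i + j) = pw x i * pw x j := by
  rw [pw, pw, pw, ← pow_add, ZMod.val_add, ← pow_eq_pow_mod _ hx]

theorem pw_nat {x : G} (hx : x ^ p = 1) (n : ℕ) : pw x (n : ZMod p) = x ^ n := by
  rw [pw, ZMod.val_natCast, ← pow_eq_pow_mod _ hx]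

theorem pw_mul {x : G} (hx : x ^ p = 1) (i j : ZMod p) : pw x (i * j) = pw x i ^ j.val := by
  rw [pw, pw, ← pow_mul, ZMod.val_mul, ← pow_eq_pow_mod _ hx]

theorem pw_one {x : G} (hx : x ^ p = 1) : pw x (1 : ZMod p) = x := by
  have := pw_nat hx 1
  rwa [Nat.cast_one, pow_one] at this

/-- The matrix of the action by conjugation. -/
def Act (c e g : G) (A B C D : ZMod p) : Prop :=
  g * c * g⁻¹ = pw c A * pw e C ∧ g * e * g⁻¹ = pw c B * pw e D

theorem Act.mul {c e g h : G} (hc : c ^ p = 1) (he : e ^ p = 1) (hce : Commute c e)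
    {A B C D A' B' C' D' : ZMod p} (hg : Act c e g A B C D) (hh : Act c e h A' B' C' D') :
    Act c e (g * h) (A * A' + B * C') (A * B' + B * D') (C * A' + D * C') (C * B' + D * D') := by
  have key : ∀ i j : ZMod p, g * (pw c i * pw e j) * g⁻¹ =
      pw c (A * i + B * j) * pw e (C * i + D * j) := by
    intro i j
    have e1 : g * pw c i * g⁻¹ = pw c (A * i) * pw e (C * i) := by
      rw [pw, ← conj_pow, hg.1, show (pw c A * pw e C) ^ i.val = pw c A ^ i.val * pw e C ^ i.val from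
        (hce.pow_pow _ _).mul_pow _, ← pw_mul hc, ← pw_mul he]
    have e2 : g * pw e j * g⁻¹ = pw c (B * j) * pw e (D * j) := by
      rw [pw, ← conj_pow, hg.2, show (pw c B * pw e D) ^ j.val = pw c B ^ j.val * pw e D ^ j.val from
        (hce.pow_pow _ _).mul_pow _, ← pw_mul hc, ← pw_mul he]
    rw [conj_mul.symm, e1, e2, pw_add hc, pw_add he]
    simp only [pw, mul_assoc]
    rw [← mul_assoc (e ^ _) (c ^ _), (hce.pow_pow _ _).symm.eq, mul_assoc]
  constructor
  · rw [show g * h * c * (g * h)⁻¹ = g * (h * c * h⁻¹) * g⁻¹ by group, hh.1, key]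
  · rw [show g * h * e * (g * h)⁻¹ = g * (h * e * h⁻¹) * g⁻¹ by group, hh.2, key]

theorem Act.one {c e : G} (hc : c ^ p = 1) (he : e ^ p = 1) : Act c e 1 (1 : ZMod p) 0 0 1 := by
  refine ⟨?_, ?_⟩
  · rw [pw_one hc]; simp [pw]
  · rw [pw_one he]; simp [pw]

theorem le_pCore_of_schmidtType (hs : IsPSolvable p G) (hO : pPrimeCore p G = ⊥)
    (S : Sylow p G) (hS : SchmidtType p (S : Subgroup G)) :
    (S : Subgroup G) ≤ pCore p G := by
  classical
  by_contra hSQ
  set Q := pCore p G with hQdef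
  have hQS : Q ≤ (S : Subgroup G) := Cores.pCore_le_sylow S
  have hCQ : centralizer (Q : Set G) ≤ Q := Cores.centralizer_pCore_le hs hO
  rcases hS with hab | ⟨q, α, hq, hqp, hαq, hαfix, hαpow, hαcomm, hαmax⟩
  · refine hSQ fun s hs' => hCQ (mem_centralizer_iff.2 fun x hx => ?_)
    exact congrArg Subtype.val (hab ⟨x, hQS hx⟩ ⟨s, hs'⟩)
  set Zs := (center (S : Subgroup G)).map (S : Subgroup G).subtype with hZs
  have hZS : Zs ≤ (S : Subgroup G) := map_subtype_le _
  have memZ : ∀ (z : G) (hz : z ∈ (S : Subgroup G)),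
      z ∈ Zs ↔ (⟨z, hz⟩ : (S : Subgroup G)) ∈ center (S : Subgroup G) := fun z hz =>
    ⟨fun ⟨w, hw, hwz⟩ => (Subtype.ext hwz : w = ⟨z, hz⟩) ▸ hw, fun h => ⟨_, h, rfl⟩⟩
  have hZc : ∀ z ∈ Zs, ∀ s ∈ (S : Subgroup G), Commute s z := by
    rintro _ ⟨w, hw, rfl⟩ s hs'
    exact congrArg Subtype.val (Subgroup.mem_center_iff.1 hw ⟨s, hs'⟩)
  have hZmem : ∀ a ∈ (S : Subgroup G), (∀ b ∈ (S : Subgroup G), a * b = b * a) → a ∈ Zs :=
    fun a ha h => (memZ a ha).2 (Subgroup.mem_center_iff.2 fun b => Subtype.ext (h b b.2).symm)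
  have hcomm : ∀ a ∈ (S : Subgroup G), ∀ b ∈ (S : Subgroup G), ⁅a, b⁆ ∈ Zs := fun a ha b hb =>
    ⟨⁅(⟨a, ha⟩ : (S : Subgroup G)), ⟨b, hb⟩⁆,
      hαcomm ▸ commutator_mem_commutator (mem_top _) (mem_top _), rfl⟩
  have hpow : ∀ a ∈ (S : Subgroup G), a ^ p ∈ Zs := fun a ha =>
    ⟨(⟨a, ha⟩ : (S : Subgroup G)) ^ p, hαpow _, rfl⟩
  -- non-degeneracy
  have hND : ∀ Y : Subgroup G, Y ≤ Zs → ∀ a ∈ (S : Subgroup G),
      (∀ b ∈ (S : Subgroup G), ⁅a, b⁆ ∈ Y) → a ∈ Zs ∨ Zs ≤ Y := by
    intro Y hY a ha hab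
    let A : Subgroup (S : Subgroup G) :=
      { carrier := {x | ∀ b : (S : Subgroup G), ⁅(x : G), (b : G)⁆ ∈ Y}
        one_mem' := fun b => by simp
        mul_mem' := fun {x y} hx hy b => by
          rw [Subgroup.coe_mul, comm_mul_left (hZc _ (hY (hy b)) _ x.2)]
          exact mul_mem (hy b) (hx b)
        inv_mem' := fun {x} hx b => by
          have h1 := hZc _ (hY (hx b)) _ (inv_mem x.2)
          rw [Subgroup.coe_inv, show ⁅(x : G)⁻¹, (b : G)⁆ =
            (x : G)⁻¹ * ⁅(x : G), (b : G)⁆⁻¹ * (x : G) by simp only [commutatorElement_def]; group,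
            h1.inv_right.eq, mul_assoc, inv_mul_cancel, mul_one]
          exact inv_mem (hx b) }
    have hA : center (S : Subgroup G) ≤ A := fun x hx b => by
      have : ⁅(x : G), (b : G)⁆ = 1 := commutatorElement_eq_one_iff_mul_comm.2
        (congrArg Subtype.val (Subgroup.mem_center_iff.1 hx b)).symm
      rw [this]
      exact one_mem _
    by_cases hAc : A = center (S : Subgroup G)
    · left
      exact (memZ a ha).2 (hAc ▸ (fun b => hab b b.2 : (⟨a, ha⟩ : (S : Subgroup G)) ∈ A))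
    · right
      have htop := hαmax A hA hAc fun x hx b => by
        have h1 := hx (α.symm b)
        have h2 : α ⁅x, α.symm b⁆ = ⁅x, α.symm b⁆ :=
          hαfix _ (hαcomm ▸ commutator_mem_commutator (mem_top _) (mem_top _))
        rw [map_commutatorElement, α.apply_symm_apply] at h2
        have h3 : ⁅((α x : (S : Subgroup G)) : G), (b : G)⁆ =
            ⁅(x : G), ((α.symm b : (S : Subgroup G)) : G)⁆ := congrArg Subtype.val h2
        rw [h3]
        exact h1
      rw [hZs, ← hαcomm, _root_.commutator_def, map_le_iff_le_comap, commutator_le]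
      intro x _ y _
      exact (htop ▸ mem_top x : x ∈ A) y
  have hZQ : Zs ≤ Q := fun z hz => hCQ (mem_centralizer_iff.2 fun x hx => hZc z hz x (hQS hx))
  -- `N` is the Frattini subgroup of `Q`
  set N := (frattini Q).map Q.subtype with hN
  haveI hNn : N.Normal := inferInstance
  have hQp : IsPGroup p Q := Cores.pCore_isPGroup
  have hNQ : N ≤ Q := map_subtype_le _
  have hNZ : N ≤ Zs := by
    rw [hN, map_le_iff_le_comap]
    have hn : (Zs.comap Q.subtype).Normal := ⟨fun z hz g => by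
      change (g : G) * z * (g : G)⁻¹ ∈ Zs
      rw [(hZc (z : G) hz _ (hQS g.2)).eq, mul_inv_cancel_right]
      exact hz⟩
    haveI := hn
    refine PGroups.frattini_le_of_commutator_le _ ?_ (fun x => hpow x (hQS x.2))
    rw [_root_.commutator_def, commutator_le]
    exact fun x _ y _ => hcomm x (hQS x.2) y (hQS y.2)
  have hQN : ∀ x ∈ Q, ∀ y ∈ Q, ⁅x, y⁆ ∈ N := fun x hx y hy =>
    ⟨⁅(⟨x, hx⟩ : Q), ⟨y, hy⟩⁆, PGroups.commutator_le_frattini hQp
      (commutator_mem_commutator (mem_top _) (mem_top _)), rfl⟩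
  have hQpow : ∀ x ∈ Q, x ^ p ∈ N := fun x hx =>
    ⟨(⟨x, hx⟩ : Q) ^ p, PGroups.pow_mem_frattini hQp _, rfl⟩
  -- the kernel of the action on `Q / N`
  have hker : ∀ g : G, (∀ x ∈ Q, ⁅g, x⁆ ∈ N) → g ∈ Q := by
    let K : Subgroup G :=
      { carrier := {g | ∀ x ∈ Q, ⁅g, x⁆ ∈ N}
        one_mem' := fun x _ => by simp
        mul_mem' := fun {g h} hg hh x hx => by
          rw [show ⁅g * h, x⁆ = g * ⁅h, x⁆ * g⁻¹ * ⁅g, x⁆ by simp only [commutatorElement_def]; group]
          exact mul_mem (hNn.conj_mem _ (hh x hx) g) (hg x hx)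
        inv_mem' := fun {g} hg x hx => by
          rw [show ⁅g⁻¹, x⁆ = g⁻¹ * ⁅g, x⁆⁻¹ * g⁻¹⁻¹ by simp only [commutatorElement_def]; group]
          exact hNn.conj_mem _ (inv_mem (hg x hx)) _ }
    haveI : K.Normal := ⟨fun g hg y x hx => by
      rw [show ⁅y * g * y⁻¹, x⁆ = y * ⁅g, y⁻¹ * x * y⁻¹⁻¹⁆ * y⁻¹ by
        simp only [commutatorElement_def]; group]
      exact hNn.conj_mem _ (hg _ (Subgroup.Normal.conj_mem inferInstance x hx _)) y⟩
    have hKp : IsPGroup p K := by
      rintro ⟨g, hg⟩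
      obtain ⟨k, m, hm, hkm⟩ := Nat.exists_eq_pow_mul_and_not_dvd (orderOf_pos g).ne' p hp.out.ne_one
      have hg' : g ^ p ^ k ∈ K := pow_mem hg _
      have hord : (orderOf (g ^ p ^ k)).Coprime p := by
        refine ((hp.out.coprime_iff_not_dvd).2 fun h => hm (h.trans ?_)).symm
        exact orderOf_dvd_of_pow_eq_one (by rw [← pow_mul, ← hkm, pow_orderOf_eq_one])
      have h1 := Coprime.le_centralizer_of_frattini (K := Q) (A := zpowers (g ^ p ^ k))
        (fun x _ => by rw [normalizer_eq_top]; trivial) (by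
          obtain ⟨i, hi⟩ := IsPGroup.iff_card.1 (hQp.to_subgroup (frattini Q))
          rw [Nat.card_zpowers, hi]
          exact hord.pow_right i)
        (fun y hy x hx => by
          have : y ∈ K := (zpowers_le.2 hg') hy
          exact this x hx)
      have h2 : g ^ p ^ k ∈ Q := hCQ (h1 (mem_zpowers _))
      obtain ⟨i, hi⟩ := IsPGroup.iff_orderOf.1 hQp ⟨_, h2⟩
      rw [Subgroup.orderOf_mk] at hi
      refine ⟨k, Subtype.ext (orderOf_eq_one_iff.1 (Nat.eq_one_of_dvd_coprimes
        (hord.pow_right i) dvd_rfl (dvd_of_eq hi)) :)⟩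
    exact fun g hg => Cores.le_pCore hKp (show g ∈ K from hg)
  obtain ⟨y₀, hy₀S, hy₀⟩ := SetLike.not_le_iff_exists.1 hSQ
  have hNZ' : ¬ Zs ≤ N := fun h => hy₀ (hker y₀ fun x hx => h (hcomm _ hy₀S _ (hQS hx)))
  -- the quotient
  set mk := QuotientGroup.mk' Q with hmk
  set M := pPrimeCore p (G ⧸ Q) with hM
  set A2 := (S : Subgroup G).map mk with hA2
  haveI hA2c : IsMulCommutative A2 := ⟨⟨by
    rintro ⟨_, a, ha, rfl⟩ ⟨_, b, hb, rfl⟩
    refine Subtype.ext (commutatorElement_eq_one_iff_mul_comm.1 ?_)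
    rw [← map_commutatorElement]
    exact (QuotientGroup.eq_one_iff _).2 (hZQ (hcomm a ha b hb))⟩⟩
  have hA2p : IsPGroup p A2 := S.isPGroup'.map _
  have hMA : ∀ x ∈ M, x ∈ A2 → x = 1 := fun x h1 h2 => Subgroup.mem_bot.1
    ((Cores.disjoint_of_isPGroup_of_coprime hA2p (Cores.coprime_card_pPrimeCore (p := p)
      (G := G ⧸ Q))).le ⟨h2, h1⟩)
  set NZ := normalizer (Zs : Set G) with hNZdef
  have hSNZ : (S : Subgroup G) ≤ NZ := fun s hs' => by
    refine mem_normalizer_iff.2 fun z => ⟨fun hz => ?_, fun hz => ?_⟩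
    · rw [(hZc z hz s hs').eq, mul_inv_cancel_right]; exact hz
    · have h1 := (hZc _ hz s⁻¹ (inv_mem hs')).eq
      have h2 : z = s * z * s⁻¹ := mul_right_cancel (b := s⁻¹) (by simpa [mul_assoc] using h1)
      rw [h2]; exact hz
  -- some element of `M` moves `Zs`
  have hnM : ¬ M ≤ NZ.map mk := by
    intro hle
    have hle' : ∀ g, mk g ∈ M → g ∈ NZ := fun g hg => by
      have := (comap_map_eq (f := mk) NZ).le (hle hg)
      rwa [hmk, QuotientGroup.ker_mk', sup_eq_left.2 (hQS.trans hSNZ)] at this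
    let T : Subgroup G :=
      { carrier := {h | (∀ x ∈ Q, ⁅h, x⁆ ∈ Zs) ∧ ∀ z ∈ Zs, Commute h z}
        one_mem' := ⟨fun x _ => by simp, fun z _ => Commute.one_left z⟩
        mul_mem' := fun {g h} hg hh => ⟨fun x hx => by
            rw [comm_mul_left (hg.2 _ (hh.1 x hx))]
            exact mul_mem (hh.1 x hx) (hg.1 x hx),
          fun z hz => (hg.2 z hz).mul_left (hh.2 z hz)⟩
        inv_mem' := fun {g} hg => ⟨fun x hx => by
            rw [show ⁅g⁻¹, x⁆ = g⁻¹ * ⁅g, x⁆⁻¹ * g by simp only [commutatorElement_def]; group,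
              ((hg.2 _ (hg.1 x hx)).inv_left.inv_right).eq, mul_assoc, inv_mul_cancel, mul_one]
            exact inv_mem (hg.1 x hx),
          fun z hz => (hg.2 z hz).inv_left⟩ }
    have hST : (S : Subgroup G) ≤ T := fun s hs' =>
      ⟨fun x hx => hcomm s hs' x (hQS hx), fun z hz => hZc z hz s hs'⟩
    have hcent : A2 ≤ centralizer (M : Set (G ⧸ Q)) := by
      rintro _ ⟨y, hy, rfl⟩
      rw [mem_centralizer_iff]
      intro m hm
      obtain ⟨g, rfl⟩ := QuotientGroup.mk'_surjective Q m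
      have hgN := hle' g hm
      have hgy : g * y * g⁻¹ ∈ T := by
        refine ⟨fun x hx => ?_, fun z hz => ?_⟩
        · rw [show ⁅g * y * g⁻¹, x⁆ = g * ⁅y, g⁻¹ * x * g⁻¹⁻¹⁆ * g⁻¹ by
            simp only [commutatorElement_def]; group]
          exact (mem_normalizer_iff.1 hgN _).1
            ((hST hy).1 _ (Subgroup.Normal.conj_mem inferInstance x hx _))
        · have h1 := (hST hy).2 (g⁻¹ * z * g) ((mem_normalizer_iff.1 hgN _).2 (by
            simpa [mul_assoc] using hz))
          have h2 := h1.map (MulAut.conj g).toMonoidHom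
          simpa [mul_assoc] using h2
      have hcT : g * y * g⁻¹ * y⁻¹ ∈ T := T.mul_mem hgy (T.inv_mem (hST hy))
      set w := g * y * g⁻¹ * y⁻¹
      have hwp : w ^ p ∈ Q := hker _ fun x hx => by
        have hn : ∀ n : ℕ, ⁅w ^ n, x⁆ = ⁅w, x⁆ ^ n := by
          intro n
          induction n with
          | zero => simp
          | succ n ih =>
            rw [pow_succ', comm_mul_left (ih.symm ▸ hcT.2 _ (pow_mem (hcT.1 x hx) n)), ih, pow_succ]
        rw [hn]
        exact hQpow _ (hZQ (hcT.1 x hx))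
      have h1 : mk w ∈ M := by
        have : mk g * (mk y * (mk g)⁻¹ * (mk y)⁻¹) ∈ M := mul_mem hm
          (Subgroup.Normal.conj_mem inferInstance _ (inv_mem hm) _)
        simpa [w, map_mul, map_inv, mul_assoc] using this
      have h2 : orderOf (mk w) = 1 := by
        refine Nat.eq_one_of_dvd_coprimes (Cores.coprime_card_pPrimeCore (p := p) (G := G ⧸ Q))
          (Subgroup.orderOf_dvd_natCard M h1) (orderOf_dvd_of_pow_eq_one ?_)
        rw [← map_pow]
        exact (QuotientGroup.eq_one_iff _).2 hwp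
      rw [orderOf_eq_one_iff] at h2
      simp only [w, map_mul, map_inv] at h2
      rw [mul_inv_eq_one, mul_inv_eq_iff_eq_mul] at h2
      exact h2
    apply hSQ
    intro s hs'
    have h1 : mk s ∈ M := H84.centralizer_pPrimeCore_le (Cores.isPSolvable_quotient hs Q)
      Cores.pCore_quotient_pCore (hcent ⟨s, hs', rfl⟩)
    exact (QuotientGroup.eq_one_iff s).1 (hMA _ h1 ⟨s, hs', rfl⟩)
  -- hence a `B` with cyclic quotient
  obtain ⟨B, hBA, a2, ha2, hBa, g2, hg2, hg2N⟩ : ∃ B ≤ A2, ∃ a ∈ A2, B ⊔ zpowers a = A2 ∧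
      ∃ g ∈ M ⊓ centralizer (B : Set (G ⧸ Q)), g ∉ NZ.map mk := by
    by_contra hc
    push Not at hc
    refine hnM (Coprime.le_of_centralizer_cyclic_quotient_le (A := A2) ?_ ?_ fun B hB ⟨a, ha, hBa⟩ g hg => ?_)
    · exact fun x _ => by rw [normalizer_eq_top]; trivial
    · obtain ⟨i, hi⟩ := IsPGroup.iff_card.1 hA2p
      rw [hi]
      exact (Cores.coprime_card_pPrimeCore (p := p) (G := G ⧸ Q)).symm.pow_left i
    · exact hc B hB a ha hBa g hg
  obtain ⟨g, rfl⟩ := QuotientGroup.mk'_surjective Q g2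
  have hgN : g ∉ NZ := fun h => hg2N ⟨g, h, rfl⟩
  have hnorm : ∀ x : G, (∀ z ∈ Zs, x * z * x⁻¹ ∈ Zs) → x ∈ NZ := fun x hx => by
    refine Coprime.mem_normalizer_of_map_conj (eq_of_le_of_card_ge ?_ ?_)
    · rintro _ ⟨z, hz, rfl⟩
      exact hx z hz
    · exact (card_map_of_injective (K := Zs) (f := (MulAut.conj x).toMonoidHom) (MulAut.conj x).injective).ge
  obtain ⟨a', ha', rfl⟩ := ha2
  have hdec : ∀ y ∈ (S : Subgroup G), ∃ (i : ℤ) (b : G), b ∈ (S : Subgroup G) ∧ mk b ∈ B ∧
      y = b * a' ^ i := by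
    intro y hy
    have h1 : mk y ∈ B ⊔ zpowers (mk a') := by rw [hBa]; exact ⟨y, hy, rfl⟩
    have hnB : zpowers (mk a') ≤ normalizer (B : Set (G ⧸ Q)) := fun t ht => by
      have htA : t ∈ A2 := (zpowers_le.2 (⟨a', ha', rfl⟩ : mk a' ∈ A2) : zpowers (mk a') ≤ A2) ht
      refine mem_normalizer_iff.2 fun b => ?_
      by_cases hb : b ∈ A2
      · have := congrArg Subtype.val (hA2c.is_comm.comm ⟨t, htA⟩ ⟨b, hb⟩)
        change t * b = b * t at this
        rw [this, mul_inv_cancel_right]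
      · refine iff_of_false (fun h => hb (hBA h)) fun h => hb ?_
        have := mul_mem (mul_mem (inv_mem htA) (hBA h)) htA
        simpa [mul_assoc] using this
    obtain ⟨β, hβ, t, ht, htβ⟩ := (Coprime.mem_sup_iff hnB).1 h1
    obtain ⟨i, rfl⟩ := mem_zpowers_iff.1 ht
    refine ⟨i, y * (a' ^ i)⁻¹, mul_mem hy (inv_mem (zpow_mem ha' i)), ?_, (inv_mul_cancel_right _ _).symm⟩
    have htA : mk a' ^ i ∈ A2 := zpow_mem (⟨a', ha', rfl⟩ : mk a' ∈ A2) i
    have hc := congrArg Subtype.val (hA2c.is_comm.comm ⟨_, htA⟩ ⟨β, hBA hβ⟩)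
    change mk a' ^ i * β = β * mk a' ^ i at hc
    rw [map_mul, map_inv, map_zpow, ← htβ, mul_inv_cancel_right]
    exact hβ
  have hzp : ∀ x ∈ Q, ∀ i : ℤ, ⁅x, a' ^ i⁆ = ⁅x, a'⁆ ^ i := by
    intro x hx i
    have hc := hcomm x (hQS hx) a' ha'
    have h0 : x * a' * x⁻¹ = ⁅x, a'⁆ * a' := by simp only [commutatorElement_def]; group
    rw [commutatorElement_def, ← conj_zpow, h0, Commute.mul_zpow (hZc _ hc a' ha').symm,
      mul_inv_cancel_right]
  -- `B` is trivial
  have hB1 : ∀ b ∈ (S : Subgroup G), mk b ∈ B → b ∈ Q := by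
    intro b hb hbB
    by_contra hbQ
    obtain ⟨x, hxQ, hxN, hxZ⟩ : ∃ x ∈ Q, (∀ b ∈ (S : Subgroup G), mk b ∈ B → ⁅b, x⁆ ∈ N) ∧ x ∉ Zs := by
      by_contra hc
      push Not at hc
      refine hgN (hnorm g fun z hz => hc _ (Subgroup.Normal.conj_mem inferInstance z (hZQ hz) g) ?_)
      intro b hb hbB
      have hq : g⁻¹ * b * g * b⁻¹ ∈ Q := by
        rw [← QuotientGroup.eq_one_iff]
        change mk _ = 1
        have := (mem_centralizer_iff.1 hg2.2 (mk b) hbB)
        change mk b * mk g = mk g * mk b at this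
        simp only [map_mul, map_inv]
        rw [mul_assoc (mk g)⁻¹, this, inv_mul_cancel_left, mul_inv_cancel]
      have hb' : g⁻¹ * b * g ∈ (S : Subgroup G) := by
        have := mul_mem (hQS hq) hb
        rwa [inv_mul_cancel_right] at this
      have : ⁅b, g * z * g⁻¹⁆ = g * ⁅g⁻¹ * b * g, z⁆ * g⁻¹ := by
        simp only [commutatorElement_def]; group
      rw [this, show ⁅g⁻¹ * b * g, z⁆ = 1 from
        commutatorElement_eq_one_iff_mul_comm.2 (hZc z hz _ hb').eq]
      simp
    set c := ⁅x, a'⁆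
    have hc := hcomm x (hQS hxQ) a' ha'
    have hY : N ⊔ zpowers c ≤ Zs := sup_le hNZ (zpowers_le.2 hc)
    have hZY : Zs ≤ N ⊔ zpowers c := (hND _ hY x (hQS hxQ) fun y hy => by
      obtain ⟨i, b', hb', hb'B, rfl⟩ := hdec y hy
      rw [comm_mul_right (hZc _ (hcomm x (hQS hxQ) _ (zpow_mem ha' i)) b' hb'), hzp x hxQ i,
        show ⁅x, b'⁆ = ⁅b', x⁆⁻¹ from (commutatorElement_inv _ _).symm]
      exact mul_mem (inv_mem (mem_sup_left (hxN b' hb' hb'B)))
        (mem_sup_right (zpow_mem (mem_zpowers c) i))).resolve_left hxZ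
    obtain ⟨x₀, hx₀, hz₀⟩ : ∃ x₀ ∈ Q, ⁅b, x₀⁆ ∉ N := by
      by_contra h
      push Not at h
      exact hbQ (hker b h)
    set z₀ := ⁅b, x₀⁆
    have hz₀Z := hcomm b hb x₀ (hQS hx₀)
    obtain ⟨n, hn, t, ht, hnt⟩ := mem_sup_of_normal_left.1 (hZY hz₀Z)
    obtain ⟨i, rfl⟩ := mem_zpowers_iff.1 ht
    have hcp : c ^ p ∈ N := hQpow _ (hZQ hc)
    have hi : ¬ (p : ℤ) ∣ i := by
      rintro ⟨j, rfl⟩
      apply hz₀
      change ⁅b, x₀⁆ ∈ N
      rw [← hnt, zpow_mul, zpow_natCast]
      exact mul_mem hn (zpow_mem hcp j)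
    obtain ⟨u, v, huv⟩ := (Int.prime_iff_natAbs_prime.2 (by simpa using hp.out) :
      Prime (p : ℤ)).coprime_iff_not_dvd.2 hi
    have hcY : c ∈ N ⊔ zpowers z₀ := by
      have h1 : c ^ i ∈ N ⊔ zpowers z₀ := by
        rw [eq_inv_mul_of_mul_eq hnt]
        exact mul_mem (mem_sup_left (inv_mem hn)) (mem_sup_right (mem_zpowers _))
      rw [← zpow_one c, ← huv, zpow_add, mul_comm u, mul_comm v, zpow_mul, zpow_mul, zpow_natCast]
      exact mul_mem (mem_sup_left (zpow_mem hcp u)) (zpow_mem h1 v)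
    refine hgN (hnorm g fun z hz => ?_)
    have hz' : z ∈ N ⊔ zpowers z₀ :=
      (sup_le le_sup_left (zpowers_le.2 hcY) : N ⊔ zpowers c ≤ N ⊔ zpowers z₀) (hZY hz)
    have hgz₀ : g * z₀ * g⁻¹ ∈ Zs := by
      rw [show g * z₀ * g⁻¹ = ⁅g * b * g⁻¹, g * x₀ * g⁻¹⁆ by
        simp only [z₀, commutatorElement_def]; group]
      refine hcomm _ ?_ _ (hQS (Subgroup.Normal.conj_mem inferInstance _ hx₀ g))
      have hq : g * b * g⁻¹ * b⁻¹ ∈ Q := by
        rw [← QuotientGroup.eq_one_iff]
        change mk _ = 1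
        have := (mem_centralizer_iff.1 hg2.2 (mk b) hbB)
        change mk b * mk g = mk g * mk b at this
        simp only [map_mul, map_inv]
        rw [← this, mul_inv_cancel_right, mul_inv_cancel]
      have := mul_mem (hQS hq) hb
      rwa [inv_mul_cancel_right] at this
    have : (N ⊔ zpowers z₀).map (MulAut.conj g).toMonoidHom ≤ Zs := by
      rw [Subgroup.map_sup, MonoidHom.map_zpowers]
      refine sup_le ?_ (zpowers_le.2 hgz₀)
      rintro _ ⟨m, hm, rfl⟩
      exact hNZ (hNn.conj_mem m hm g)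
    exact this ⟨z, hz', rfl⟩
  have hSgen : ∀ y ∈ (S : Subgroup G), ∃ (i : ℤ) (x : G), x ∈ Q ∧ y = x * a' ^ i := fun y hy =>
    let ⟨i, b, hb, hbB, e⟩ := hdec y hy
    ⟨i, b, hB1 b hb hbB, e⟩
  have haQ : a' ∉ Q := fun h => hy₀ (by
    obtain ⟨i, x, hx, rfl⟩ := hSgen y₀ hy₀S
    exact mul_mem hx (zpow_mem h i))
  -- the element moved by `g`
  obtain ⟨c₀, hc₀Z, hc₀g⟩ : ∃ z ∈ Zs, g * z * g⁻¹ ∉ Zs := by
    by_contra h
    push Not at h
    exact hgN (hnorm g h)
  set e := g * c₀ * g⁻¹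
  have heQ : e ∈ Q := Subgroup.Normal.conj_mem inferInstance _ (hZQ hc₀Z) g
  have heZ : e ∉ Zs := hc₀g
  set c := ⁅e, a'⁆ with hcdef
  have hcZ : c ∈ Zs := hcomm e (hQS heQ) a' ha'
  have hbr : ∀ x ∈ Q, ∀ y ∈ (S : Subgroup G), ∃ (i : ℤ), ∃ n ∈ N, ⁅x, y⁆ = n * ⁅x, a'⁆ ^ i := by
    intro x hx y hy
    obtain ⟨i, b', hb', rfl⟩ := hSgen y hy
    refine ⟨i, _, hQN x hx b' hb', ?_⟩
    rw [comm_mul_right (hZc _ (hcomm x (hQS hx) _ (zpow_mem ha' i)) b' (hQS hb')), hzp x hx i]
  have hZY1 : Zs ≤ N ⊔ zpowers c := (hND _ (sup_le hNZ (zpowers_le.2 hcZ)) e (hQS heQ)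
    fun y hy => by
      obtain ⟨i, n, hn, h⟩ := hbr e heQ y hy
      rw [h]
      exact mul_mem (mem_sup_left hn) (mem_sup_right (zpow_mem (mem_zpowers c) i))).resolve_left heZ
  have hQgen : ∀ x ∈ Q, ∃ i : ℤ, x * (e ^ i)⁻¹ ∈ Zs := by
    intro x hx
    obtain ⟨n, hn, t, ht, hnt⟩ := mem_sup_of_normal_left.1 (hZY1 (hcomm x (hQS hx) a' ha'))
    obtain ⟨i, rfl⟩ := mem_zpowers_iff.1 ht
    refine ⟨i, ?_⟩
    set w := x * (e ^ i)⁻¹ with hw
    have hwQ : w ∈ Q := mul_mem hx (inv_mem (zpow_mem heQ i))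
    have hwa : ⁅w, a'⁆ ∈ N := by
      have hei : ⁅e ^ i, a'⁆ = c ^ i := by
        have h0 : a' * e * a'⁻¹ = c⁻¹ * e := by simp only [c, commutatorElement_def]; group
        rw [show ⁅e ^ i, a'⁆ = e ^ i * (a' * e ^ i * a'⁻¹)⁻¹ by
            simp only [commutatorElement_def, mul_inv_rev, inv_inv, mul_assoc], ← conj_zpow, h0,
          Commute.mul_zpow ((hZc _ hcZ e (hQS heQ)).inv_right.symm), mul_inv_rev, inv_zpow, inv_inv,
          mul_inv_cancel_left]
      have h2 : ⁅x, a'⁆ = c ^ i * ⁅w, a'⁆ := by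
        rw [show x = w * e ^ i by rw [hw, inv_mul_cancel_right],
          comm_mul_left (by rw [hei]; exact (hZc _ (zpow_mem hcZ i) w (hQS hwQ))), hei]
      have h3 : ⁅w, a'⁆ = (c ^ i)⁻¹ * n * c ^ i := by
        rw [mul_assoc, hnt, h2, inv_mul_cancel_left]
      rw [h3]
      have := hNn.conj_mem n hn (c ^ i)⁻¹
      rwa [inv_inv] at this
    refine ((hND N hNZ w (hQS hwQ) fun y hy => ?_).resolve_right hNZ')
    obtain ⟨j, n', hn', h⟩ := hbr w hwQ y hy
    rw [h]
    exact mul_mem hn' (zpow_mem hwa j)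
  have haZ : a' ∉ Zs := fun h => haQ (hZQ h)
  have hZc' : Zs ≤ zpowers c := by
    refine (hND _ (zpowers_le.2 hcZ) a' ha' fun y hy => ?_).resolve_left haZ
    obtain ⟨j, x, hx, rfl⟩ := hSgen y hy
    obtain ⟨i, hi⟩ := hQgen x hx
    set w := x * (e ^ i)⁻¹ with hw
    have hx' : x = w * e ^ i := by rw [hw, inv_mul_cancel_right]
    have h1 : ⁅a', x * a' ^ j⁆ = ⁅a', x⁆ := by simp only [commutatorElement_def]; group
    have h2 : ⁅a', e ^ i⁆ = (⁅e, a'⁆⁻¹) ^ i := by
      have h0 : a' * e * a'⁻¹ = c⁻¹ * e := by simp only [c, commutatorElement_def]; group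
      rw [commutatorElement_def, ← conj_zpow, h0,
        Commute.mul_zpow ((hZc _ hcZ e (hQS heQ)).inv_right.symm), mul_inv_cancel_right]
    rw [h1, hx', comm_mul_right (hZc _ (hcomm a' ha' _ (zpow_mem (hQS heQ) i)) w (hZS hi)), h2,
      show ⁅a', w⁆ = 1 from commutatorElement_eq_one_iff_mul_comm.2 (hZc w hi a' ha').eq, one_mul]
    exact zpow_mem (inv_mem (mem_zpowers c)) i
  have hcp : c ^ p = 1 := by
    have h1 := (hZc _ (hpow e (hQS heQ)) a' ha').eq
    have h2 : ⁅e ^ p, a'⁆ = c ^ p := by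
      have : ∀ n : ℕ, ⁅e ^ n, a'⁆ = c ^ n := by
        intro n
        induction n with
        | zero => simp
        | succ n ih =>
          rw [pow_succ', comm_mul_left (ih.symm ▸ hZc _ (pow_mem hcZ n) e (hQS heQ)), ih, pow_succ]
      exact this p
    rw [← h2]
    exact commutatorElement_eq_one_iff_mul_comm.2 h1.symm
  have hc1 : c ≠ 1 := fun h => hNZ' (hZc'.trans (by rw [h, zpowers_one_eq_bot]; exact bot_le))
  have hcord : orderOf c = p := orderOf_eq_prime hcp hc1
  have hN1 : ∀ n ∈ N, n = 1 := by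
    intro n hn
    by_contra hne
    apply hNZ'
    refine hZc'.trans ?_
    have hle : zpowers n ≤ zpowers c := zpowers_le.2 (hZc' (hNZ hn))
    have heq : zpowers n = zpowers c := eq_of_le_of_card_ge hle (by
      rw [Nat.card_zpowers, Nat.card_zpowers, hcord]
      have := Nat.card_zpowers n ▸ Subgroup.card_dvd_of_le hle
      rw [Nat.card_zpowers, hcord] at this
      rcases (Nat.dvd_prime hp.out).1 this with h | h
      · exact absurd (orderOf_eq_one_iff.1 h) hne
      · exact h.ge)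
    exact heq ▸ zpowers_le.2 hn
  have hep : e ^ p = 1 := hN1 _ (hQpow e heQ)
  have hce : Commute c e := (hZc c hcZ e (hQS heQ)).symm
  have hQab : ∀ x ∈ Q, ∀ y ∈ Q, x * y = y * x := fun x hx y hy =>
    commutatorElement_eq_one_iff_mul_comm.1 (hN1 _ (hQN x hx y hy))
  -- coordinates on `Q`
  have hcoord : ∀ x ∈ Q, ∃ i j : ZMod p, x = pw c i * pw e j := by
    intro x hx
    obtain ⟨j, hj⟩ := hQgen x hx
    obtain ⟨i, hi⟩ := mem_zpowers_iff.1 (hZc' hj)
    refine ⟨(i : ZMod p), (j : ZMod p), ?_⟩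
    have h : ∀ (y : G), y ^ p = 1 → ∀ k : ℤ, pw y (k : ZMod p) = y ^ k := fun y hy k => by
      rw [pw, ← zpow_natCast, ZMod.val_intCast]
      exact (zpow_eq_zpow_emod' k hy).symm
    rw [h c hcp, h e hep, hi, inv_mul_cancel_right]
  have hcoord_unique : ∀ j : ZMod p, pw e j ∈ Zs → j = 0 := by
    intro j hj
    by_contra hne
    apply heZ
    have : pw (pw e j) j⁻¹ ∈ Zs := pow_mem hj _
    rwa [pw, ← pw_mul hep, mul_inv_cancel₀ hne, pw_one hep] at this
  have hcard : Nat.card Q = p ^ 2 := by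
    haveI : NeZero p := ⟨hp.out.ne_zero⟩
    let f : ZMod p × ZMod p → Q := fun v => ⟨pw c v.1 * pw e v.2,
      mul_mem (pow_mem (hZQ hcZ) _) (pow_mem heQ _)⟩
    have hf : Function.Bijective f := by
      refine ⟨fun v w h => ?_, fun x => ?_⟩
      · have h' : pw c v.1 * pw e v.2 = pw c w.1 * pw e w.2 := congrArg Subtype.val h
        have h2 : v.2 - w.2 = 0 := hcoord_unique _ (by
          have e1 : pw e (v.2 - w.2) * pw e w.2 = pw e v.2 := by rw [← pw_add hep, sub_add_cancel]
          have e2 : pw e (v.2 - w.2) = (pw c v.1)⁻¹ * pw c w.1 := by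
            rw [← mul_left_inj (pw e w.2), e1, mul_assoc, ← h', inv_mul_cancel_left]
          rw [e2]
          exact mul_mem (inv_mem (pow_mem hcZ _)) (pow_mem hcZ _))
        rw [sub_eq_zero] at h2
        rw [h2, mul_left_inj] at h'
        refine Prod.ext (ZMod.val_injective p ?_) h2
        have := pow_injOn_Iio_orderOf (x := c) (by simp [hcord, ZMod.val_lt])
          (by simp [hcord, ZMod.val_lt]) h'
        exact this
      · obtain ⟨i, j, h⟩ := hcoord x x.2
        exact ⟨(i, j), Subtype.ext h.symm⟩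
    rw [← Nat.card_congr (Equiv.ofBijective f hf), Nat.card_prod, Nat.card_zmod, pow_two]
  -- the action of `a = a'⁻¹`
  set a := a'⁻¹ with hadef
  have haS : a ∈ (S : Subgroup G) := inv_mem ha'
  have haQ' : a ∉ Q := fun h => haQ (by simpa [a] using inv_mem h)
  have hae : a * e * a⁻¹ = c * e := by
    have h0 : a' * e * a'⁻¹ = c⁻¹ * e := by simp only [c, commutatorElement_def]; group
    have h1 : a' * (c * e) * a'⁻¹ = e := by
      rw [← conj_mul, h0, (hZc c hcZ a' ha').eq, mul_inv_cancel_right, mul_inv_cancel_left]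
    calc a * e * a⁻¹ = a'⁻¹ * (a' * (c * e) * a'⁻¹) * a' := by rw [h1, hadef, inv_inv]
      _ = c * e := by group
  have hac : a * c * a⁻¹ = c := by rw [(hZc c hcZ a haS).eq, mul_inv_cancel_right]
  have hAa : Act c e a (1 : ZMod p) 1 0 1 := by
    refine ⟨?_, ?_⟩
    · rw [hac, pw_one hcp]; simp [pw]
    · rw [hae, pw_one hcp, pw_one hep]
  by_cases hp3 : 5 ≤ p
  · -- a second transvection
    set z := g * a * g⁻¹ with hzdef
    have hze : z * e * z⁻¹ = e := by
      rw [show z * e * z⁻¹ = g * (a * c₀ * a⁻¹) * g⁻¹ by simp only [z, e]; group,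
        (hZc c₀ hc₀Z a haS).eq, mul_inv_cancel_right]
    set x₁ := g⁻¹ * c * g with hx₁
    have hx₁Q : x₁ ∈ Q := by
      have := Subgroup.Normal.conj_mem (inferInstance : Q.Normal) c (hZQ hcZ) g⁻¹
      rwa [inv_inv] at this
    obtain ⟨i₁, j₁, hij⟩ := hcoord x₁ hx₁Q
    have hzc : z * c * z⁻¹ = c * g * pw c j₁ * g⁻¹ := by
      have h2 : a * x₁ * a⁻¹ = x₁ * pw c j₁ := by
        rw [hij, ← conj_mul]
        simp only [pw]
        rw [← conj_pow, ← conj_pow, hac, hae, hce.mul_pow, mul_assoc, (hce.pow_pow _ _).eq]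
      calc z * c * z⁻¹ = g * (a * x₁ * a⁻¹) * g⁻¹ := by simp only [z, x₁]; group
        _ = g * x₁ * g⁻¹ * (g * pw c j₁ * g⁻¹) := by rw [h2]; group
        _ = c * g * pw c j₁ * g⁻¹ := by simp only [x₁]; group
    -- `c₀` is a power of `c`
    obtain ⟨k₀, hk₀⟩ := mem_zpowers_iff.1 (hZc' hc₀Z)
    have hk₀p : ¬ (p : ℤ) ∣ k₀ := by
      rintro ⟨l, rfl⟩
      apply hc₀g
      change g * c₀ * g⁻¹ ∈ Zs
      rw [← hk₀, zpow_mul, zpow_natCast, hcp, one_zpow]
      simp
    obtain ⟨u₀, v₀, huv₀⟩ := (Int.prime_iff_natAbs_prime.2 (by simpa using hp.out) :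
      Prime (p : ℤ)).coprime_iff_not_dvd.2 hk₀p
    have hgce : ∃ s : ZMod p, g * pw c j₁ * g⁻¹ = pw e s := by
      refine ⟨(v₀ : ZMod p) * j₁, ?_⟩
      have h1 : c = c₀ ^ v₀ := by
        conv_lhs => rw [← zpow_one c, ← huv₀, zpow_add, mul_comm u₀, zpow_mul, zpow_natCast, hcp,
          one_zpow, one_mul, mul_comm v₀, zpow_mul, hk₀]
      rw [pw_mul hep, pw, ← conj_pow, h1, ← conj_zpow]
      congr 1
      rw [pw, ← zpow_natCast e, ZMod.val_intCast]
      exact zpow_eq_zpow_emod' v₀ hep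
    obtain ⟨s, hs'⟩ := hgce
    rw [mul_assoc c g, mul_assoc c, hs'] at hzc
    have hs0 : s ≠ 0 := by
      intro h
      rw [h, pw, ZMod.val_zero, pow_zero, mul_one] at hzc
      -- then `a` centralises `x₁`
      have hax : a * x₁ * a⁻¹ = x₁ := by
        have h1 : g * (a * x₁ * a⁻¹) * g⁻¹ = g * x₁ * g⁻¹ := by
          rw [show g * (a * x₁ * a⁻¹) * g⁻¹ = z * c * z⁻¹ by simp only [z, x₁]; group, hzc]
          simp only [x₁]; group
        exact mul_left_cancel (mul_right_cancel h1)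
      have hx₁Z : x₁ ∈ Zs := by
        refine hZmem x₁ (hQS hx₁Q) fun y hy => ?_
        obtain ⟨i, q', hq', rfl⟩ := hSgen y hy
        have h1 : Commute x₁ a := (mul_inv_eq_iff_eq_mul.1 hax).symm
        have h2 : Commute x₁ a' := by simpa [a] using h1.inv_right
        exact ((show Commute x₁ q' from hQab _ hx₁Q _ hq').mul_right (h2.zpow_right i)).eq
      refine hgN ?_
      have : g⁻¹ ∈ NZ := hnorm _ fun w hw => by
        obtain ⟨i, rfl⟩ := mem_zpowers_iff.1 (hZc' hw)
        rw [← conj_zpow, inv_inv]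
        exact zpow_mem hx₁Z i
      simpa using inv_mem this
    have hAz : Act c e z (1 : ZMod p) 0 s 1 := by
      refine ⟨?_, ?_⟩
      · rw [hzc, pw_one hcp]
      · rw [hze, pw_one hep]; simp [pw]
    have hu : ∀ n : ℕ, Act c e (a ^ n) (1 : ZMod p) (n : ZMod p) 0 1 := by
      intro n
      induction n with
      | zero => simpa using Act.one hcp hep
      | succ n ih =>
        have := Act.mul hcp hep hce ih hAa
        simp only [mul_one, mul_zero, add_zero, zero_add, zero_mul, one_mul] at this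
        rw [pow_succ, Nat.cast_succ, add_comm (n : ZMod p)]
        exact this
    have hv : ∀ n : ℕ, Act c e (z ^ n) (1 : ZMod p) 0 ((n : ZMod p) * s) 1 := by
      intro n
      induction n with
      | zero => simpa using Act.one hcp hep
      | succ n ih =>
        have := Act.mul hcp hep hce ih hAz
        simp only [mul_one, mul_zero, add_zero, zero_add, zero_mul, one_mul] at this
        rw [pow_succ, Nat.cast_succ, add_mul, one_mul]
        exact this
    let U : ZMod p → G := fun t => a ^ t.val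
    let V : ZMod p → G := fun t => z ^ (t * s⁻¹).val
    have hU : ∀ t, Act c e (U t) (1 : ZMod p) t 0 1 := fun t => by
      have := hu t.val
      rwa [ZMod.natCast_zmod_val] at this
    have hV : ∀ t, Act c e (V t) (1 : ZMod p) 0 t 1 := fun t => by
      have := hv (t * s⁻¹).val
      rwa [ZMod.natCast_zmod_val, mul_assoc, inv_mul_cancel₀ hs0, mul_one] at this
    have h20 : (2 : ZMod p) ≠ 0 := by
      intro h
      have : ((2 : ℕ) : ZMod p) = 0 := by exact_mod_cast h
      rw [ZMod.natCast_eq_zero_iff] at this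
      exact absurd (Nat.le_of_dvd (by norm_num) this) (by omega)
    let d := U 2 * V (-(2 : ZMod p)⁻¹) * U 2 * (U (-1) * V 1 * U (-1))
    have hd : Act c e d (2 : ZMod p) 0 0 (2 : ZMod p)⁻¹ := by
      have := Act.mul hcp hep hce
        (Act.mul hcp hep hce (Act.mul hcp hep hce (hU 2) (hV (-(2 : ZMod p)⁻¹))) (hU 2))
        (Act.mul hcp hep hce (Act.mul hcp hep hce (hU (-1)) (hV 1)) (hU (-1)))
      convert this using 1 <;> field_simp <;> ring
    have h1 : Act c e (d * a) (2 : ZMod p) 2 0 (2 : ZMod p)⁻¹ := by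
      have := Act.mul hcp hep hce hd hAa
      simpa using this
    have h2 : Act c e (a ^ 4 * d) (2 : ZMod p) 2 0 (2 : ZMod p)⁻¹ := by
      have := Act.mul hcp hep hce (hu 4) hd
      convert this using 1 <;> push_cast <;> field_simp <;> ring
    have hq : (a ^ 4 * d)⁻¹ * (d * a) ∈ Q := by
      apply hCQ
      have key : ∀ x : G, x = c ∨ x = e →
          Commute ((a ^ 4 * d)⁻¹ * (d * a)) x := by
        intro x hx
        have h3 : (d * a) * x * (d * a)⁻¹ = (a ^ 4 * d) * x * (a ^ 4 * d)⁻¹ := by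
          rcases hx with rfl | rfl
          · rw [h1.1, h2.1]
          · rw [h1.2, h2.2]
        have h4 : (a ^ 4 * d)⁻¹ * (d * a) * x * ((a ^ 4 * d)⁻¹ * (d * a))⁻¹ = x := by
          calc (a ^ 4 * d)⁻¹ * (d * a) * x * ((a ^ 4 * d)⁻¹ * (d * a))⁻¹
              = (a ^ 4 * d)⁻¹ * ((d * a) * x * (d * a)⁻¹) * (a ^ 4 * d) := by group
            _ = x := by rw [h3]; group
        exact mul_inv_eq_iff_eq_mul.1 h4
      refine mem_centralizer_iff.2 fun x hx => ?_
      obtain ⟨i, j, rfl⟩ := hcoord x hx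
      exact (((key c (Or.inl rfl)).pow_right _).mul_right ((key e (Or.inr rfl)).pow_right _)).symm.eq
    let π : G →* (G ⧸ Q) ⧸ M := (QuotientGroup.mk' M).comp mk
    have hπg : π g = 1 := (QuotientGroup.eq_one_iff _).2 hg2.1
    have hπz : π z = π a := by simp [z, map_mul, map_inv, hπg]
    have hπd : Commute (π d) (π a) := by
      simp only [d, U, V, map_mul, map_pow, hπz]
      exact ((((Commute.self_pow (π a) _).mul_right (Commute.self_pow _ _)).mul_right
        (Commute.self_pow _ _)).mul_right (((Commute.self_pow (π a) _).mul_right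
        (Commute.self_pow _ _)).mul_right (Commute.self_pow _ _))).symm
    have h3 : π (d * a) = π (a ^ 4 * d) := by
      have h0 : π ((a ^ 4 * d)⁻¹ * (d * a)) = 1 := by
        change QuotientGroup.mk' M (mk _) = 1
        rw [show mk ((a ^ 4 * d)⁻¹ * (d * a)) = 1 from (QuotientGroup.eq_one_iff _).2 hq, map_one]
      rw [map_mul π (a ^ 4 * d)⁻¹, map_inv, inv_mul_eq_one] at h0
      exact h0.symm
    have h4 : π a ^ 3 = 1 := by
      simp only [map_mul, map_pow] at h3
      rw [hπd.eq] at h3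
      have h5 := mul_right_cancel h3
      rw [pow_succ] at h5
      exact right_eq_mul.1 h5
    have h5 : (mk a) ^ 3 = 1 := by
      refine hMA _ ?_ (pow_mem (⟨a, haS, rfl⟩ : mk a ∈ A2) 3)
      rw [← QuotientGroup.eq_one_iff]
      exact h4
    have h6 : (mk a) ^ p = 1 := by
      rw [← map_pow]
      exact (QuotientGroup.eq_one_iff _).2 (hZQ (hpow a haS))
    apply haQ'
    rw [← QuotientGroup.eq_one_iff, ← orderOf_eq_one_iff]
    exact Nat.eq_one_of_dvd_coprimes ((Nat.coprime_primes Nat.prime_three hp.out).2 (by omega))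
      (orderOf_dvd_of_pow_eq_one h5) (orderOf_dvd_of_pow_eq_one h6)
  -- small primes
  have hp23 : p = 2 ∨ p = 3 := by
    have := hp.out.two_le
    rcases (by omega : p = 2 ∨ p = 3 ∨ p = 4) with h | h | h
    · exact Or.inl h
    · exact Or.inr h
    · exact absurd (h ▸ hp.out) (by decide)
  set Q' := Q.subgroupOf (S : Subgroup G) with hQ'
  set e' : (S : Subgroup G) := ⟨e, hQS heQ⟩
  have hcenQ' : center (S : Subgroup G) ≤ Q' := fun x hx =>
    mem_subgroupOf.2 (hZQ ((memZ x x.2).2 hx))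
  have he'Z : e' ∉ center (S : Subgroup G) := fun h => heZ ((memZ _ _).2 h)
  have hQ'ne : Q' ≠ center (S : Subgroup G) := fun h =>
    he'Z (h ▸ (mem_subgroupOf.2 heQ : e' ∈ Q'))
  have hQ'top : Q' ≠ ⊤ := fun h => hy₀ (mem_subgroupOf.1
    (show (⟨y₀, hy₀S⟩ : (S : Subgroup G)) ∈ Q' by rw [h]; trivial))
  -- `α` moves `e`
  have hαe : α e' ∉ Q' := by
    intro h
    refine hQ'top (hαmax Q' hcenQ' hQ'ne fun x hx => ?_)
    obtain ⟨j, hj⟩ := hQgen x (mem_subgroupOf.1 hx)
    have hmem := (memZ _ (hZS hj)).1 hj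
    set w : (S : Subgroup G) := ⟨(x : G) * (e ^ j)⁻¹, hZS hj⟩
    have hx' : x = w * e' ^ j := Subtype.ext (by simp [w, e'])
    rw [hx', map_mul, map_zpow, hαfix w hmem]
    exact mul_mem (hcenQ' hmem) (zpow_mem h j)
  have hidx : Q'.index = p := by
    have hle : ∀ y : (S : Subgroup G), ∃ i : ℤ, y * ((⟨a', ha'⟩ : (S : Subgroup G)) ^ i)⁻¹ ∈ Q' := by
      intro y
      obtain ⟨i, x, hx, h⟩ := hSgen y y.2
      refine ⟨i, mem_subgroupOf.2 ?_⟩
      simp [h, hx]
    haveI : Q'.Normal := Subgroup.normal_subgroupOf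
    have hord : orderOf ((⟨a', ha'⟩ : (S : Subgroup G)) : (S : Subgroup G) ⧸ Q') = p := by
      refine orderOf_eq_prime ?_ fun h => haQ (mem_subgroupOf.1 ((QuotientGroup.eq_one_iff _).1 h))
      rw [← QuotientGroup.mk_pow, QuotientGroup.eq_one_iff, mem_subgroupOf]
      exact hZQ (hpow a' ha')
    rw [Subgroup.index_eq_card]
    refine Eq.trans ?_ ((Nat.card_zpowers _).trans hord)
    refine (Nat.card_congr (Equiv.subtypeUnivEquiv fun q => ?_)).symm
    induction q using QuotientGroup.induction_on with | _ y => ?_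
    obtain ⟨i, hi⟩ := hle y
    refine ⟨i, ?_⟩
    have h1 := (QuotientGroup.eq_one_iff _).2 hi
    rw [QuotientGroup.mk_mul, QuotientGroup.mk_inv, QuotientGroup.mk_zpow, mul_inv_eq_one] at h1
    exact h1.symm
  have hScard : Nat.card (S : Subgroup G) = p ^ 3 := by
    rw [← Q'.card_mul_index, hidx, Nat.card_congr (subgroupOfEquivOfLe hQS).toEquiv, hcard]
    ring
  have hcencard : Nat.card (center (S : Subgroup G)) = p := by
    rw [← card_map_of_injective (K := center (S : Subgroup G)) (f := (S : Subgroup G).subtype)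
        (S : Subgroup G).subtype_injective,
      ← hZs, le_antisymm hZc' (zpowers_le.2 hcZ), Nat.card_zpowers, hcord]
  -- no fixed point outside the centre
  have hfixed : ∀ x : (S : Subgroup G), α x = x → x ∈ center (S : Subgroup G) := by
    intro x hx
    by_contra hxZ
    let F : Subgroup (S : Subgroup G) :=
      { carrier := {x | α x = x}
        one_mem' := map_one α
        mul_mem' := fun {u v} hu hv => by change α (u * v) = u * v; rw [map_mul, hu, hv]
        inv_mem' := fun {u} hu => by change α u⁻¹ = u⁻¹; rw [map_inv, hu] }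
    have hF := hαmax F (fun z hz => hαfix z hz) (fun h => hxZ (h ▸ (hx : x ∈ F)))
      (fun h hh => by rw [show α h = h from hh]; exact hh)
    exact hαe (by rw [show α e' = e' from (hF ▸ mem_top e' : e' ∈ F)]; exact mem_subgroupOf.2 heQ)
  have hqdvd : q ∣ p ^ 3 - p := by
    let X := {x : (S : Subgroup G) // x ∉ center (S : Subgroup G)}
    have hinv : ∀ x, x ∉ center (S : Subgroup G) → α x ∉ center (S : Subgroup G) := fun x hx h =>
      hx (by rwa [α.injective (hαfix _ h)] at h)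
    let f : Equiv.Perm X := Equiv.ofBijective (fun x => ⟨α x, hinv x x.2⟩)
      (Finite.injective_iff_bijective.1 fun u v h =>
        Subtype.ext (α.injective (congrArg Subtype.val h)))
    have hfq : f ^ q = 1 := by
      have key : ∀ (n : ℕ) (x : X), ((f ^ n) x : (S : Subgroup G)) = (α ^ n) x := by
        intro n
        induction n with
        | zero => exact fun x => rfl
        | succ n ih =>
          intro x
          rw [pow_succ, pow_succ, Equiv.Perm.mul_apply, MulAut.mul_apply, ih]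
          rfl
      ext x
      rw [key, hαq]
      rfl
    haveI : Fact q.Prime := ⟨hq⟩
    have hpg : IsPGroup q (zpowers f) := by
      obtain ⟨k, -, hk⟩ := (Nat.dvd_prime_pow hq).1
        (show orderOf f ∣ q ^ 1 by rw [pow_one]; exact orderOf_dvd_of_pow_eq_one hfq)
      exact IsPGroup.of_card (by rw [Nat.card_zpowers]; exact hk)
    have hmod := hpg.card_modEq_card_fixedPoints X
    have hempty : IsEmpty (MulAction.fixedPoints (zpowers f) X) :=
      ⟨fun x => x.1.2 (hfixed _ (congrArg Subtype.val (x.2 ⟨f, mem_zpowers f⟩ :)))⟩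
    rw [Nat.card_eq_zero.2 (Or.inl hempty), Nat.modEq_zero_iff_dvd] at hmod
    haveI := Fintype.ofFinite (S : Subgroup G)
    rw [Nat.card_eq_fintype_card, Fintype.card_subtype_compl, ← Nat.card_eq_fintype_card, hScard,
      ← Nat.card_eq_fintype_card] at hmod
    rwa [show Nat.card {x // x ∈ center (S : Subgroup G)} = p from hcencard] at hmod
  rcases hp23 with rfl | rfl
  · -- `p = 2`
    have hq3 : q = 3 := by
      rcases (hq.dvd_mul.1 (show q ∣ 2 * 3 by simpa using hqdvd)) with h | h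
      · exact absurd ((Nat.prime_dvd_prime_iff_eq hq Nat.prime_two).1 h) hqp
      · exact (Nat.prime_dvd_prime_iff_eq hq Nat.prime_three).1 h
    subst hq3
    have h3 : ∀ x, α (α (α x)) = x := fun x => by
      have := DFunLike.congr_fun hαq x
      simpa [pow_succ] using this
    haveI : Q'.Normal := Subgroup.normal_subgroupOf
    have hmul2 : ∀ u v, u ∉ Q' → v ∉ Q' → u * v ∈ Q' := fun u v hu hv =>
      (mul_mem_iff_of_index_two hidx).2 (iff_of_false hu hv)
    have hQ'el : ∀ x ∈ Q', x ∈ center (S : Subgroup G) ∨ x * e'⁻¹ ∈ center (S : Subgroup G) := by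
      intro x hx
      obtain ⟨i, j, hij⟩ := hcoord x (mem_subgroupOf.1 hx)
      have hcc : (⟨c, hZS hcZ⟩ : (S : Subgroup G)) ∈ center (S : Subgroup G) := (memZ _ _).1 hcZ
      rcases (show ∀ j : ZMod 2, j = 0 ∨ j = 1 by intro j; fin_cases j <;> first | exact Or.inl rfl | exact Or.inr rfl) j with rfl | rfl
      · left
        rw [show x = (⟨c, hZS hcZ⟩ : (S : Subgroup G)) ^ i.val from
          Subtype.ext (by simpa [pw] using hij)]
        exact pow_mem hcc _
      · right
        rw [show x * e'⁻¹ = (⟨c, hZS hcZ⟩ : (S : Subgroup G)) ^ i.val from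
          Subtype.ext (by simp [hij, e', pw, show ZMod.val (1 : ZMod 2) = 1 from rfl])]
        exact pow_mem hcc _
    have hQ'sq : ∀ x ∈ Q', x ^ 2 = 1 := fun x hx =>
      Subtype.ext (hN1 _ (hQpow _ (mem_subgroupOf.1 hx)))
    have hall : ∀ w : (S : Subgroup G), w ^ 2 = 1 := by
      have hα2e : α (α e') ∉ Q' := by
        intro h
        rcases hQ'el _ h with h' | h'
        · apply he'Z
          rw [← h3 e', hαfix _ h']
          exact h'
        · apply hαe
          have h1 := hαfix _ h'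
          rw [map_mul, map_inv, h3] at h1
          have h2 : α e' = (α (α e') * e'⁻¹)⁻¹ * e' := by
            rw [← h1]; group
          rw [h2]
          exact mul_mem (inv_mem (hcenQ' h')) (mem_subgroupOf.2 heQ)
      intro w
      by_cases hw : w ∈ Q'
      · exact hQ'sq w hw
      have hr : ∃ v ∈ Q', w = α v ∨ w = α (α v) := by
        have h1 := hmul2 w (α e')⁻¹ hw (fun h => hαe (by simpa using inv_mem h))
        rcases hQ'el _ h1 with h | h
        · refine ⟨w * (α e')⁻¹ * e', mul_mem (hcenQ' h) (mem_subgroupOf.2 heQ), Or.inl ?_⟩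
          rw [map_mul, hαfix _ h, inv_mul_cancel_right]
        · have h2 := hmul2 (α (α e')) (α e')⁻¹ hα2e (fun h => hαe (by simpa using inv_mem h))
          rcases hQ'el _ h2 with h' | h'
          · exfalso
            apply hαe
            have h4 := hαfix _ h'
            rw [map_mul, map_inv, h3] at h4
            generalize hz : α (α e') * (α e')⁻¹ = z at h4 h'
            have hA : α e' = z⁻¹ * α (α e') := by rw [← hz]; group
            have hB : α (α e') = z⁻¹ * e' := by rw [← h4]; group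
            rw [hA, hB]
            exact mul_mem (inv_mem (hcenQ' h'))
              (mul_mem (inv_mem (hcenQ' h')) (mem_subgroupOf.2 heQ))
          · have hz := mul_mem h (inv_mem h')
            refine ⟨(w * (α e')⁻¹ * e'⁻¹) * (α (α e') * (α e')⁻¹ * e'⁻¹)⁻¹ * e',
              mul_mem (hcenQ' hz) (mem_subgroupOf.2 heQ), Or.inr ?_⟩
            rw [map_mul α _ e', hαfix _ hz, map_mul α _ (α e'), hαfix _ hz]
            group
      obtain ⟨v, hv, rfl | rfl⟩ := hr <;> rw [← map_pow] <;> simp [hQ'sq v hv, ← map_pow]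
    have : ∀ u v : (S : Subgroup G), u * v = v * u := fun u v => by
      have hinv : ∀ w : (S : Subgroup G), w⁻¹ = w := fun w =>
        inv_eq_of_mul_eq_one_right (by rw [← pow_two]; exact hall w)
      rw [← hinv (u * v), mul_inv_rev, hinv, hinv]
    exact haZ (hZmem a' ha' fun b hb => congrArg Subtype.val (this ⟨a', ha'⟩ ⟨b, hb⟩))
  · -- `p = 3`
    have hq2 : q = 2 := by
      rcases (hq.dvd_mul.1 (show q ∣ 2 ^ 3 * 3 by simpa using hqdvd)) with h | h
      · exact (Nat.prime_dvd_prime_iff_eq hq Nat.prime_two).1 (hq.dvd_of_dvd_pow h)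
      · exact absurd ((Nat.prime_dvd_prime_iff_eq hq Nat.prime_three).1 h) hqp
    subst hq2
    apply hαe
    have h2 : α (α e') = e' := by
      have := DFunLike.congr_fun hαq e'
      simpa [pow_succ] using this
    set y := α e' with hy
    have hcm : ⁅e', y⁆ ∈ center (S : Subgroup G) :=
      hαcomm ▸ commutator_mem_commutator (mem_top _) (mem_top _)
    have h4 : ⁅y, e'⁆ = ⁅e', y⁆ := by
      have := hαfix _ hcm
      rwa [map_commutatorElement, ← hy, show α y = e' from h2] at this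
    have h5 : ⁅(e' : G), (y : G)⁆ = 1 := by
      have h6 : ⁅(e' : G), (y : G)⁆ ^ 2 = 1 := by
        have h7 : ⁅(y : G), (e' : G)⁆ = ⁅(e' : G), (y : G)⁆ := congrArg Subtype.val h4
        rw [pow_two]
        nth_rewrite 1 [← h7]
        rw [← commutatorElement_inv, inv_mul_cancel]
      obtain ⟨i, hi⟩ := mem_zpowers_iff.1 (hZc' (hcomm _ e'.2 _ y.2))
      rw [← orderOf_eq_one_iff]
      refine Nat.eq_one_of_dvd_coprimes (show Nat.Coprime 2 3 by decide)
        (orderOf_dvd_of_pow_eq_one h6) (orderOf_dvd_of_pow_eq_one ?_)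
      rw [← hi, ← zpow_natCast, ← zpow_mul, mul_comm, zpow_mul, zpow_natCast, hcp, one_zpow]
    obtain ⟨i, x, hx, hyx⟩ := hSgen y y.2
    rw [show (e' : G) = e from rfl, hyx,
      comm_mul_right (hZc _ (hcomm e (hQS heQ) _ (zpow_mem ha' i)) x (hQS hx)),
      hzp e heQ i, show ⁅e, x⁆ = 1 from commutatorElement_eq_one_iff_mul_comm.2 (hQab e heQ x hx),
      one_mul, ← orderOf_dvd_iff_zpow_eq_one, hcord] at h5
    obtain ⟨l, rfl⟩ := h5
    refine mem_subgroupOf.2 ?_
    rw [hyx, zpow_mul, zpow_natCast]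
    exact mul_mem hx (zpow_mem (hZQ (hpow a' ha')) l)

end Core

end Cfsg.Agent.H46.SchmidtPLength
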