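import Cfsg.Agent.S1282
import Cfsg.Agent.H42.Transitivity
import Cfsg.Agent.Coprime.Action
import Cfsg.Agent.Cores.PCore
import Cfsg.Prelude.Def_Balance
import Cfsg.Prelude.Def_Local

/-!
The transitivity theorem for solvable signalizer functors: maximal `q`-members of the family are
conjugate under the intersection of the values of the functor.
-/

set_option autoImplicit false

namespace Cfsg.Agent.H46.SignalizerTrans

open Subgroup

variable {G : Type*} [Group G] [Finite G] {p : ℕ} [Fact p.Prime] {A : Subgroup G} {θ : G → Subgroup G}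

theorem exists_ne_one (hA3 : p ^ 3 ≤ Nat.card ↥A) : ∃ a ∈ A, a ≠ 1 := by
  refine (A.bot_or_exists_ne_one).resolve_left fun h => ?_
  rw [h, Subgroup.card_bot] at hA3
  exact absurd hA3 (Nat.one_lt_pow (by norm_num) (Fact.out : p.Prime).one_lt).not_ge

theorem le_centralizer_self (hA : Cfsg.IsElementaryAbelian p A) {a : G} (ha : a ∈ A) :
    A ≤ centralizer ({a} : Set G) := fun b hb => by
  rw [mem_centralizer_singleton_iff]
  exact congrArg Subtype.val (hA.1.is_comm.comm ⟨b, hb⟩ ⟨a, ha⟩)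

theorem coprime_card (hA : Cfsg.IsElementaryAbelian p A) {U : Subgroup G} (hU : ¬ p ∣ Nat.card ↥U) :
    (Nat.card ↥A).Coprime (Nat.card ↥U) := by
  have hpA : IsPGroup p A := fun a => ⟨1, Subtype.ext (by simpa using hA.2 a a.2)⟩
  obtain ⟨n, hn⟩ := IsPGroup.iff_card.mp hpA
  rw [hn]
  exact Nat.Coprime.pow_left _ ((Fact.out : p.Prime).coprime_iff_not_dvd.mpr hU)

theorem le_normalizer_of_family {U : Subgroup G} (hU : U ∈ Cfsg.signalizerFamily p A θ) :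
    A ≤ normalizer (U : Set G) := le_normalizer_iff.mpr hU.2.2.1

theorem solvable_of_abelian (hA : Cfsg.IsElementaryAbelian p A) : Group.IsSolvable A := by
  haveI := hA.1
  exact Coprime.isSolvable_of_isMulCommutative

theorem inf_le_centralizer (hθ : Cfsg.IsSolvableSignalizerFunctor p A θ) :
    Cfsg.signalizerInf A θ ≤ centralizer (A : Set G) := by
  intro c hc
  rw [mem_centralizer_iff]
  intro a ha
  by_cases h1 : a = 1
  · subst h1; simp
  · have h := hθ.1.1 a ha h1 ((iInf_le (fun a : {a : G // a ∈ A ∧ a ≠ 1} => θ a) ⟨a, ha, h1⟩) hc)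
    exact (mem_centralizer_singleton_iff.mp h).symm

theorem inf_le (A : Subgroup G) {a : G} (ha : a ∈ A) (h1 : a ≠ 1) :
    Cfsg.signalizerInf A θ ≤ θ a :=
  iInf_le (fun a : {a : G // a ∈ A ∧ a ≠ 1} => θ a) ⟨a, ha, h1⟩

/-- The family is invariant under conjugation by elements of the intersection. -/
theorem conj_mem_family (hθ : Cfsg.IsSolvableSignalizerFunctor p A θ) {c : G}
    (hc : c ∈ Cfsg.signalizerInf A θ) {U : Subgroup G} (hU : U ∈ Cfsg.signalizerFamily p A θ) :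
    U.map (MulAut.conj c).toMonoidHom ∈ Cfsg.signalizerFamily p A θ := by
  obtain ⟨hUs, hUp, hUA, hUc⟩ := hU
  have hcA : ∀ b ∈ A, c * b = b * c := fun b hb =>
    ((mem_centralizer_iff.mp (inf_le_centralizer hθ hc)) b hb).symm
  refine ⟨Coprime.isSolvable_map _ hUs, by rwa [Coprime.card_map_conj], fun b hb x hx => ?_,
    fun a ha h1 x hx => ?_⟩
  · rw [Coprime.mem_map_conj] at hx ⊢
    have h := hUA b hb _ hx
    have hcb : c * b⁻¹ = b⁻¹ * c := hcA _ (inv_mem hb)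
    have hcb' : c⁻¹ * b = b * c⁻¹ := by
      rw [inv_mul_eq_iff_eq_mul, ← mul_assoc, hcA b hb, mul_assoc, mul_inv_cancel, mul_one]
    convert h using 1
    calc c⁻¹ * (b * x * b⁻¹) * c = (c⁻¹ * b) * x * (b⁻¹ * c) := by simp [mul_assoc]
      _ = _ := by rw [hcb', ← hcb]; simp [mul_assoc]
  · obtain ⟨hx1, hx2⟩ := hx
    replace hx1 := Coprime.mem_map_conj.mp hx1
    have hcθ := inf_le A ha h1 hc
    have hca : c ∈ centralizer ({a} : Set G) := mem_centralizer_singleton_iff.mpr (hcA a ha)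
    have hx2' : x ∈ centralizer ({a} : Set G) := hx2
    have hx3 : c⁻¹ * x * c ∈ centralizer ({a} : Set G) := mul_mem (mul_mem (inv_mem hca) hx2') hca
    have h := hUc a ha h1 ⟨hx1, hx3⟩
    have h' := mul_mem (mul_mem hcθ h) (inv_mem hcθ)
    simpa [mul_assoc] using h'

/-- An invariant `q`-subgroup of the normalizer of a `q`-member, lying in a value of the functor,
extends the member inside the family. -/
theorem sup_mem_family (hA : Cfsg.IsElementaryAbelian p A)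
    (hθ : Cfsg.IsSolvableSignalizerFunctor p A θ) {q : ℕ} [Fact q.Prime] {D R : Subgroup G}
    (hD : D ∈ Cfsg.signalizerFamily p A θ) (hDq : IsPGroup q D) (hRq : IsPGroup q R)
    (hqp : q ≠ p) {a : G} (ha : a ∈ A) (h1 : a ≠ 1) (hR : R ≤ θ a) (hRA : A ≤ normalizer (R : Set G))
    (hRD : R ≤ normalizer (D : Set G)) : D ⊔ R ∈ Cfsg.signalizerFamily p A θ := by
  have hq : IsPGroup q ↥(D ⊔ R) := hDq.to_sup_of_normal_left' hRq hRD
  obtain ⟨n, hn⟩ := IsPGroup.iff_card.mp hq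
  have hnp : ¬ p ∣ Nat.card ↥(D ⊔ R) := fun h => hqp (by
    rw [hn] at h
    exact ((Nat.prime_dvd_prime_iff_eq Fact.out Fact.out).mp
      ((Fact.out : p.Prime).dvd_of_dvd_pow h)).symm)
  have hsA : A ≤ normalizer ((D ⊔ R : Subgroup G) : Set G) := by
    intro b hb
    refine Coprime.mem_normalizer_of_map_conj ?_
    rw [Subgroup.map_sup, Coprime.map_conj_eq (le_normalizer_of_family hD hb),
      Coprime.map_conj_eq (hRA hb)]
  haveI := hq.isNilpotent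
  refine ⟨inferInstance, hnp, fun b hb x hx => Coprime.conj_mem (hsA hb) hx,
    fun b hb hb1 x hx => ?_⟩
  obtain ⟨d, hd, r, hr, hrd⟩ := (Coprime.mem_sup_iff hRD).mp hx.1
  have hzA : zpowers b ≤ A := zpowers_le.mpr hb
  haveI := hA.1
  have hcc : x ∈ centralizer (zpowers b : Set G) := by
    rw [← H42.centralizer_zpowers'] at hx
    exact hx.2
  rw [← hrd] at hcc
  obtain ⟨d', hd', r', hr', he⟩ := Coprime.centralizer_mul (A := zpowers b) (K := D ⊔ R)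
    (hzA.trans hsA)
    ((coprime_card hA hnp).coprime_dvd_left (Subgroup.card_dvd_of_le hzA))
    (Or.inl (Coprime.isSolvable_zpowers b)) le_sup_left le_sup_right
    (hzA.trans (le_normalizer_of_family hD)) (hzA.trans hRA) hd hr hcc
  have h1' : r' ∈ θ b := by
    refine hθ.1.2.2.2 a ha h1 b hb hb1 ⟨hR hr'.1, ?_⟩
    rw [← H42.centralizer_zpowers']
    exact hr'.2
  have h2' : d' ∈ θ b := by
    refine hD.2.2.2 b hb hb1 ⟨hd'.1, ?_⟩
    rw [← H42.centralizer_zpowers']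
    exact hd'.2
  rw [← hrd, he]
  exact mul_mem h2' h1'

/-- Every `q`-member lies in a maximal one. -/
theorem exists_max {q : ℕ} {U : Subgroup G} (hU : U ∈ Cfsg.signalizerFamily p A θ)
    (hUq : IsPGroup q U) : ∃ Q, Q ∈ Cfsg.signalizerFamily p A θ ∧ IsPGroup q Q ∧ U ≤ Q ∧
      ∀ R ∈ Cfsg.signalizerFamily p A θ, IsPGroup q ↥R → Q ≤ R → R = Q := by
  obtain ⟨Q, ⟨h1, h2, h3⟩, hmax⟩ := Set.Finite.exists_maximalFor id
    {Q : Subgroup G | Q ∈ Cfsg.signalizerFamily p A θ ∧ IsPGroup q Q ∧ U ≤ Q}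
    (Set.toFinite _) ⟨U, hU, hUq, le_rfl⟩
  exact ⟨Q, h1, h2, h3, fun R hR hRq hQR =>
    le_antisymm (hmax ⟨hR, hRq, h3.trans hQR⟩ hQR) hQR⟩

/-- Transitivity. -/
theorem transitive (hA : Cfsg.IsElementaryAbelian p A) (hA3 : p ^ 3 ≤ Nat.card ↥A)
    (hθ : Cfsg.IsSolvableSignalizerFunctor p A θ) {q : ℕ} [Fact q.Prime] (hqp : q ≠ p) :
    ∀ (Q₁ Q₂ : Subgroup G), Q₁ ∈ Cfsg.signalizerFamily p A θ → IsPGroup q ↥Q₁ →
      (∀ R ∈ Cfsg.signalizerFamily p A θ, IsPGroup q ↥R → Q₁ ≤ R → R = Q₁) →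
      Q₂ ∈ Cfsg.signalizerFamily p A θ → IsPGroup q ↥Q₂ →
      (∀ R ∈ Cfsg.signalizerFamily p A θ, IsPGroup q ↥R → Q₂ ≤ R → R = Q₂) →
      ∃ c ∈ Cfsg.signalizerInf A θ, Q₁.map (MulAut.conj c).toMonoidHom = Q₂ := by
  suffices H : ∀ (m : ℕ) (Q₁ Q₂ : Subgroup G), Nat.card G - Nat.card ↥(Q₁ ⊓ Q₂) ≤ m →
      Q₁ ∈ Cfsg.signalizerFamily p A θ → IsPGroup q ↥Q₁ →
      (∀ R ∈ Cfsg.signalizerFamily p A θ, IsPGroup q ↥R → Q₁ ≤ R → R = Q₁) →
      Q₂ ∈ Cfsg.signalizerFamily p A θ → IsPGroup q ↥Q₂ →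
      (∀ R ∈ Cfsg.signalizerFamily p A θ, IsPGroup q ↥R → Q₂ ≤ R → R = Q₂) →
      ∃ c ∈ Cfsg.signalizerInf A θ, Q₁.map (MulAut.conj c).toMonoidHom = Q₂ by
    exact fun Q₁ Q₂ => H _ Q₁ Q₂ le_rfl
  intro m
  induction m using Nat.strong_induction_on with
  | _ m ih =>
  intro Q₁ Q₂ hm hW₁ hq₁ hmax₁ hW₂ hq₂ hmax₂
  by_cases hD₁ : Q₁ ⊓ Q₂ = Q₁
  · exact ⟨1, one_mem _, by rw [Coprime.map_conj_one]; exact (hmax₁ Q₂ hW₂ hq₂ (inf_eq_left.mp hD₁)).symm⟩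
  by_cases hD₂ : Q₁ ⊓ Q₂ = Q₂
  · exact ⟨1, one_mem _, by rw [Coprime.map_conj_one]; exact hmax₂ Q₁ hW₁ hq₁ (inf_eq_right.mp hD₂)⟩
  have hA₁ := le_normalizer_of_family hW₁
  have hA₂ := le_normalizer_of_family hW₂
  obtain ⟨a, ha, h1, hn₁, hn₂⟩ :=
    S1282.result p A hA hA3 q hqp Q₁ Q₂ hq₁ hq₂ hA₁ hA₂ hD₁ hD₂
  set D := Q₁ ⊓ Q₂ with hD
  have hAD : A ≤ normalizer (D : Set G) := le_normalizer_iff.mpr fun b hb v hv =>
    ⟨Coprime.conj_mem (hA₁ hb) hv.1, Coprime.conj_mem (hA₂ hb) hv.2⟩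
  have hDW : D ∈ Cfsg.signalizerFamily p A θ :=
    ⟨Coprime.isSolvable_of_le inf_le_left hW₁.1,
      fun h => hW₁.2.1 (h.trans (Subgroup.card_dvd_of_le inf_le_left)),
      fun b hb v hv => Coprime.conj_mem (hAD hb) hv,
      fun b hb hb1 => (inf_le_inf_right _ inf_le_left).trans (hW₁.2.2.2 b hb hb1)⟩
  have hDq : IsPGroup q D := hq₁.to_le inf_le_left
  have hAθ : A ≤ normalizer (θ a : Set G) := le_normalizer_iff.mpr (hθ.1.2.2.1 a ha h1)
  have hAN : A ≤ normalizer ((normalizer (D : Set G) : Subgroup G) : Set G) :=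
    hAD.trans le_normalizer
  set M := θ a ⊓ normalizer (D : Set G) with hM
  have hAM : A ≤ normalizer (M : Set G) := le_normalizer_iff.mpr fun b hb v hv =>
    ⟨Coprime.conj_mem (hAθ hb) hv.1, Coprime.conj_mem (hAN hb) hv.2⟩
  have hMp : ¬ p ∣ Nat.card ↥M := fun h => hθ.1.2.1 a ha h1
    (h.trans (Subgroup.card_dvd_of_le inf_le_left))
  have hcop := coprime_card hA hMp
  have hsol : Group.IsSolvable A ∨ Group.IsSolvable M := Or.inl (solvable_of_abelian hA)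
  -- the two groups N_{Q_i}(D) ∩ C(a)
  have hX : ∀ Q : Subgroup G, Q ∈ Cfsg.signalizerFamily p A θ → IsPGroup q Q →
      normalizer (D : Set G) ⊓ Q ⊓ centralizer {a} ≤ M ∧
      IsPGroup q ↥(normalizer (D : Set G) ⊓ Q ⊓ centralizer {a}) ∧
      A ≤ normalizer ((normalizer (D : Set G) ⊓ Q ⊓ centralizer {a} : Subgroup G) : Set G) := by
    intro Q hQ hQq
    refine ⟨fun v hv => ⟨hQ.2.2.2 a ha h1 ⟨hv.1.2, hv.2⟩, hv.1.1⟩,
      hQq.to_le (inf_le_left.trans inf_le_right), le_normalizer_iff.mpr fun b hb v hv => ?_⟩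
    have hba := le_centralizer_self hA ha hb
    have hv2 : v ∈ centralizer ({a} : Set G) := hv.2
    have hv3 : b * v * b⁻¹ ∈ centralizer ({a} : Set G) := mul_mem (mul_mem hba hv2) (inv_mem hba)
    exact ⟨⟨Coprime.conj_mem (hAN hb) hv.1.1, Coprime.conj_mem (le_normalizer_of_family hQ hb) hv.1.2⟩,
      hv3⟩
  obtain ⟨hX₁M, hX₁q, hX₁A⟩ := hX Q₁ hW₁ hq₁
  obtain ⟨hX₂M, hX₂q, hX₂A⟩ := hX Q₂ hW₂ hq₂
  obtain ⟨P₁, hP₁, hP₁A⟩ := Coprime.exists_invariant_sylow_ge hAM hcop hsol q hX₁M hX₁q hX₁A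
  obtain ⟨P₂, hP₂, hP₂A⟩ := Coprime.exists_invariant_sylow_ge hAM hcop hsol q hX₂M hX₂q hX₂A
  obtain ⟨c, hcA, hc⟩ := Coprime.exists_conj_invariant_sylow hAM hcop hsol q P₂ P₁ hP₂A hP₁A
  set R₁ := (P₁ : Subgroup M).map M.subtype with hR₁
  set R₂ := (P₂ : Subgroup M).map M.subtype with hR₂
  have hcR : R₂.map (MulAut.conj (c : G)).toMonoidHom = R₁ := by
    rw [hR₁, hR₂, ← hc]
    show _ = ((P₂ : Subgroup M).map (MulAut.conj c).toMonoidHom).map M.subtype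
    rw [Subgroup.map_map, Subgroup.map_map]
    rfl
  have hcinf : (c : G) ∈ Cfsg.signalizerInf A θ := by
    rw [Cfsg.signalizerInf, Subgroup.mem_iInf]
    rintro ⟨b, hb, hb1⟩
    refine hθ.1.2.2.2 a ha h1 b hb hb1 ⟨c.2.1, mem_centralizer_singleton_iff.mpr ?_⟩
    exact ((mem_centralizer_iff.mp hcA) b hb).symm
  have hR₁M : R₁ ≤ M := map_subtype_le _
  have hR₂M : R₂ ≤ M := map_subtype_le _
  have hU₁ := sup_mem_family hA hθ hDW hDq (P₁.isPGroup'.map M.subtype) hqp ha h1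
    (hR₁M.trans inf_le_left) hP₁A (hR₁M.trans inf_le_right)
  have hU₁q : IsPGroup q ↥(D ⊔ R₁) :=
    hDq.to_sup_of_normal_left' (P₁.isPGroup'.map M.subtype) (hR₁M.trans inf_le_right)
  obtain ⟨Q₃, hW₃, hq₃, hU₃, hmax₃⟩ := exists_max hU₁ hU₁q
  have hbig : ∀ Q X : Subgroup G, X ≤ Q → ¬ X ≤ D → D ≤ Q → ∀ Q' : Subgroup G, X ≤ Q' → D ≤ Q' →
      Nat.card ↥D < Nat.card ↥(Q ⊓ Q') := by
    intro Q X hXQ hXD hDQ Q' hXQ' hDQ'
    refine lt_of_le_of_ne (Subgroup.card_le_of_le (le_inf hDQ hDQ')) fun he => hXD ?_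
    rw [eq_of_le_of_card_ge (le_inf hDQ hDQ') he.ge]
    exact le_inf hXQ hXQ'
  have hcard : ∀ Q Q' : Subgroup G, Nat.card ↥(Q ⊓ Q') ≤ Nat.card G := fun Q Q' =>
    Nat.le_of_dvd Nat.card_pos (Subgroup.card_subgroup_dvd_card _)
  -- Q₁ ~ Q₃
  have hlt₁ := hbig Q₁ _ (inf_le_left.trans inf_le_right) hn₁ inf_le_left Q₃
    ((hP₁.trans le_sup_right).trans hU₃) (le_sup_left.trans hU₃)
  obtain ⟨d₁, hd₁, he₁⟩ := ih (Nat.card G - Nat.card ↥(Q₁ ⊓ Q₃))
    (lt_of_lt_of_le (by have := hcard Q₁ Q₃; omega) hm) Q₁ Q₃ le_rfl hW₁ hq₁ hmax₁ hW₃ hq₃ hmax₃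
  -- Q₃^c ~ Q₂
  set Q₄ := Q₃.map (MulAut.conj (c : G)⁻¹).toMonoidHom with hQ₄
  have hW₄ : Q₄ ∈ Cfsg.signalizerFamily p A θ := conj_mem_family hθ (inv_mem hcinf) hW₃
  have hq₄ : IsPGroup q Q₄ := hq₃.map _
  have hmax₄ : ∀ R ∈ Cfsg.signalizerFamily p A θ, IsPGroup q ↥R → Q₄ ≤ R → R = Q₄ := by
    intro R hR hRq hle
    have h := hmax₃ _ (conj_mem_family hθ hcinf hR) (hRq.map _) (by
      have h' := Subgroup.map_mono (f := (MulAut.conj (c : G)).toMonoidHom) hle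
      rwa [hQ₄, Coprime.map_conj_map_conj, mul_inv_cancel, Coprime.map_conj_one] at h')
    rw [hQ₄, ← h, Coprime.map_conj_map_conj, inv_mul_cancel, Coprime.map_conj_one]
  have hU₄ : D ⊔ R₂ ≤ Q₄ := by
    have h' := Subgroup.map_mono (f := (MulAut.conj (c : G)⁻¹).toMonoidHom) hU₃
    have hcD : (c : G)⁻¹ ∈ normalizer (D : Set G) := inv_mem c.2.2
    rw [Subgroup.map_sup, Coprime.map_conj_eq hcD, ← hR₁, ← hcR,
      Coprime.map_conj_map_conj, inv_mul_cancel, Coprime.map_conj_one] at h'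
    exact h'
  have hlt₂ := hbig Q₂ _ (inf_le_left.trans inf_le_right) hn₂ inf_le_right Q₄
    ((hP₂.trans le_sup_right).trans hU₄) (le_sup_left.trans hU₄)
  rw [inf_comm Q₂ Q₄] at hlt₂
  obtain ⟨d₂, hd₂, he₂⟩ := ih (Nat.card G - Nat.card ↥(Q₄ ⊓ Q₂))
    (lt_of_lt_of_le (by have := hcard Q₄ Q₂; omega) hm) Q₄ Q₂ le_rfl hW₄ hq₄ hmax₄ hW₂ hq₂ hmax₂
  refine ⟨d₂ * ((c : G)⁻¹ * d₁), mul_mem hd₂ (mul_mem (inv_mem hcinf) hd₁), ?_⟩
  rw [← Coprime.map_conj_map_conj, ← Coprime.map_conj_map_conj, he₁, ← hQ₄, he₂]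

/-- A maximal `q`-member meets every member in a Sylow subgroup, up to conjugation. -/
theorem exists_conj_sylow (hA : Cfsg.IsElementaryAbelian p A) (hA3 : p ^ 3 ≤ Nat.card ↥A)
    (hθ : Cfsg.IsSolvableSignalizerFunctor p A θ) {q : ℕ} [Fact q.Prime] (hqp : q ≠ p)
    {Q : Subgroup G} (hQW : Q ∈ Cfsg.signalizerFamily p A θ) (hQq : IsPGroup q ↥Q)
    (hQmax : ∀ R ∈ Cfsg.signalizerFamily p A θ, IsPGroup q ↥R → Q ≤ R → R = Q)
    {H : Subgroup G} (hH : H ∈ Cfsg.signalizerFamily p A θ) :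
    ∃ c ∈ Cfsg.signalizerInf A θ, ∃ S : Sylow q ↥H,
      (S : Subgroup ↥H).map H.subtype = Q.map (MulAut.conj c).toMonoidHom ⊓ H := by
  obtain ⟨S, hSA⟩ := Coprime.exists_invariant_sylow (le_normalizer_of_family hH)
    (coprime_card hA hH.2.1) (Or.inl (solvable_of_abelian hA)) q
  set S' := (S : Subgroup H).map H.subtype with hS'
  have hS'H : S' ≤ H := map_subtype_le _
  have hS'W : S' ∈ Cfsg.signalizerFamily p A θ :=
    ⟨Coprime.isSolvable_of_le hS'H hH.1,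
      fun h => hH.2.1 (h.trans (Subgroup.card_dvd_of_le hS'H)),
      fun b hb v hv => Coprime.conj_mem (hSA hb) hv,
      fun b hb hb1 => (inf_le_inf_right _ hS'H).trans (hH.2.2.2 b hb hb1)⟩
  obtain ⟨Q', hW', hq', hle', hmax'⟩ := exists_max hS'W (S.isPGroup'.map H.subtype)
  obtain ⟨c, hc, he⟩ := transitive hA hA3 hθ hqp Q Q' hQW hQq hQmax hW' hq' hmax'
  refine ⟨c, hc, S, ?_⟩
  rw [he]
  refine le_antisymm (le_inf hle' hS'H) ?_
  have h := S.is_maximal' (Q := (Q' ⊓ H).subgroupOf H)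
    ((hq'.to_le inf_le_left).comap_of_injective H.subtype H.subtype_injective) (fun v hv =>
      show (v : G) ∈ Q' ⊓ H from ⟨hle' (Subgroup.mem_map_of_mem _ hv), v.2⟩)
  rw [← map_subgroupOf_eq_of_le (inf_le_right : Q' ⊓ H ≤ H), h]

end Cfsg.Agent.H46.SignalizerTrans
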