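import Mathlib

/-!
A space of matrices over the field with two elements which contains `1`, is closed under
`(A, X) ↦ A * X * A` and has all its nonzero members invertible is commutative (Chevalley–Warning
applied to the constant term of the generic minimal polynomial).
-/

namespace Cfsg.Agent.H46

open Matrix
open scoped Polynomial

noncomputable section

variable {σ : Type*} {F : Type*} [CommRing F]

/-- `X i ↦ s * X i`, `T ↦ s * T`; the degree in `s` is the total degree. -/
def scaleTot : (MvPolynomial σ F)[X] →+* ((MvPolynomial σ F)[X])[X] :=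
  Polynomial.eval₂RingHom
    (MvPolynomial.eval₂Hom ((Polynomial.C.comp Polynomial.C).comp MvPolynomial.C)
      (fun i => Polynomial.X * Polynomial.C (Polynomial.C (MvPolynomial.X i))))
    (Polynomial.X * Polynomial.C Polynomial.X)

theorem scaleTot_CX (i : σ) :
    scaleTot (Polynomial.C (MvPolynomial.X i : MvPolynomial σ F)) =
      Polynomial.X * Polynomial.C (Polynomial.C (MvPolynomial.X i)) := by
  simp [scaleTot]

theorem scaleTot_CC (a : F) :
    scaleTot (Polynomial.C (MvPolynomial.C a : MvPolynomial σ F)) =
      Polynomial.C (Polynomial.C (MvPolynomial.C a)) := by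
  simp [scaleTot]

theorem scaleTot_T :
    scaleTot (Polynomial.X : (MvPolynomial σ F)[X]) = Polynomial.X * Polynomial.C Polynomial.X := by
  simp [scaleTot]

theorem scaleTot_monomial (u : σ →₀ ℕ) (a : F) :
    scaleTot (Polynomial.C (MvPolynomial.monomial u a)) =
      Polynomial.monomial u.degree (Polynomial.C (MvPolynomial.monomial u a)) := by
  induction u using Finsupp.induction generalizing a with
  | zero =>
    simp [scaleTot]
  | single_add i n u hi hn ih =>
    have e : MvPolynomial.monomial (Finsupp.single i n + u) a =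
        MvPolynomial.X i ^ n * MvPolynomial.monomial u a := by
      rw [MvPolynomial.monomial_single_add]
    have hX : scaleTot (Polynomial.C (MvPolynomial.X i : MvPolynomial σ F)) =
        Polynomial.monomial 1 (Polynomial.C (MvPolynomial.X i)) := by
      simp [scaleTot, ← Polynomial.C_mul_X_eq_monomial]
    rw [e, map_mul Polynomial.C, map_pow Polynomial.C, map_mul scaleTot, map_pow scaleTot, hX, ih,
      Polynomial.monomial_pow, Polynomial.monomial_mul_monomial]
    congr 1
    simp [map_add, Finsupp.degree_single]

theorem scaleTot_coeff_C (p : MvPolynomial σ F) (d : ℕ) (u : σ →₀ ℕ) :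
    MvPolynomial.coeff u (((scaleTot (Polynomial.C p)).coeff d).coeff 0) =
      if u.degree = d then MvPolynomial.coeff u p else 0 := by
  classical
  induction p using MvPolynomial.induction_on' with
  | monomial v a =>
    rw [scaleTot_monomial, Polynomial.coeff_monomial]
    by_cases hv : v = u
    · subst hv
      split_ifs <;> simp
    · have h0 : MvPolynomial.coeff u (MvPolynomial.monomial v a) = 0 := by
        rw [MvPolynomial.coeff_monomial, if_neg hv]
      rw [h0, ite_self]
      split_ifs <;> simp [h0]
  | add p q hp hq =>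
    simp only [map_add, Polynomial.coeff_add, MvPolynomial.coeff_add, hp, hq]
    split_ifs <;> simp

theorem totalDegree_le_of_scaleTot (p : MvPolynomial σ F) {m : ℕ}
    (h : (scaleTot (Polynomial.C p)).natDegree ≤ m) : p.totalDegree ≤ m := by
  refine Finset.sup_le fun u hu => ?_
  rw [MvPolynomial.mem_support_iff] at hu
  have h1 := scaleTot_coeff_C p u.degree u
  rw [if_pos rfl] at h1
  have h2 : (scaleTot (Polynomial.C p)).coeff u.degree ≠ 0 := fun e => hu (by rw [← h1, e]; simp)
  exact le_trans (Polynomial.le_natDegree_of_ne_zero h2) h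

/-- The generic element. -/
def genMat {k n : ℕ} (B : Fin k → Matrix (Fin n) (Fin n) F) :
    Matrix (Fin n) (Fin n) (MvPolynomial (Fin k) F) :=
  ∑ i, (MvPolynomial.X i : MvPolynomial (Fin k) F) • (B i).map MvPolynomial.C

theorem eval_genMat {k n : ℕ} (B : Fin k → Matrix (Fin n) (Fin n) F) (x : Fin k → F) :
    (genMat B).map (MvPolynomial.eval x) = ∑ i, x i • B i := by
  ext a b
  simp [genMat, Matrix.sum_apply]

theorem scaleTot_charpoly_natDegree {k n : ℕ} (B : Fin k → Matrix (Fin n) (Fin n) F) :
    (scaleTot (genMat B).charpoly).natDegree ≤ n := by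
  rw [Matrix.charpoly, show scaleTot (genMat B).charmatrix.det = (scaleTot.mapMatrix (genMat B).charmatrix).det from by simp only [Matrix.det_apply, map_sum, Units.smul_def, map_zsmul, map_prod, RingHom.mapMatrix_apply, Matrix.map_apply]]
  have e : scaleTot.mapMatrix (genMat B).charmatrix =
      Matrix.diagonal (fun _ : Fin n => (Polynomial.X : ((MvPolynomial (Fin k) F)[X])[X])) *
        ((genMat B).charmatrix).map Polynomial.C := by
    ext a b : 1
    rw [RingHom.mapMatrix_apply, Matrix.map_apply, Matrix.diagonal_mul, Matrix.map_apply]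
    by_cases hab : a = b
    · subst hab
      simp only [Matrix.charmatrix_apply_eq, genMat, Matrix.sum_apply, Matrix.smul_apply, Matrix.map_apply,
        smul_eq_mul, map_sum, map_sub, map_mul, scaleTot_CX, scaleTot_CC, scaleTot_T, mul_sub, Finset.mul_sum,
        mul_assoc]
      rw [← Finset.mul_sum]
      ring
    · simp only [Matrix.charmatrix_apply_ne _ _ _ hab, genMat, Matrix.sum_apply, Matrix.smul_apply, Matrix.map_apply,
        smul_eq_mul, map_sum, map_neg, map_mul, scaleTot_CX, scaleTot_CC, mul_assoc]
      rw [← Finset.mul_sum]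
      ring
  rw [e, Matrix.det_mul, Matrix.det_diagonal, Finset.prod_const, Finset.card_univ, Fintype.card_fin,
    show ((genMat B).charmatrix).map Polynomial.C = Polynomial.C.mapMatrix (genMat B).charmatrix from rfl,
    ← RingHom.map_det]
  refine (Polynomial.natDegree_mul_le).trans ?_
  simpa using Polynomial.natDegree_X_pow_le (R := (MvPolynomial (Fin k) F)[X]) n

/-- **Commutativity of a quadratically closed space of invertible matrices over `F₂`.** -/
theorem spread_comm_fin {k n : ℕ} [NeZero n] (S : Submodule (ZMod 2) (Matrix (Fin n) (Fin n) (ZMod 2)))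
    (B : Module.Basis (Fin k) (ZMod 2) ↥S) (h1 : (1 : Matrix (Fin n) (Fin n) (ZMod 2)) ∈ S)
    (hU : ∀ A ∈ S, ∀ Y ∈ S, A * Y * A ∈ S) (hinv : ∀ A ∈ S, A ≠ 0 → IsUnit A) :
    ∀ i j, (B i : Matrix (Fin n) (Fin n) (ZMod 2)) * B j = B j * B i := by
  classical
  set A := genMat (fun i => (B i : Matrix (Fin n) (Fin n) (ZMod 2))) with hA
  let liftC : Matrix (Fin n) (Fin n) (ZMod 2) → Matrix (Fin n) (Fin n) (MvPolynomial (Fin k) (ZMod 2)) :=
    fun M => M.map MvPolynomial.C
  let SR : Submodule (MvPolynomial (Fin k) (ZMod 2))
      (Matrix (Fin n) (Fin n) (MvPolynomial (Fin k) (ZMod 2))) :=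
    Submodule.span _ (Set.range fun i => liftC (B i))
  have hlift : ∀ M ∈ S, liftC M ∈ SR := by
    intro M hM
    have h := congrArg Subtype.val (B.sum_repr ⟨M, hM⟩)
    simp only [Submodule.coe_sum, Submodule.coe_smul] at h
    have e : liftC M = ∑ i, (MvPolynomial.C (B.repr ⟨M, hM⟩ i) : MvPolynomial (Fin k) (ZMod 2)) •
        liftC (B i) := by
      conv_lhs => rw [← h]
      ext a b
      simp [liftC, Matrix.sum_apply]
    rw [e]
    exact sum_mem fun i _ => Submodule.smul_mem _ _ (Submodule.subset_span ⟨i, rfl⟩)
  have hmulC : ∀ M N, liftC (M * N) = liftC M * liftC N := fun M N => Matrix.map_mul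
  have hsand : ∀ Y ∈ S, A * liftC Y * A ∈ SR := by
    intro Y hY
    suffices H : ∀ s : Finset (Fin k),
        (∑ i ∈ s, (MvPolynomial.X i : MvPolynomial (Fin k) (ZMod 2)) • liftC (B i)) * liftC Y *
          (∑ i ∈ s, (MvPolynomial.X i : MvPolynomial (Fin k) (ZMod 2)) • liftC (B i)) ∈ SR by
      exact H Finset.univ
    intro s
    induction s using Finset.induction_on with
    | empty => simp
    | insert a s has ih =>
      rw [Finset.sum_insert has]
      set T := ∑ i ∈ s, (MvPolynomial.X i : MvPolynomial (Fin k) (ZMod 2)) • liftC (B i) with hT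
      set Z := (MvPolynomial.X a : MvPolynomial (Fin k) (ZMod 2)) • liftC (B a) with hZ
      have e : (Z + T) * liftC Y * (Z + T) =
          Z * liftC Y * Z + (Z * liftC Y * T + T * liftC Y * Z) + T * liftC Y * T := by
        simp only [add_mul, mul_add]; abel
      rw [e]
      refine add_mem (add_mem ?_ ?_) ih
      · rw [hZ]
        simp only [smul_mul_assoc, mul_smul_comm, ← hmulC]
        exact SR.smul_mem _ (SR.smul_mem _ (hlift _ (hU _ (B a).2 _ hY)))
      · rw [hT, hZ, Finset.mul_sum, Finset.sum_mul, Finset.sum_mul, ← Finset.sum_add_distrib]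
        refine sum_mem fun i _ => ?_
        simp only [smul_mul_assoc, mul_smul_comm, smul_smul]
        rw [mul_comm (MvPolynomial.X i), ← smul_add, ← hmulC, ← hmulC, ← hmulC, ← hmulC]
        refine SR.smul_mem _ ?_
        have hp : (B a : Matrix (Fin n) (Fin n) (ZMod 2)) * Y * B i + (B i : Matrix (Fin n) (Fin n) (ZMod 2)) * Y * B a =
            ((B a : Matrix (Fin n) (Fin n) (ZMod 2)) + B i) * Y * (B a + B i) - B a * Y * B a - B i * Y * B i := by
          simp only [add_mul, mul_add]; abel
        have hmem : (B a : Matrix (Fin n) (Fin n) (ZMod 2)) * Y * B i + (B i : Matrix (Fin n) (Fin n) (ZMod 2)) * Y * B a ∈ S := by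
          rw [hp]
          exact sub_mem (sub_mem (hU _ (add_mem (B a).2 (B i).2) _ hY) (hU _ (B a).2 _ hY))
            (hU _ (B i).2 _ hY)
        have := hlift _ hmem
        rwa [show liftC ((B a : Matrix (Fin n) (Fin n) (ZMod 2)) * Y * B i + (B i : Matrix (Fin n) (Fin n) (ZMod 2)) * Y * B a) =
            liftC ((B a : Matrix (Fin n) (Fin n) (ZMod 2)) * Y * B i) + liftC ((B i : Matrix (Fin n) (Fin n) (ZMod 2)) * Y * B a) from
          Matrix.map_add _ (fun x y => map_add MvPolynomial.C x y) _ _] at this
  have hsand' : ∀ Y ∈ SR, A * Y * A ∈ SR := by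
    intro Y hY
    induction hY using Submodule.span_induction with
    | mem y hy => obtain ⟨i, rfl⟩ := hy; exact hsand _ (B i).2
    | zero => simp
    | add u w _ _ hu hw => rw [mul_add, add_mul]; exact add_mem hu hw
    | smul c u _ hu => rw [mul_smul_comm, smul_mul_assoc]; exact SR.smul_mem c hu
  have hpow : ∀ p, A ^ p ∈ SR := by
    intro p
    induction p using Nat.strong_induction_on with
    | _ p ih =>
      rcases p with _ | _ | p
      · rw [pow_zero]
        have := hlift 1 h1
        rwa [show liftC 1 = 1 from Matrix.map_one _ MvPolynomial.C_0 MvPolynomial.C_1] at this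
      · rw [pow_one]
        exact sum_mem fun i _ => SR.smul_mem _ (Submodule.subset_span ⟨i, rfl⟩)
      · have := hsand' _ (ih p (by omega))
        rwa [← pow_succ', ← pow_succ] at this
  have hco : ∀ p : Fin k, ∃ c : Fin k → MvPolynomial (Fin k) (ZMod 2),
      ∑ i, c i • liftC (B i) = A ^ (p : ℕ) := fun p =>
    Submodule.mem_span_range_iff_exists_fun _ |>.mp (hpow p)
  choose c hc using hco
  let C₀ : Matrix (Fin k) (Fin k) (MvPolynomial (Fin k) (ZMod 2)) := Matrix.of c
  by_cases hD : C₀.det = 0
  · -- the norm has degree less than the number of variables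
    exfalso
    obtain ⟨w, hw0, hw⟩ := Matrix.exists_vecMul_eq_zero_iff.mpr hD
    set f : (MvPolynomial (Fin k) (ZMod 2))[X] := ∑ p : Fin k, Polynomial.C (w p) * Polynomial.X ^ (p : ℕ)
      with hfdef
    have hfA : Polynomial.aeval A f = 0 := by
      simp only [hfdef, map_sum, map_mul, map_pow, Polynomial.aeval_C, Polynomial.aeval_X,
        ← Algebra.smul_def, ← hc, Finset.smul_sum, smul_smul]
      rw [Finset.sum_comm]
      refine Finset.sum_eq_zero fun i _ => ?_
      rw [← Finset.sum_smul]
      have := congrFun hw i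
      simp only [Matrix.vecMul, dotProduct, C₀, Matrix.of_apply, Pi.zero_apply] at this
      rw [this, zero_smul]
    have hk : 0 < k := by
      rcases Nat.eq_zero_or_pos k with h | h
      · subst h; exact absurd (funext fun i => i.elim0) hw0
      · exact h
    have hf0 : f ≠ 0 := by
      obtain ⟨p, hp⟩ := Function.ne_iff.mp hw0
      intro e
      have := congrArg (fun g => Polynomial.coeff g (p : ℕ)) e
      simp [hfdef, Polynomial.finsetSum_coeff, Polynomial.coeff_C_mul, Polynomial.coeff_X_pow,
        Fin.val_inj] at this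
      exact hp this
    have hfdeg : f.natDegree < k := by
      refine lt_of_le_of_lt (Polynomial.natDegree_sum_le_of_forall_le _ _ (n := k - 1) fun p _ => ?_) (by omega)
      exact (Polynomial.natDegree_C_mul_X_pow_le _ _).trans (by have := p.2; omega)
    let K := FractionRing (MvPolynomial (Fin k) (ZMod 2))
    let φ : MvPolynomial (Fin k) (ZMod 2) →+* K := algebraMap _ K
    have hφ : Function.Injective φ := IsFractionRing.injective _ K
    let AK : Matrix (Fin n) (Fin n) K := A.map φ
    have hfK : Polynomial.aeval AK (f.map φ) = 0 := by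
      have := Polynomial.map_aeval_eq_aeval_map (φ := φ) (ψ := φ.mapMatrix) (by
        refine RingHom.ext fun r => ?_
        show algebraMap K (Matrix (Fin n) (Fin n) K) (φ r) = (algebraMap _ (Matrix (Fin n) (Fin n) (MvPolynomial (Fin k) (ZMod 2))) r).map φ
        rw [Matrix.algebraMap_eq_diagonal, Matrix.algebraMap_eq_diagonal, Matrix.diagonal_map (map_zero φ)]
        rfl) f A
      rw [hfA, map_zero] at this
      exact this.symm
    have hAKi : IsIntegral K AK := Algebra.IsIntegral.isIntegral AK
    have hdeg : (minpoly K AK).natDegree < k := by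
      refine lt_of_le_of_lt (Polynomial.natDegree_le_of_dvd (minpoly.dvd K AK hfK) ?_) ?_
      · exact (Polynomial.map_ne_zero_iff hφ).mpr hf0
      · rwa [Polynomial.natDegree_map_eq_of_injective hφ]
    have hdvd : minpoly K AK ∣ A.charpoly.map φ := by
      rw [← Matrix.charpoly_map]; exact Matrix.minpoly_dvd_charpoly AK
    obtain ⟨q, hq⟩ := IsIntegrallyClosed.eq_map_mul_C_of_dvd K A.charpoly_monic hdvd
    rw [(minpoly.monic hAKi).leadingCoeff, Polynomial.C_1, mul_one] at hq
    have hqm : q.Monic := Polynomial.monic_of_injective hφ (hq ▸ minpoly.monic hAKi)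
    obtain ⟨r, hr⟩ := Polynomial.Monic.dvd_of_fraction_map_dvd_fraction_map (K := K) A.charpoly_monic hqm
      (hq ▸ hdvd)
    have hrm : r.Monic := hqm.of_mul_monic_left (hr ▸ A.charpoly_monic)
    have hm : q.natDegree < k := by
      rwa [← Polynomial.natDegree_map_eq_of_injective hφ q, hq]
    have hlow : ∀ p : (MvPolynomial (Fin k) (ZMod 2))[X], p.Monic →
        p.natDegree ≤ (scaleTot p).natDegree := by
      intro p hp
      let η : MvPolynomial (Fin k) (ZMod 2) →+* ZMod 2 := MvPolynomial.eval 0
      have e : ((Polynomial.mapRingHom (Polynomial.mapRingHom η)).comp scaleTot) =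
          Polynomial.eval₂RingHom ((Polynomial.C.comp Polynomial.C).comp η)
            (Polynomial.X * Polynomial.C Polynomial.X) := by
        refine Polynomial.ringHom_ext' (MvPolynomial.ringHom_ext (fun a => ?_) (fun i => ?_)) ?_ <;>
          simp [scaleTot, η]
      have e' : (scaleTot p).map (Polynomial.mapRingHom η) =
          Polynomial.eval₂RingHom ((Polynomial.C.comp Polynomial.C).comp η)
            (Polynomial.X * Polynomial.C Polynomial.X) p := RingHom.congr_fun e p
      refine le_trans ?_ (Polynomial.natDegree_map_le (f := Polynomial.mapRingHom η))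
      rw [e']
      refine Polynomial.le_natDegree_of_ne_zero ?_
      intro h
      rw [Polynomial.coe_eval₂RingHom, Polynomial.eval₂_eq_sum_range, Polynomial.finsetSum_coeff] at h
      rw [Finset.sum_range_succ, Finset.sum_eq_zero (fun i hi => ?_)] at h
      · rw [hp.coeff_natDegree, map_one, one_mul, mul_pow, ← map_pow Polynomial.C,
          Polynomial.coeff_mul_C, Polynomial.coeff_X_pow, if_pos rfl, one_mul, zero_add] at h
        exact (Polynomial.monic_X_pow _).ne_zero h
      · have : p.natDegree ≠ i := by have := Finset.mem_range.mp hi; omega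
        rw [RingHom.comp_apply, RingHom.comp_apply, Polynomial.coeff_C_mul, mul_pow, ← map_pow Polynomial.C,
          Polynomial.coeff_mul_C, Polynomial.coeff_X_pow, if_neg this, zero_mul, mul_zero]
    have hne : ∀ p : (MvPolynomial (Fin k) (ZMod 2))[X], p.Monic → scaleTot p ≠ 0 := by
      intro p hp e
      have e1 : ((scaleTot p).eval 1) = p := by
        have : (Polynomial.evalRingHom (1 : (MvPolynomial (Fin k) (ZMod 2))[X])).comp scaleTot =
            RingHom.id _ := by
          refine Polynomial.ringHom_ext' (MvPolynomial.ringHom_ext (fun a => ?_) (fun i => ?_)) ?_ <;>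
            simp [scaleTot]
        exact RingHom.congr_fun this p
      rw [e, Polynomial.eval_zero] at e1
      exact hp.ne_zero e1.symm
    have hqd : (scaleTot q).natDegree ≤ q.natDegree := by
      have hA' := scaleTot_charpoly_natDegree (fun i => (B i : Matrix (Fin n) (Fin n) (ZMod 2)))
      rw [← hA, hr, map_mul, Polynomial.natDegree_mul (hne q hqm) (hne r hrm)] at hA'
      have hn : q.natDegree + r.natDegree = n := by
        rw [← hqm.natDegree_mul hrm, ← hr, Matrix.charpoly_natDegree_eq_dim, Fintype.card_fin]
      have := hlow r hrm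
      omega
    have hN : (q.coeff 0).totalDegree ≤ q.natDegree := by
      refine totalDegree_le_of_scaleTot _ (le_trans ?_ hqd)
      let τ : (MvPolynomial (Fin k) (ZMod 2))[X] →+* (MvPolynomial (Fin k) (ZMod 2))[X] :=
        Polynomial.C.comp (Polynomial.evalRingHom 0)
      have e : (Polynomial.mapRingHom τ).comp scaleTot = scaleTot.comp τ := by
        refine Polynomial.ringHom_ext' (MvPolynomial.ringHom_ext (fun a => ?_) (fun i => ?_)) ?_ <;>
          simp [scaleTot, τ]
      have e' : (scaleTot q).map τ = scaleTot (τ q) := RingHom.congr_fun e q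
      have eτ : τ q = Polynomial.C (q.coeff 0) := by simp [τ, Polynomial.coeff_zero_eq_eval_zero]
      rw [← eτ, ← e']
      exact Polynomial.natDegree_map_le
    have hnz : ∀ x : Fin k → ZMod 2, x ≠ 0 → MvPolynomial.eval x (q.coeff 0) ≠ 0 := by
      intro x hx e
      have h2 : MvPolynomial.eval x (A.charpoly.coeff 0) = 0 := by
        rw [hr, Polynomial.mul_coeff_zero, map_mul, e, zero_mul]
      have h3 : ((∑ i, x i • (B i : Matrix (Fin n) (Fin n) (ZMod 2))).charpoly).coeff 0 = 0 := by
        rw [← eval_genMat, ← hA, Matrix.charpoly_map, Polynomial.coeff_map]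
        exact h2
      set M := ∑ i, x i • (B i : Matrix (Fin n) (Fin n) (ZMod 2))
      have hMS : M ∈ S := sum_mem fun i _ => S.smul_mem _ (B i).2
      have hM0 : M ≠ 0 := by
        intro e0
        refine hx (funext fun i => ?_)
        have : (∑ i, x i • B i : ↥S) = 0 := Subtype.ext (by simpa [M] using e0)
        exact Fintype.linearIndependent_iff.mp B.linearIndependent x this i
      have hu := (Matrix.isUnit_iff_isUnit_det M).mp (hinv M hMS hM0)
      rw [Matrix.det_eq_sign_charpoly_coeff, h3, mul_zero] at hu
      exact not_isUnit_zero hu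
    have h0 : MvPolynomial.eval (0 : Fin k → ZMod 2) (q.coeff 0) = 0 := by
      let η : MvPolynomial (Fin k) (ZMod 2) →+* ZMod 2 := MvPolynomial.eval 0
      have hq' : q.map η ∣ (Polynomial.X : (ZMod 2)[X]) ^ n := by
        have : (0 : Matrix (Fin n) (Fin n) (ZMod 2)).charpoly = Polynomial.X ^ n := by
          simp [Matrix.charpoly, Matrix.charmatrix]
        rw [← this, show (0 : Matrix (Fin n) (Fin n) (ZMod 2)) = A.map η by
          rw [hA, eval_genMat]; simp, Matrix.charpoly_map, hr, Polynomial.map_mul]
        exact dvd_mul_right _ _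
      obtain ⟨j, hj, hj'⟩ := (dvd_prime_pow Polynomial.prime_X n).mp hq'
      have hpos : 0 < q.natDegree := by
        rw [← Polynomial.natDegree_map_eq_of_injective hφ q, hq]
        exact minpoly.natDegree_pos hAKi
      have hX : q.map η = Polynomial.X ^ j :=
        Polynomial.eq_of_monic_of_associated (hqm.map η) (Polynomial.monic_X_pow j) hj'
      have hj0 : j ≠ 0 := by
        intro h
        have := congrArg Polynomial.natDegree hX
        rw [hqm.natDegree_map, h, pow_zero, Polynomial.natDegree_one] at this
        omega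
      show η (q.coeff 0) = 0
      rw [← Polynomial.coeff_map, hX, Polynomial.coeff_X_pow, if_neg (Ne.symm hj0)]
    haveI : Fact (Nat.Prime 2) := ⟨Nat.prime_two⟩
    have hcw := char_dvd_card_solutions (K := ZMod 2) (σ := Fin k) 2 (f := q.coeff 0)
      (by rw [Fintype.card_fin]; omega)
    haveI : Unique {x : Fin k → ZMod 2 // MvPolynomial.eval x (q.coeff 0) = 0} :=
      { default := ⟨0, h0⟩
        uniq := fun x => Subtype.ext (not_not.mp fun h => hnz x.1 h x.2) }
    rw [Fintype.card_unique] at hcw
    omega
  · -- the generic powers span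
    intro i j
    have hadj : ∀ i, C₀.det • liftC (B i) = ∑ p : Fin k, C₀.adjugate i p • A ^ (p : ℕ) := by
      intro i
      simp only [← hc, Finset.smul_sum, smul_smul]
      rw [Finset.sum_comm]
      have : ∀ l, (∑ p : Fin k, (C₀.adjugate i p * c p l) • liftC (B l)) =
          (if i = l then C₀.det else 0) • liftC (B l) := fun l => by
        rw [← Finset.sum_smul]
        congr 1
        have := congrFun (congrFun C₀.adjugate_mul i) l
        simpa [Matrix.mul_apply, C₀, Matrix.one_apply] using this
      rw [Finset.sum_congr rfl fun l _ => this l, Finset.sum_eq_single i]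
      · rw [if_pos rfl]
      · intro l _ hl; rw [if_neg (Ne.symm hl), zero_smul]
      · simp
    have hcomm : Commute (C₀.det • liftC (B i)) (C₀.det • liftC (B j)) := by
      rw [hadj, hadj]
      refine Commute.sum_left _ _ _ fun p _ => Commute.sum_right _ _ _ fun p' _ => ?_
      exact ((Commute.pow_pow_self A p p').smul_left _).smul_right _
    have h2 : (C₀.det * C₀.det) • (liftC (B i) * liftC (B j)) =
        (C₀.det * C₀.det) • (liftC (B j) * liftC (B i)) := by
      have := hcomm.eq
      simpa only [smul_mul_assoc, mul_smul_comm, smul_smul] using this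
    have h3 := smul_right_injective _ (mul_ne_zero hD hD) h2
    rw [← hmulC, ← hmulC] at h3
    exact Matrix.map_injective (MvPolynomial.C_injective _ _) h3

/-- Commutativity for additive subgroups of endomorphisms of a finite elementary abelian 2-group. -/
theorem spread_comm {A : Type*} [AddCommGroup A] [Finite A] [Nontrivial A] (h2 : ∀ a : A, a + a = 0)
    (S : AddSubgroup (AddMonoid.End A)) (h1 : (1 : AddMonoid.End A) ∈ S)
    (hU : ∀ f ∈ S, ∀ g ∈ S, f * g * f ∈ S)
    (hinv : ∀ f ∈ S, f ≠ 0 → Function.Bijective f) :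
    ∀ f ∈ S, ∀ g ∈ S, f * g = g * f := by
  letI : Module (ZMod 2) A := AddCommGroup.zmodModule (fun a => by rw [two_nsmul]; exact h2 a)
  haveI : Fact (Nat.Prime 2) := ⟨Nat.prime_two⟩
  haveI : Module.Finite (ZMod 2) A := Module.Finite.of_finite
  set n := Module.finrank (ZMod 2) A
  haveI : NeZero n := ⟨(Module.finrank_pos (R := ZMod 2) (M := A)).ne'⟩
  let b := Module.finBasis (ZMod 2) A
  let e0 : AddMonoid.End A ≃+* Module.End (ZMod 2) A :=
    { toFun := fun f => AddMonoidHom.toZModLinearMap 2 f
      invFun := fun f => f.toAddMonoidHom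
      left_inv := fun f => rfl
      right_inv := fun f => rfl
      map_mul' := fun f g => rfl
      map_add' := fun f g => rfl }
  let e : AddMonoid.End A ≃+* Matrix (Fin n) (Fin n) (ZMod 2) :=
    e0.trans (LinearMap.toMatrixAlgEquiv b).toRingEquiv
  let T : AddSubgroup (Matrix (Fin n) (Fin n) (ZMod 2)) := S.map e.toAddMonoidHom
  let TM : Submodule (ZMod 2) (Matrix (Fin n) (Fin n) (ZMod 2)) := AddSubgroup.toZModSubmodule 2 T
  have hmem : ∀ f ∈ S, e f ∈ TM := fun f hf => ⟨f, hf, rfl⟩
  have hT : ∀ M ∈ TM, ∃ f ∈ S, e f = M := fun M hM => hM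
  have hTu : ∀ M ∈ TM, M ≠ 0 → IsUnit M := by
    intro M hM hM0
    obtain ⟨f, hf, rfl⟩ := hT M hM
    have hf0 : f ≠ 0 := fun h => hM0 (by rw [h, map_zero])
    let g := AddEquiv.ofBijective f (hinv f hf hf0)
    have hu : IsUnit f := ⟨⟨f, g.symm.toAddMonoidHom, AddMonoidHom.ext fun a => g.apply_symm_apply a,
      AddMonoidHom.ext fun a => g.symm_apply_apply a⟩, rfl⟩
    exact hu.map e
  haveI : Module.Finite (ZMod 2) ↥TM := Module.Finite.of_finite
  let B := Module.finBasis (ZMod 2) ↥TM
  have key := spread_comm_fin TM B (by simpa using hmem 1 h1) (fun M hM N hN => by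
    obtain ⟨f, hf, rfl⟩ := hT M hM
    obtain ⟨g, hg, rfl⟩ := hT N hN
    rw [← map_mul, ← map_mul]
    exact hmem _ (hU f hf g hg)) hTu
  intro f hf g hg
  apply e.injective
  rw [map_mul, map_mul]
  have hx := congrArg Subtype.val (B.sum_repr ⟨_, hmem f hf⟩)
  have hy := congrArg Subtype.val (B.sum_repr ⟨_, hmem g hg⟩)
  simp only [Submodule.coe_sum, Submodule.coe_smul] at hx hy
  rw [← hx, ← hy]
  exact (Commute.sum_left _ _ _ fun i _ => Commute.sum_right _ _ _ fun j _ =>
    ((show Commute _ _ from key i j).smul_left _).smul_right _).eq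

end

end Cfsg.Agent.H46
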