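import Cfsg.Agent.H46.SympExpFour

/-!
Two conjugate central involutions inside symplectic type 2-groups of exponent dividing 4.
-/

namespace Cfsg.Agent.H46

open Subgroup

variable {G : Type*} [Group G]

/-- The properties of `Q = F^*(C(z))` of symplectic type and exponent 4 that are used. -/
structure Nice (z : G) (Q : Subgroup G) : Prop where
  zmem : z ∈ Q
  z2 : z * z = 1
  z1 : z ≠ 1
  cz : ∀ q ∈ Q, q * z = z * q
  nrm : ∀ c, c * z = z * c → ∀ q ∈ Q, c * q * c⁻¹ ∈ Q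
  cent : ∀ c, (∀ q ∈ Q, c * q = q * c) → c ∈ Q
  sq : ∀ a ∈ Q, a * a = 1 ∨ a * a = z
  comm : ∀ a ∈ Q, ∀ b ∈ Q, a * b * a⁻¹ * b⁻¹ = 1 ∨ a * b * a⁻¹ * b⁻¹ = z
  cc : ∀ w ∈ Q, w * w = 1 → (∀ q ∈ Q, w * q = q * w) → w = 1 ∨ w = z

theorem Nice.conj {z : G} {Q : Subgroup G} (h : Nice z Q) (g : G) :
    Nice (g * z * g⁻¹) (Q.map (MulAut.conj g).toMonoidHom) := by
  have hi : Function.Injective (fun a => g * a * g⁻¹) := (MulAut.conj g).injective
  have hm : ∀ a b : G, (g * a * g⁻¹) * (g * b * g⁻¹) = g * (a * b) * g⁻¹ := fun a b => by group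
  refine ⟨⟨z, h.zmem, rfl⟩, ?_, fun e => h.z1 (conj_eq_one_iff.mp e), ?_, ?_, ?_, ?_, ?_, ?_⟩
  · rw [hm, h.z2, mul_one, mul_inv_cancel]
  · rintro _ ⟨q, hq, rfl⟩
    show (g * q * g⁻¹) * (g * z * g⁻¹) = _ * (g * q * g⁻¹)
    rw [hm, hm, h.cz q hq]
  · rintro c hc _ ⟨q, hq, rfl⟩
    refine ⟨(g⁻¹ * c * g) * q * (g⁻¹ * c * g)⁻¹, h.nrm _ ?_ q hq, ?_⟩
    · refine hi ?_
      show g * (g⁻¹ * c * g * z) * g⁻¹ = g * (z * (g⁻¹ * c * g)) * g⁻¹
      calc g * (g⁻¹ * c * g * z) * g⁻¹ = c * (g * z * g⁻¹) := by group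
        _ = (g * z * g⁻¹) * c := hc
        _ = _ := by group
    · show g * ((g⁻¹ * c * g) * q * (g⁻¹ * c * g)⁻¹) * g⁻¹ = c * (g * q * g⁻¹) * c⁻¹
      group
  · intro c hc
    refine ⟨g⁻¹ * c * g, h.cent _ fun q hq => ?_, show g * (g⁻¹ * c * g) * g⁻¹ = c by group⟩
    refine hi ?_
    show g * (g⁻¹ * c * g * q) * g⁻¹ = g * (q * (g⁻¹ * c * g)) * g⁻¹
    calc g * (g⁻¹ * c * g * q) * g⁻¹ = c * (g * q * g⁻¹) := by group
      _ = (g * q * g⁻¹) * c := hc _ ⟨q, hq, rfl⟩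
      _ = _ := by group
  · rintro _ ⟨a, ha, rfl⟩
    show (g * a * g⁻¹) * (g * a * g⁻¹) = 1 ∨ (g * a * g⁻¹) * (g * a * g⁻¹) = g * z * g⁻¹
    rw [hm]
    rcases h.sq a ha with e | e <;> rw [e]
    · exact Or.inl (by rw [mul_one, mul_inv_cancel])
    · exact Or.inr rfl
  · rintro _ ⟨a, ha, rfl⟩ _ ⟨b, hb, rfl⟩
    show (g * a * g⁻¹) * (g * b * g⁻¹) * (g * a * g⁻¹)⁻¹ * (g * b * g⁻¹)⁻¹ = 1 ∨ _ = g * z * g⁻¹
    have e0 : (g * a * g⁻¹) * (g * b * g⁻¹) * (g * a * g⁻¹)⁻¹ * (g * b * g⁻¹)⁻¹ =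
        g * (a * b * a⁻¹ * b⁻¹) * g⁻¹ := by group
    rcases h.comm a ha b hb with e | e
    · exact Or.inl (by rw [e0, e, mul_one, mul_inv_cancel])
    · refine Or.inr ?_
      show (g * a * g⁻¹) * (g * b * g⁻¹) * (g * a * g⁻¹)⁻¹ * (g * b * g⁻¹)⁻¹ = g * z * g⁻¹
      rw [e0, e]
  · rintro _ ⟨w, hw, rfl⟩ hw2 hc
    have hw2' : w * w = 1 := by
      have : g * (w * w) * g⁻¹ = 1 := by rw [← hm]; exact hw2
      exact conj_eq_one_iff.mp this
    rcases h.cc w hw hw2' (fun q hq => hi (show g * (w * q) * g⁻¹ = g * (q * w) * g⁻¹ by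
      rw [← hm, ← hm]; exact hc _ ⟨q, hq, rfl⟩)) with rfl | rfl
    · exact Or.inl (map_one _)
    · exact Or.inr rfl

/-- A non-central involution `w` of `Q` is conjugate in `Q` to `z * w`. -/
theorem Nice.exists_swap {z : G} {Q : Subgroup G} (h : Nice z Q) {w : G} (hw : w ∈ Q) (hw2 : w * w = 1)
    (hw1 : w ≠ 1) (hwz : w ≠ z) : ∃ q ∈ Q, q * w * q⁻¹ = z * w := by
  have : ¬ ∀ q ∈ Q, w * q = q * w := fun hc => (h.cc w hw hw2 hc).elim hw1 hwz
  push Not at this
  obtain ⟨q, hq, hne⟩ := this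
  refine ⟨q, hq, ?_⟩
  rcases h.comm q hq w hw with e | e
  · exact absurd (mul_inv_eq_iff_eq_mul.mp (mul_inv_eq_one.mp e)).symm hne
  · exact mul_inv_eq_iff_eq_mul.mp e

theorem Nice.mem_conj [Finite G] {z : G} {Q : Subgroup G} (hQ : Nice z Q) (g : G)
    (hne : g * z * g⁻¹ ≠ z) (hin : g * z * g⁻¹ ∈ Q) : z ∈ Q.map (MulAut.conj g).toMonoidHom := by
  have hR := hQ.conj g
  set R := Q.map (MulAut.conj g).toMonoidHom with hRdef
  set t := g * z * g⁻¹ with ht
  clear_value t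
  have hzt : z * t = t * z := (hQ.cz t hin).symm
  obtain ⟨q, hq, hqt⟩ := hQ.exists_swap hin hR.z2 hR.z1 hne
  have hqz : q * z * q⁻¹ = z := mul_inv_eq_iff_eq_mul.mpr (hQ.cz q hq)
  have hzzt : z * (z * t) = t := by rw [← mul_assoc, hQ.z2, one_mul]
  have hqzt : q * (z * t) * q⁻¹ = t := by
    rw [show q * (z * t) * q⁻¹ = (q * z * q⁻¹) * (q * t * q⁻¹) by group, hqz, hqt, hzzt]
  by_cases hf : ∃ f ∈ R, f * z * f⁻¹ = z * t
  · obtain ⟨f, hf, hfz⟩ := hf
    set k := q * f with hk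
    have hkz : k * z * k⁻¹ = t := by
      rw [hk, show q * f * z * (q * f)⁻¹ = q * (f * z * f⁻¹) * q⁻¹ by group, hfz, hqzt]
    have hft : f * t * f⁻¹ = t := mul_inv_eq_iff_eq_mul.mpr (hR.cz f hf)
    have hkt : k * t * k⁻¹ = z * t := by
      rw [hk, show q * f * t * (q * f)⁻¹ = q * (f * t * f⁻¹) * q⁻¹ by group, hft, hqt]
    have hkQ : k * t * k⁻¹ ∈ R := by
      have hc : (g⁻¹ * k) * z = z * (g⁻¹ * k) := by
        calc (g⁻¹ * k) * z = g⁻¹ * (k * z * k⁻¹) * k := by group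
          _ = g⁻¹ * (g * z * g⁻¹) * k := by rw [hkz, ht]
          _ = _ := by group
      exact ⟨_, hQ.nrm _ hc t hin, show g * ((g⁻¹ * k) * t * (g⁻¹ * k)⁻¹) * g⁻¹ = k * t * k⁻¹ by group⟩
    rw [hkt] at hkQ
    simpa using mul_mem hkQ (inv_mem hR.zmem)
  push Not at hf
  by_contra hzR
  -- elements `1, t`
  let I : G → Prop := fun a => a = 1 ∨ a = t
  have hti : t⁻¹ = t := inv_eq_of_mul_eq_one_right hR.z2
  have hzi : z⁻¹ = z := inv_eq_of_mul_eq_one_right hQ.z2
  have hIm : ∀ a b, I a → I b → I (a * b) := by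
    rintro a b (rfl | rfl) (rfl | rfl)
    · exact Or.inl (one_mul _)
    · exact Or.inr (one_mul _)
    · exact Or.inr (mul_one _)
    · exact Or.inl hR.z2
  have hIi : ∀ a, I a → a⁻¹ = a := by
    rintro a (rfl | rfl)
    · exact inv_one
    · exact hti
  have hIc : ∀ a, I a → ∀ w, w * t = t * w → a * w = w * a := by
    rintro a (rfl | rfl) w hw
    · simp
    · exact hw.symm
  have hIcR : ∀ a, I a → ∀ r ∈ R, a * r = r * a := fun a ha r hr => hIc a ha r (hR.cz r hr)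
  have hA : ∀ r ∈ R, I (z * r * z⁻¹ * r⁻¹) → r * z = z * r := by
    intro r hr h
    rcases h with e | e
    · exact (mul_inv_eq_iff_eq_mul.mp (mul_inv_eq_one.mp e)).symm
    · exfalso
      refine hf r hr ?_
      have e2 : (z * r * z⁻¹ * r⁻¹)⁻¹ = t := by rw [e, hti]
      calc r * z * r⁻¹ = (z * r * z⁻¹ * r⁻¹)⁻¹ * z := by group
        _ = t * z := by rw [e2]
        _ = z * t := hzt.symm
  have hYn : ∀ y, y * t = t * y → ∀ r ∈ R, y * r * y⁻¹ ∈ R := hR.nrm
  -- `Q ⊓ R`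
  have hcY : ∀ w ∈ Q, w * w = 1 → (∀ y ∈ Q, y * t = t * y → w * y = y * w) →
      w = 1 ∨ w = z ∨ w = t ∨ w = z * t := by
    intro w hw hw2 hwY
    have central : ∀ u, (∀ y ∈ Q, y * t = t * y → u * y = y * u) → u * q = q * u → ∀ a ∈ Q, u * a = a * u := by
      intro u huY huq a ha
      rcases hQ.comm a ha t hin with e | e
      · exact huY a ha (mul_inv_eq_iff_eq_mul.mp (mul_inv_eq_one.mp e))
      · have e' : a * t * a⁻¹ = z * t := mul_inv_eq_iff_eq_mul.mp e
        have hy : (q⁻¹ * a) * t = t * (q⁻¹ * a) := by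
          calc (q⁻¹ * a) * t = q⁻¹ * (a * t * a⁻¹) * a := by group
            _ = q⁻¹ * (q * t * q⁻¹) * a := by rw [e', hqt]
            _ = _ := by group
        have := huY _ (mul_mem (inv_mem hq) ha) hy
        calc u * a = (u * q) * (q⁻¹ * a) := by group
          _ = q * (u * (q⁻¹ * a)) := by rw [huq]; group
          _ = q * ((q⁻¹ * a) * u) := by rw [this]
          _ = a * u := by group
    have hwt : w * t = t * w := hwY t hin rfl
    rcases hQ.comm q hq w hw with e | e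
    · have hwq : w * q = q * w := (mul_inv_eq_iff_eq_mul.mp (mul_inv_eq_one.mp e)).symm
      rcases hQ.cc w hw hw2 (central w hwY hwq) with e | e
      · exact Or.inl e
      · exact Or.inr (Or.inl e)
    · have e' : q * w * q⁻¹ = z * w := mul_inv_eq_iff_eq_mul.mp e
      have hu : (w * t) * q = q * (w * t) := by
        refine (mul_inv_eq_iff_eq_mul.mp ?_).symm
        rw [show q * (w * t) * q⁻¹ = (q * w * q⁻¹) * (q * t * q⁻¹) by group, e', hqt]
        calc z * w * (z * t) = z * (w * z) * t := by group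
          _ = z * (z * w) * t := by rw [hQ.cz w hw]
          _ = w * t := by rw [← mul_assoc z z w, hQ.z2, one_mul]
      have hu2 : (w * t) * (w * t) = 1 := by
        rw [show (w * t) * (w * t) = w * (t * w) * t by group, ← hwt,
          show w * (w * t) * t = (w * w) * (t * t) by group, hw2, hR.z2, one_mul]
      rcases hQ.cc (w * t) (mul_mem hw hin) hu2 (central _ (fun y hy hyt => by
          rw [mul_assoc, ← hyt, ← mul_assoc, hwY y hy hyt, mul_assoc]) hu) with e | e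
      · right; right; left
        rw [← hti]; exact mul_eq_one_iff_eq_inv.mp e
      · right; right; right
        rw [← e, mul_assoc, hR.z2, mul_one]
  have hW : ∀ w ∈ Q, w ∈ R → I w := by
    intro w hwQ hwR
    have hw2 : w * w = 1 := (hQ.sq w hwQ).resolve_right fun e => hzR (e ▸ mul_mem hwR hwR)
    have hwY : ∀ y ∈ Q, y * t = t * y → w * y = y * w := by
      intro y hy hyt
      have : w * y * w⁻¹ * y⁻¹ ∈ R := by
        rw [show w * y * w⁻¹ * y⁻¹ = w * (y * w⁻¹ * y⁻¹) by group]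
        exact mul_mem hwR (hYn y hyt _ (inv_mem hwR))
      exact mul_inv_eq_iff_eq_mul.mp (mul_inv_eq_one.mp
        ((hQ.comm w hwQ y hy).resolve_right fun e => hzR (e ▸ this)))
    rcases hcY w hwQ hw2 hwY with e | e | e | e
    · exact Or.inl e
    · exact absurd (e ▸ hwR) hzR
    · exact Or.inr e
    · refine absurd ?_ hzR
      simpa [e] using mul_mem hwR (inv_mem hR.zmem)
  -- `y x y⁻¹ = δ x`
  have hXY : ∀ y ∈ Q, y * t = t * y → ∀ x ∈ R, x * z = z * x → I (y * x * y⁻¹ * x⁻¹) := by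
    intro y hy hyt x hx hxz
    refine hW _ ?_ (mul_mem (hYn y hyt x hx) (inv_mem hx))
    rw [show y * x * y⁻¹ * x⁻¹ = y * (x * y⁻¹ * x⁻¹) by group]
    exact mul_mem hy (hQ.nrm x hxz _ (inv_mem hy))
  have hIy : ∀ y a, y * t = t * y → I a → y * a * y⁻¹ = a := fun y a hy ha => by
    rw [← hIc a ha y hy, mul_inv_cancel_right]
  have he : ∀ y ∈ Q, y * t = t * y → ∀ r ∈ R, ∀ x ∈ R, x * z = z * x →
      (y * r * y⁻¹ * r⁻¹) * x = x * (y * r * y⁻¹ * r⁻¹) := by
    intro y hy hyt r hr x hx hxz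
    set e := y * r * y⁻¹ * r⁻¹ with hedef
    set d := y * x * y⁻¹ * x⁻¹ with hddef
    set k := r * x * r⁻¹ * x⁻¹ with hkdef
    have hk : I k := hR.comm r hr x hx
    have heR : e ∈ R := mul_mem (hYn y hyt r hr) (inv_mem hr)
    have hd : I d := hXY y hy hyt x hx hxz
    have h1 : (e * r) * (d * x) = k * ((d * x) * (e * r)) := by
      calc (e * r) * (d * x) = y * (r * x) * y⁻¹ := by rw [hedef, hddef]; group
        _ = y * (k * (x * r)) * y⁻¹ := by rw [hkdef]; group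
        _ = (y * k * y⁻¹) * ((y * x * y⁻¹) * (y * r * y⁻¹)) := by group
        _ = k * ((d * x) * (e * r)) := by rw [hIy y k hyt hk, hedef, hddef]; group
    have cd := hIcR d hd
    have ck := hIcR k hk
    have h2 : d * k * (e * x * r) = d * k * (x * e * r) := by
      calc d * k * (e * x * r) = d * (k * e) * (x * r) := by group
        _ = d * (e * k) * (x * r) := by rw [ck e heR]
        _ = (d * e) * (k * (x * r)) := by group
        _ = (d * e) * (r * x) := by rw [show k * (x * r) = r * x by rw [hkdef]; group]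
        _ = (d * (e * r)) * x := by group
        _ = (e * r) * (d * x) := by rw [cd _ (mul_mem heR hr), mul_assoc]
        _ = k * ((d * x) * (e * r)) := h1
        _ = (k * d) * (x * e * r) := by group
        _ = _ := by rw [cd k (hk.elim (fun e => e ▸ one_mem R) (fun e => e ▸ hR.zmem))]
    exact mul_right_cancel (mul_left_cancel h2)
  -- `[z, r] ∈ X`
  have hd : ∀ r ∈ R, z * r * z⁻¹ * r⁻¹ ∈ R ∧ (z * r * z⁻¹ * r⁻¹) * z = z * (z * r * z⁻¹ * r⁻¹) := by
    intro r hr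
    set d := z * r * z⁻¹ * r⁻¹ with hddef
    have hdR : d ∈ R := mul_mem (hYn z hzt r hr) (inv_mem hr)
    refine ⟨hdR, hA d hdR ?_⟩
    have : z * d * z⁻¹ = d⁻¹ := by
      rw [hddef, hzi]
      calc z * (z * r * z * r⁻¹) * z = (z * z) * (r * z * r⁻¹ * z) := by group
        _ = r * z * r⁻¹ * z := by rw [hQ.z2, one_mul]
        _ = r * z⁻¹ * r⁻¹ * z⁻¹ := by rw [hzi]
        _ = _ := by group
    rw [this, ← mul_inv_rev]
    rcases hR.sq d hdR with e | e <;> rw [e]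
    · exact Or.inl inv_one
    · exact Or.inr hti
  have hCX : ∀ v ∈ R, (∀ x ∈ R, x * z = z * x → v * x = x * v) → v * z = z * v := by
    intro v hv hvX
    obtain ⟨hdR, hdz⟩ := hd v hv
    set d := z * v * z⁻¹ * v⁻¹ with hddef
    have hdc : ∀ r ∈ R, d * r = r * d := by
      intro r hr
      obtain ⟨haR, haz⟩ := hd r hr
      set a := z * r * z⁻¹ * r⁻¹ with hadef
      set k := r * v * r⁻¹ * v⁻¹ with hkdef
      have hk : I k := hR.comm r hr v hv
      have ck := hIcR k hk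
      have had : d * a = a * d := he z hQ.zmem hzt v hv a haR haz
      have h1 : a * r * (d * v) = k * (d * v * (a * r)) := by
        calc a * r * (d * v) = z * (r * v) * z⁻¹ := by rw [hadef, hddef]; group
          _ = z * (k * (v * r)) * z⁻¹ := by rw [hkdef]; group
          _ = (z * k * z⁻¹) * ((z * v * z⁻¹) * (z * r * z⁻¹)) := by group
          _ = _ := by rw [hIy z k hzt hk, hadef, hddef]; group
      have h2 : a * (r * d) * v = a * (d * r) * v := by
        calc a * (r * d) * v = a * r * (d * v) := by group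
          _ = k * (d * v * (a * r)) := h1
          _ = k * (d * (v * a) * r) := by group
          _ = k * ((d * a) * v * r) := by rw [hvX a haR haz]; group
          _ = k * (a * d) * (v * r) := by rw [had]; group
          _ = (a * d) * k * (v * r) := by rw [ck _ (mul_mem haR hdR)]
          _ = _ := by rw [hkdef]; group
      exact (mul_left_cancel (mul_right_cancel h2)).symm
    refine hA v hv (hR.cc d hdR ?_ hdc)
    have h1 : z * (v * v) * z⁻¹ = v * v := hIy z _ hzt (hR.sq v hv)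
    have h2 : (d * v) * (d * v) = v * v := by
      calc (d * v) * (d * v) = z * (v * v) * z⁻¹ := by rw [hddef]; group
        _ = _ := h1
    have h3 : (d * d) * (v * v) = v * v := by
      calc (d * d) * (v * v) = d * (d * v) * v := by group
        _ = d * (v * d) * v := by rw [hdc v hv]
        _ = (d * v) * (d * v) := by group
        _ = _ := h2
    exact mul_eq_right.mp h3
  have hYX : ∀ y ∈ Q, y * t = t * y → ∀ r ∈ R,
      y * r * y⁻¹ * r⁻¹ ∈ R ∧ (y * r * y⁻¹ * r⁻¹) * z = z * (y * r * y⁻¹ * r⁻¹) := fun y hy hyt r hr =>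
    ⟨mul_mem (hYn y hyt r hr) (inv_mem hr),
      hCX _ (mul_mem (hYn y hyt r hr) (inv_mem hr)) fun x hx hxz => he y hy hyt r hr x hx hxz⟩
  have hzR' : ¬ ∀ r ∈ R, I (z * r * z⁻¹ * r⁻¹) := fun h =>
    hzR (hR.cent z fun r hr => (hA r hr (h r hr)).symm)
  -- squares in `Y` are trivial
  have hY2 : ∀ y ∈ Q, y * t = t * y → y * y = 1 := by
    intro y hy hyt
    refine (hQ.sq y hy).resolve_right fun e => hzR' fun r hr => ?_
    obtain ⟨heR, hez⟩ := hYX y hy hyt r hr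
    set u := y * r * y⁻¹ * r⁻¹ with hu
    have h1 : z * r * z⁻¹ * r⁻¹ = (y * u * y⁻¹ * u⁻¹) * (u * u) := by rw [← e, hu]; group
    rw [h1]
    exact hIm _ _ (hXY y hy hyt u heR hez) (hR.sq u heR)
  -- `Y` is commutative
  have hYc : ∀ y₁ ∈ Q, y₁ * t = t * y₁ → ∀ y₂ ∈ Q, y₂ * t = t * y₂ → y₁ * y₂ = y₂ * y₁ := by
    intro y₁ h1 h1t y₂ h2 h2t
    refine mul_inv_eq_iff_eq_mul.mp (mul_inv_eq_one.mp ((hQ.comm y₁ h1 y₂ h2).resolve_right fun e => ?_))
    refine hzR' fun s hs => ?_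
    set w := y₂ * y₁
    have hwt : w⁻¹ * t = t * w⁻¹ :=
      (Commute.inv_left (Commute.mul_left (show Commute y₂ t from h2t) (show Commute y₁ t from h1t))).eq
    have hrR : w⁻¹ * s * w⁻¹⁻¹ ∈ R := hYn _ hwt s hs
    set r := w⁻¹ * s * w⁻¹⁻¹ with hrdef
    obtain ⟨a1R, a1z⟩ := hYX y₁ h1 h1t r hrR
    obtain ⟨a2R, a2z⟩ := hYX y₂ h2 h2t r hrR
    set a₁ := y₁ * r * y₁⁻¹ * r⁻¹ with ha1
    set a₂ := y₂ * r * y₂⁻¹ * r⁻¹ with ha2
    have hd1 : I (y₁ * a₂ * y₁⁻¹ * a₂⁻¹) := hXY y₁ h1 h1t a₂ a2R a2z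
    have hd2 : I (y₂ * a₁ * y₂⁻¹ * a₁⁻¹) := hXY y₂ h2 h2t a₁ a1R a1z
    have hk : I (a₂ * a₁ * a₂⁻¹ * a₁⁻¹) := hR.comm a₂ a2R a₁ a1R
    set d1 := y₁ * a₂ * y₁⁻¹ * a₂⁻¹
    set d2 := y₂ * a₁ * y₂⁻¹ * a₁⁻¹
    set k := a₂ * a₁ * a₂⁻¹ * a₁⁻¹
    have hs1 : s = d2 * (a₁ * a₂ * r) := by
      simp only [d2, ha1, ha2, hrdef, w]; group
    have hs2 : z * s * z⁻¹ = d1 * (a₂ * a₁ * r) := by
      rw [← e]
      simp only [d1, ha1, ha2, hrdef, w]; group
    have : z * s * z⁻¹ * s⁻¹ = d1 * k * d2⁻¹ := by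
      rw [hs2, hs1]
      simp only [k]; group
    rw [this, hIi d2 hd2]
    exact hIm _ _ (hIm _ _ hd1 hk) hd2
  have hY4 : ∀ y ∈ Q, y * t = t * y → y = 1 ∨ y = z ∨ y = t ∨ y = z * t := fun y hy hyt =>
    hcY y hy (hY2 y hy hyt) fun y' hy' hyt' => hYc y hy hyt y' hy' hyt'
  -- the order is at most 8
  have hcard : Nat.card ↥R ≤ 8 := by
    classical
    rw [hRdef, Subgroup.card_map_of_injective (MulAut.conj g).injective]
    let S : Finset G := {1, z, t, z * t, q, q * z, q * t, q * (z * t)}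
    have hsub : ∀ a ∈ Q, a ∈ S := by
      intro a ha
      simp only [S, Finset.mem_insert, Finset.mem_singleton]
      rcases hQ.comm a ha t hin with e | e
      · rcases hY4 a ha (mul_inv_eq_iff_eq_mul.mp (mul_inv_eq_one.mp e)) with rfl | rfl | rfl | rfl <;> simp
      · have e' : a * t * a⁻¹ = z * t := mul_inv_eq_iff_eq_mul.mp e
        have hy : (q⁻¹ * a) * t = t * (q⁻¹ * a) := by
          calc (q⁻¹ * a) * t = q⁻¹ * (a * t * a⁻¹) * a := by group
            _ = q⁻¹ * (q * t * q⁻¹) * a := by rw [e', hqt]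
            _ = _ := by group
        rcases hY4 _ (mul_mem (inv_mem hq) ha) hy with e | e | e | e <;>
          rw [inv_mul_eq_iff_eq_mul] at e <;> simp [e]
    calc Nat.card ↥Q ≤ Nat.card ↥S := Nat.card_le_card_of_injective (fun a : ↥Q => (⟨a, hsub a a.2⟩ : ↥S))
          fun a b hab => Subtype.ext (congrArg Subtype.val hab :)
      _ ≤ 8 := by
        rw [Nat.card_eq_finsetCard]
        exact (Finset.card_insert_le _ _).trans (Nat.succ_le_succ ((Finset.card_insert_le _ _).trans (Nat.succ_le_succ ((Finset.card_insert_le _ _).trans (Nat.succ_le_succ ((Finset.card_insert_le _ _).trans (Nat.succ_le_succ ((Finset.card_insert_le _ _).trans (Nat.succ_le_succ ((Finset.card_insert_le _ _).trans (Nat.succ_le_succ ((Finset.card_insert_le _ _).trans (Nat.succ_le_succ (Finset.card_singleton _).le)))))))))))))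
  -- every element of `X` squares to one
  have hX2 : ∀ x ∈ R, x * z = z * x → x * x = 1 := by
    intro x hx hxz
    refine (hR.sq x hx).resolve_right fun e => ?_
    have hy : (q⁻¹ * (x * q * x⁻¹)) * t = t * (q⁻¹ * (x * q * x⁻¹)) := by
      have hxt : x * t * x⁻¹ = t := mul_inv_eq_iff_eq_mul.mpr (hR.cz x hx)
      have hxt' : x⁻¹ * t * x = t := by
        calc x⁻¹ * t * x = x⁻¹ * (x * t * x⁻¹) * x := by rw [hxt]
          _ = t := by group
      calc (q⁻¹ * (x * q * x⁻¹)) * t = q⁻¹ * x * q * (x⁻¹ * t * x) * x⁻¹ := by group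
        _ = q⁻¹ * x * q * t * x⁻¹ := by rw [hxt']
        _ = q⁻¹ * (x * (q * t * q⁻¹) * x⁻¹) * (x * q * x⁻¹) := by group
        _ = q⁻¹ * ((x * z * x⁻¹) * (x * t * x⁻¹)) * (x * q * x⁻¹) := by rw [hqt]; group
        _ = q⁻¹ * (z * t) * (x * q * x⁻¹) := by rw [hxt, mul_inv_eq_iff_eq_mul.mpr hxz]
        _ = q⁻¹ * (q * t * q⁻¹) * (x * q * x⁻¹) := by rw [hqt]
        _ = _ := by group
    set y := q⁻¹ * (x * q * x⁻¹) with hydef
    have hyQ : y ∈ Q := mul_mem (inv_mem hq) (hQ.nrm x hxz q hq)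
    have hyfix : x * y * x⁻¹ = y := by
      have hxt : x * t * x⁻¹ = t := mul_inv_eq_iff_eq_mul.mpr (hR.cz x hx)
      have hxz' : x * z * x⁻¹ = z := mul_inv_eq_iff_eq_mul.mpr hxz
      rcases hY4 y hyQ hy with e | e | e | e <;> rw [e]
      · group
      · exact hxz'
      · exact hxt
      · rw [show x * (z * t) * x⁻¹ = (x * z * x⁻¹) * (x * t * x⁻¹) by group, hxz', hxt]
    have hfix : t * q * t⁻¹ = q := by
      rw [← e]
      calc x * x * q * (x * x)⁻¹ = (x * q * x⁻¹) * (x * y * x⁻¹) := by rw [hydef]; group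
        _ = q * y * y := by rw [hyfix, hydef]; group
        _ = q := by rw [mul_assoc, hY2 y hyQ hy, mul_one]
    have h0 : q * t * q⁻¹ = t := by
      calc q * t * q⁻¹ = (t * q * t⁻¹) * t * q⁻¹ := by rw [hfix]
        _ = t := by group
    rw [hqt] at h0
    exact hQ.z1 (mul_eq_right.mp h0)
  -- conclusion
  refine hzR' fun r hr => ?_
  obtain ⟨heR, hez⟩ := hd r hr
  set d := z * r * z⁻¹ * r⁻¹ with hddef
  by_cases hrz : r * z = z * r
  · left
    rw [hddef, ← hrz]; group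
  refine hR.cc d heR (hX2 d heR hez) fun s hs => ?_
  have hdr : d * r = r * d := by
    have h2 : (d * r) * (d * r) = r * r := by
      calc (d * r) * (d * r) = z * (r * r) * z⁻¹ := by rw [hddef]; group
        _ = _ := hIy z _ hzt (hR.sq r hr)
    have h3 : d * r * d = r := mul_right_cancel (b := r) (by rw [← h2]; group)
    calc d * r = (d * r * d) * d⁻¹ := by group
      _ = r * d⁻¹ := by rw [h3]
      _ = r * d := by rw [inv_eq_of_mul_eq_one_right (hX2 d heR hez)]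
  have hXd : ∀ x ∈ R, x * z = z * x → d * x = x * d := fun x hx hxz => he z hQ.zmem hzt r hr x hx hxz
  set X := (centralizer ({z} : Set G)).subgroupOf R with hXdef
  have hXmem : ∀ a : ↥R, a ∈ X ↔ (a : G) * z = z * a := fun a =>
    mem_subgroupOf.trans mem_centralizer_singleton_iff
  have hx0 : ∃ x ∈ R, x * z = z * x ∧ x ≠ 1 ∧ x ≠ t := by
    by_contra h
    push Not at h
    refine hrz (hCX r hr fun x hx hxz => ?_)
    have hIx : I x := (em (x = 1)).imp_right fun h1 => h x hx hxz h1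
    exact (hIcR x hIx r hr).symm
  obtain ⟨x0, hx0, hx0z, hx01, hx0t⟩ := hx0
  have hidx : X.index = 2 := by
    have hne : X ≠ ⊤ := fun h => hrz ((hXmem ⟨r, hr⟩).mp (h ▸ mem_top _))
    have h3 : 3 ≤ Nat.card ↥X := by
      classical
      haveI := Fintype.ofFinite ↥X
      rw [Nat.card_eq_fintype_card]
      exact Fintype.two_lt_card_iff.mpr ⟨1, ⟨⟨t, hR.zmem⟩, (hXmem _).mpr hzt.symm⟩,
        ⟨⟨x0, hx0⟩, (hXmem _).mpr hx0z⟩,
        fun e => hR.z1 (congrArg (fun a : ↥X => ((a : ↥R) : G)) e).symm,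
        fun e => hx01 (congrArg (fun a : ↥X => ((a : ↥R) : G)) e).symm,
        fun e => hx0t (congrArg (fun a : ↥X => ((a : ↥R) : G)) e).symm⟩
    have h1 : X.index ≠ 1 := fun h => hne (index_eq_one.mp h)
    have h0 : X.index ≠ 0 := X.index_ne_zero_of_finite
    have hm := X.card_mul_index
    have : 3 * X.index ≤ 8 := le_trans (Nat.mul_le_mul_right _ h3) (hm ▸ hcard)
    omega
  by_cases hsz : s * z = z * s
  · exact hXd s hs hsz
  have hmem : (⟨r, hr⟩⁻¹ * ⟨s, hs⟩ : ↥R) ∈ X := by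
    rw [mul_mem_iff_of_index_two hidx, inv_mem_iff, hXmem, hXmem]
    exact iff_of_false hrz hsz
  have hz' : (r⁻¹ * s) * z = z * (r⁻¹ * s) := (hXmem _).mp hmem
  have h4 := hXd (r⁻¹ * s) (mul_mem (inv_mem hr) hs) hz'
  calc d * s = (d * r) * (r⁻¹ * s) := by group
    _ = r * (d * (r⁻¹ * s)) := by rw [hdr, mul_assoc]
    _ = r * ((r⁻¹ * s) * d) := by rw [h4]
    _ = s * d := by group

/-- The two symplectic groups induce every automorphism of the four-group. -/
theorem Nice.conj_perm [Finite G] {z : G} {Q : Subgroup G} (hQ : Nice z Q) (g : G)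
    (hne : g * z * g⁻¹ ≠ z) (hin : g * z * g⁻¹ ∈ Q) {u v : G}
    (hu : u ∈ closure ({z, g * z * g⁻¹} : Set G)) (hv : v ∈ closure ({z, g * z * g⁻¹} : Set G))
    (hu1 : u ≠ 1) (hv1 : v ≠ 1) (huv : u ≠ v) :
    ∃ x ∈ Q ⊔ Q.map (MulAut.conj g).toMonoidHom, x * z * x⁻¹ = u ∧ x * (g * z * g⁻¹) * x⁻¹ = v := by
  have hR := hQ.conj g
  have hzR := hQ.mem_conj g hne hin
  set R := Q.map (MulAut.conj g).toMonoidHom
  set t := g * z * g⁻¹
  clear_value t R
  have hzt : z * t = t * z := (hQ.cz t hin).symm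
  obtain ⟨q, hq, hqt⟩ := hQ.exists_swap hin hR.z2 hR.z1 hne
  obtain ⟨f, hf, hfz⟩ := hR.exists_swap hzR hQ.z2 hQ.z1 hne.symm
  rw [← hzt] at hfz
  have hqz : q * z * q⁻¹ = z := mul_inv_eq_iff_eq_mul.mpr (hQ.cz q hq)
  have hft : f * t * f⁻¹ = t := mul_inv_eq_iff_eq_mul.mpr (hR.cz f hf)
  have hqc : q * (z * t) * q⁻¹ = t := by
    rw [show q * (z * t) * q⁻¹ = (q * z * q⁻¹) * (q * t * q⁻¹) by group, hqz, hqt, ← mul_assoc, hQ.z2,
      one_mul]
  have hfc : f * (z * t) * f⁻¹ = z := by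
    rw [show f * (z * t) * f⁻¹ = (f * z * f⁻¹) * (f * t * f⁻¹) by group, hfz, hft, mul_assoc, hR.z2,
      mul_one]
  have h4 : ∀ w ∈ closure ({z, t} : Set G), w = 1 ∨ w = z ∨ w = t ∨ w = z * t := by
    intro w hw
    induction hw using closure_induction with
    | mem a ha => rcases ha with rfl | rfl <;> simp
    | one => simp
    | mul a b _ _ ha hb =>
      have e1 : z * (z * t) = t := by rw [← mul_assoc, hQ.z2, one_mul]
      have e2 : t * (z * t) = z := by rw [← mul_assoc, ← hzt, mul_assoc, hR.z2, mul_one]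
      have e3 : z * t * z = t := by rw [hzt, mul_assoc, hQ.z2, mul_one]
      have e4 : z * t * t = z := by rw [mul_assoc, hR.z2, mul_one]
      have e5 : z * t * (z * t) = 1 := by rw [← mul_assoc, e3, hR.z2]
      rcases ha with rfl | rfl | rfl | rfl <;> rcases hb with rfl | rfl | rfl | rfl <;>
        simp [hQ.z2, hR.z2, e1, e2, e3, e4, e5, ← hzt]
    | inv a _ ha =>
      have e1 : z⁻¹ = z := inv_eq_of_mul_eq_one_right hQ.z2
      have e2 : t⁻¹ = t := inv_eq_of_mul_eq_one_right hR.z2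
      rcases ha with rfl | rfl | rfl | rfl <;> simp [mul_inv_rev, e1, e2, ← hzt]
  have hqS : q ∈ Q ⊔ R := mem_sup_left hq
  have hfS : f ∈ Q ⊔ R := mem_sup_right hf
  have cc : ∀ a b w : G, (a * b) * w * (a * b)⁻¹ = a * (b * w * b⁻¹) * a⁻¹ := fun a b w => by group
  rcases h4 u hu with rfl | rfl | rfl | rfl
  · exact absurd rfl hu1
  · rcases h4 v hv with rfl | rfl | rfl | rfl
    · exact absurd rfl hv1
    · exact absurd rfl huv
    · exact ⟨1, one_mem _, by group, by group⟩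
    · exact ⟨q, hqS, hqz, hqt⟩
  · rcases h4 v hv with rfl | rfl | rfl | rfl
    · exact absurd rfl hv1
    · exact ⟨q * f * q, mul_mem (mul_mem hqS hfS) hqS, by rw [cc, hqz, cc, hfz, hqc],
        by rw [cc, hqt, cc, hfc, hqz]⟩
    · exact absurd rfl huv
    · exact ⟨q * f, mul_mem hqS hfS, by rw [cc, hfz, hqc], by rw [cc, hft, hqt]⟩
  · rcases h4 v hv with rfl | rfl | rfl | rfl
    · exact absurd rfl hv1
    · exact ⟨f * q, mul_mem hfS hqS, by rw [cc, hqz, hfz], by rw [cc, hqt, hfc]⟩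
    · exact ⟨f, hfS, hfz, hft⟩
    · exact absurd rfl huv

end Cfsg.Agent.H46
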