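import Mathlib

/-!
Steinberg's count of the unipotent elements of a finite symplectic group, by a Möbius sum over totally
isotropic subspaces.
-/

set_option autoImplicit false
set_option linter.unusedSectionVars false

namespace Cfsg.Agent.H46.SpUnip

open Module

universe u

variable {F : Type*} [Field F]

/-- A nondegenerate alternating space. -/
structure SpSpace (F : Type*) [Field F] (V : Type*) [AddCommGroup V] [Module F V] where
  B : LinearMap.BilinForm F V
  alt : ∀ x, B x x = 0
  nondeg : ∀ x, (∀ y, B x y = 0) → x = 0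

variable {V : Type u} [AddCommGroup V] [Module F V] [Finite V] (s : SpSpace F V)

theorem B_swap (x y : V) : s.B y x = - s.B x y := by
  have h := s.alt (x + y)
  simp only [map_add, LinearMap.add_apply, s.alt, add_zero, zero_add] at h
  exact eq_neg_of_add_eq_zero_left h

/-- The isometry group. -/
def iso : Subgroup (V ≃ₗ[F] V) where
  carrier := {g | ∀ x y, s.B (g x) (g y) = s.B x y}
  mul_mem' {g h} hg hh x y := (hg (h x) (h y)).trans (hh x y)
  one_mem' _ _ := rfl
  inv_mem' {g} hg x y := by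
    have := hg (g⁻¹ x) (g⁻¹ y)
    rw [show g (g⁻¹ x) = x from g.apply_symm_apply x, show g (g⁻¹ y) = y from g.apply_symm_apply y] at this
    exact this.symm

instance : Finite (V ≃ₗ[F] V) :=
  Finite.of_injective (fun g : V ≃ₗ[F] V => (g : V → V)) DFunLike.coe_injective

/-- A form-preserving linear endomorphism is an isometry. -/
noncomputable def isoOf (f : V →ₗ[F] V) (hf : ∀ x y, s.B (f x) (f y) = s.B x y) : iso s :=
  ⟨LinearEquiv.ofBijective f (Finite.injective_iff_bijective.1 (by
    refine (injective_iff_map_eq_zero f).2 fun x hx => s.nondeg x fun y => ?_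
    rw [← hf x y, hx, map_zero, LinearMap.zero_apply])), hf⟩

variable {s}

theorem isoOf_apply (f : V →ₗ[F] V) (hf : ∀ x y, s.B (f x) (f y) = s.B x y) (x : V) :
    (isoOf s f hf).1 x = f x := rfl

theorem mul_apply (g h : iso s) (x : V) : (g * h).1 x = g.1 (h.1 x) := rfl

theorem iso_ext {g h : iso s} (e : ∀ x, g.1 x = h.1 x) : g = h := Subtype.ext (LinearEquiv.ext e)

section Pair

variable (s) (z f : V)

/-- The orthogonal complement of a pair. -/
def comp2 : Submodule F V := LinearMap.ker ((s.B.flip z).prod (s.B.flip f))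

theorem mem_comp2 {x : V} : x ∈ comp2 s z f ↔ s.B x z = 0 ∧ s.B x f = 0 := by
  simp [comp2, Prod.ext_iff]

/-- The projection on the complement. -/
def proj : V →ₗ[F] V := LinearMap.id - (s.B.flip z).smulRight f + (s.B.flip f).smulRight z

theorem proj_apply (x : V) : proj s z f x = x - s.B x z • f + s.B x f • z := by simp [proj]

theorem decomp (x : V) : proj s z f x + s.B x z • f - s.B x f • z = x := by
  rw [proj_apply]; abel

variable {z f} (hfz : s.B f z = 1)
include hfz

theorem B_zf : s.B z f = -1 := by rw [B_swap s f z, hfz]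

theorem proj_mem (x : V) : proj s z f x ∈ comp2 s z f := by
  rw [mem_comp2]
  constructor <;> simp [proj_apply, s.alt, hfz, B_zf s hfz]

/-- The projection with values in the complement. -/
def projU : V →ₗ[F] comp2 s z f := (proj s z f).codRestrict _ (proj_mem s hfz)

theorem projU_coe (x : V) : (projU s hfz x : V) = proj s z f x := rfl

theorem projU_of_mem (u : comp2 s z f) : projU s hfz (u : V) = u := by
  have h := (mem_comp2 s z f).1 u.2
  exact Subtype.ext (by simp [projU_coe, proj_apply, h.1, h.2])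

theorem projU_z : projU s hfz z = 0 :=
  Subtype.ext (by simp [projU_coe, proj_apply, s.alt, B_zf s hfz])

theorem projU_f : projU s hfz f = 0 :=
  Subtype.ext (by simp [projU_coe, proj_apply, s.alt, hfz])

theorem B_decomp (u u' : comp2 s z f) (a c a' c' : F) :
    s.B (u + a • f + c • z) (u' + a' • f + c' • z) = s.B (u : V) u' + a * c' - c * a' := by
  have h := (mem_comp2 s z f).1 u.2
  have h' := (mem_comp2 s z f).1 u'.2
  have h1 : s.B f (u' : V) = 0 := by rw [B_swap s (u' : V) f, h'.2, neg_zero]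
  have h2 : s.B z (u' : V) = 0 := by rw [B_swap s (u' : V) z, h'.1, neg_zero]
  simp [s.alt, hfz, B_zf s hfz, h.1, h.2, h1, h2]
  ring

/-- The complement as an alternating space. -/
def restrict : SpSpace F (comp2 s z f) where
  B := s.B.compl₁₂ (comp2 s z f).subtype (comp2 s z f).subtype
  alt x := s.alt x.1
  nondeg x hx := by
    refine Subtype.ext (s.nondeg x.1 fun y => ?_)
    have h := (mem_comp2 s z f).1 x.2
    rw [← decomp s z f y]
    have h2 := hx ⟨proj s z f y, proj_mem s hfz y⟩
    simp only [LinearMap.compl₁₂_apply, Submodule.coe_subtype] at h2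
    simp [h2, h.1, h.2]

theorem restrict_B (x y : comp2 s z f) : (restrict s hfz).B x y = s.B (x : V) y := rfl

theorem finrank_comp2 {m : ℕ} (hd : finrank F V = 2 * (m + 1)) :
    finrank F (comp2 s z f) = 2 * m := by
  have hr : LinearMap.range ((s.B.flip z).prod (s.B.flip f)) = ⊤ := by
    rw [LinearMap.range_eq_top]
    rintro ⟨a, c⟩
    exact ⟨a • f - c • z, by simp [s.alt, hfz, B_zf s hfz]⟩
  have h := LinearMap.finrank_range_add_finrank_ker ((s.B.flip z).prod (s.B.flip f))
  rw [hr, finrank_top, finrank_prod, finrank_self, hd] at h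
  show finrank F (LinearMap.ker ((s.B.flip z).prod (s.B.flip f))) = 2 * m
  omega

omit hfz in
/-- An Eichler transformation. -/
def eMap (z f w : V) : V →ₗ[F] V :=
  LinearMap.id + (s.B.flip z).smulRight w + (s.B.flip w - s.B f w • s.B.flip z).smulRight z

omit hfz in
theorem eMap_apply (z f w x : V) :
    eMap s z f w x = x + s.B x z • w + (s.B x w - s.B f w * s.B x z) • z := by simp [eMap]

omit hfz in
theorem eMap_preserves {w : V} (hw : s.B w z = 0) (x y : V) :
    s.B (eMap s z f w x) (eMap s z f w y) = s.B x y := by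
  have hzw : s.B z w = 0 := by rw [B_swap s w z, hw, neg_zero]
  simp only [eMap_apply, map_add, map_smul, LinearMap.add_apply, LinearMap.smul_apply, smul_eq_mul, hw, hzw,
    s.alt]
  have e1 : s.B w y = - s.B y w := B_swap s y w
  have e2 : s.B z y = - s.B y z := B_swap s y z
  rw [e1, e2]
  ring

/-- Extension of an isometry of the complement. -/
def extMap (h : iso (restrict s hfz)) : V →ₗ[F] V :=
  (comp2 s z f).subtype ∘ₗ h.1.toLinearMap ∘ₗ projU s hfz + (s.B.flip z).smulRight f
    - (s.B.flip f).smulRight z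

theorem extMap_apply (h : iso (restrict s hfz)) (x : V) :
    extMap s hfz h x = (h.1 (projU s hfz x) : V) + s.B x z • f - s.B x f • z := by simp [extMap]

theorem extMap_preserves (h : iso (restrict s hfz)) (x y : V) :
    s.B (extMap s hfz h x) (extMap s hfz h y) = s.B x y := by
  conv_rhs => rw [← decomp s z f x, ← decomp s z f y, ← projU_coe s hfz x, ← projU_coe s hfz y]
  rw [extMap_apply, extMap_apply]
  simp only [sub_eq_add_neg, ← neg_smul]
  rw [B_decomp s hfz, B_decomp s hfz, ← restrict_B s hfz, h.2, restrict_B]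

omit hfz in
/-- The stabilizer of a vector. -/
def stab (z : V) : Subgroup (iso s) where
  carrier := {g | g.1 z = z}
  mul_mem' {g h} hg hh := by
    show (g * h).1 z = z
    rw [mul_apply, hh, hg]
  one_mem' := rfl
  inv_mem' {g} hg := by
    show (g⁻¹).1 z = z
    conv_lhs => rw [← (show g.1 z = z from hg)]
    exact g.1.symm_apply_apply z

omit hfz in
theorem stab_B {g : iso s} (hg : g.1 z = z) (x : V) : s.B (g.1 x) z = s.B x z := by
  have := g.2 x z
  rwa [hg] at this

/-- Restriction to the complement. -/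
noncomputable def resFun (g : stab s z) : iso (restrict s hfz) :=
  isoOf (restrict s hfz) (projU s hfz ∘ₗ g.1.1.toLinearMap ∘ₗ (comp2 s z f).subtype) fun u u' => by
    rw [restrict_B, restrict_B, ← g.1.2 (u : V) u']
    conv_rhs => rw [← decomp s z f (g.1.1 (u : V)), ← decomp s z f (g.1.1 (u' : V))]
    rw [stab_B s g.2, stab_B s g.2, ((mem_comp2 s z f).1 u.2).1, ((mem_comp2 s z f).1 u'.2).1]
    simp only [sub_eq_add_neg, ← neg_smul, ← projU_coe s hfz]
    rw [B_decomp s hfz]
    simp

theorem resFun_apply (g : stab s z) (u : comp2 s z f) :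
    (resFun s hfz g).1 u = projU s hfz (g.1.1 (u : V)) := rfl

theorem projU_stab (g : stab s z) (x : V) (hx : s.B x z = 0) :
    projU s hfz (g.1.1 x) = projU s hfz (g.1.1 (projU s hfz x : V)) := by
  conv_lhs => rw [← decomp s z f x, hx]
  simp only [zero_smul, add_zero, map_sub, map_smul, show g.1.1 z = z from g.2, projU_z, smul_zero, sub_zero,
    projU_coe]

/-- Restriction as a homomorphism. -/
noncomputable def res : stab s z →* iso (restrict s hfz) :=
  MonoidHom.mk' (resFun s hfz) fun g g' => iso_ext fun u => by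
    rw [mul_apply, resFun_apply, resFun_apply, resFun_apply]
    exact projU_stab s hfz g _ ((stab_B s g'.2 (u : V)).trans ((mem_comp2 s z f).1 u.2).1)

/-- The element built from a vector and an isometry of the complement. -/
noncomputable def build (w : V) (hw : s.B w z = 0) (h : iso (restrict s hfz)) : stab s z :=
  ⟨isoOf s (eMap s z f w) (eMap_preserves s hw) * isoOf s (extMap s hfz h) (extMap_preserves s hfz h), by
    show (_ * _ : iso s).1 z = z
    rw [mul_apply, isoOf_apply, isoOf_apply, extMap_apply, projU_z, map_zero]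
    simp [eMap_apply, s.alt, B_zf s hfz, B_swap s w z, hw]⟩

theorem build_apply (w : V) (hw : s.B w z = 0) (h : iso (restrict s hfz)) (x : V) :
    (build s hfz w hw h).1.1 x = eMap s z f w (extMap s hfz h x) := rfl

theorem shift_mem (g : stab s z) : s.B (g.1.1 f - f) z = 0 := by
  rw [map_sub, LinearMap.sub_apply, stab_B s g.2, sub_self]

theorem build_res (g : stab s z) :
    build s hfz (g.1.1 f - f) (shift_mem s hfz g) (res s hfz g) = g := by
  refine Subtype.ext (iso_ext fun x => ?_)
  set w := g.1.1 f - f with hw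
  have hU : ∀ u : comp2 s z f, (build s hfz w (shift_mem s hfz g) (res s hfz g)).1.1 (u : V) = g.1.1 (u : V) := by
    intro u
    have h := (mem_comp2 s z f).1 u.2
    have hwz : s.B z w = 0 := by rw [B_swap s w z, shift_mem s hfz g, neg_zero]
    have hy : s.B (g.1.1 (u : V)) z = 0 := (stab_B s g.2 _).trans h.1
    have hperp : s.B (g.1.1 (u : V)) f + s.B (g.1.1 (u : V)) w = 0 := by
      rw [← map_add, hw, add_sub_cancel, g.1.2, h.2]
    have hp : (projU s hfz (g.1.1 (u : V)) : V) = g.1.1 (u : V) + s.B (g.1.1 (u : V)) f • z := by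
      rw [projU_coe, proj_apply, hy, zero_smul, sub_zero]
    rw [build_apply, extMap_apply, projU_of_mem, h.1, h.2, zero_smul, zero_smul, add_zero, sub_zero,
      eMap_apply]
    show ((res s hfz g).1 u : V) + _ + _ = _
    rw [show (res s hfz g).1 u = projU s hfz (g.1.1 (u : V)) from rfl, hp]
    have e1 : s.B (g.1.1 (u : V) + s.B (g.1.1 (u : V)) f • z) z = 0 := by simp [hy, s.alt]
    have e2 : s.B (g.1.1 (u : V) + s.B (g.1.1 (u : V)) f • z) w = - s.B (g.1.1 (u : V)) f := by
      simp [hwz, eq_neg_of_add_eq_zero_right hperp]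
    rw [e1, e2]
    simp
  have hf : (build s hfz w (shift_mem s hfz g) (res s hfz g)).1.1 f = g.1.1 f := by
    rw [build_apply, extMap_apply, projU_f, map_zero]
    simp [s.alt, hfz, eMap_apply, hw]
  conv_lhs => rw [← decomp s z f x, ← projU_coe s hfz x]
  conv_rhs => rw [← decomp s z f x, ← projU_coe s hfz x]
  simp only [map_add, map_sub, map_smul]
  erw [hU, hf, show (build s hfz w (shift_mem s hfz g) (res s hfz g)).1.1 z = z from (build s hfz w _ _).2,
    show g.1.1 z = z from g.2]

theorem build_shift (w : V) (hw : s.B w z = 0) (h : iso (restrict s hfz)) :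
    (build s hfz w hw h).1.1 f - f = w := by
  rw [build_apply, extMap_apply, projU_f, map_zero]
  simp [s.alt, hfz, eMap_apply]

theorem res_build (w : V) (hw : s.B w z = 0) (h : iso (restrict s hfz)) :
    res s hfz (build s hfz w hw h) = h := by
  refine iso_ext fun u => ?_
  show projU s hfz ((build s hfz w hw h).1.1 (u : V)) = h.1 u
  have hu := (mem_comp2 s z f).1 u.2
  have hh := (mem_comp2 s z f).1 (h.1 u).2
  rw [build_apply, extMap_apply, projU_of_mem, hu.1, hu.2, zero_smul, zero_smul, add_zero, sub_zero, eMap_apply,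
    hh.1, zero_smul, add_zero, map_add, map_smul, projU_z, smul_zero, add_zero, projU_of_mem]

end Pair

section Unipotent

variable [Fintype F] (p : ℕ) [Fact p.Prime] [CharP F p]

/-- Being unipotent. -/
def IsUnip {G : Type*} [Monoid G] (p : ℕ) (g : G) : Prop := ∃ k : ℕ, g ^ p ^ k = 1

theorem card_submodule (W : Submodule F V) : Nat.card W = Fintype.card F ^ finrank F W := by
  rw [← Nat.card_eq_fintype_card, Module.natCard_eq_pow_finrank (K := F)]

include p in
theorem exists_pow_card_ker {z f : V} (hfz : s.B f z = 1) :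
    ∃ j : ℕ, Nat.card (res s hfz).ker = p ^ j := by
  obtain ⟨n, -, hn⟩ := FiniteField.card F p
  refine ⟨n * finrank F (LinearMap.ker (s.B.flip z)), ?_⟩
  rw [pow_mul, ← hn, ← card_submodule]
  refine Nat.card_congr
    { toFun := fun g => ⟨g.1.1.1 f - f, shift_mem s hfz g.1⟩
      invFun := fun w => ⟨build s hfz w.1 w.2 1, res_build s hfz w.1 w.2 1⟩
      left_inv := fun g => Subtype.ext ?_
      right_inv := fun w => Subtype.ext (build_shift s hfz w.1 w.2 1) }
  show build s hfz (g.1.1.1 f - f) (shift_mem s hfz g.1) 1 = g.1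
  have : res s hfz g.1 = 1 := g.2
  rw [← this, build_res]

theorem unip_res_iff {z f : V} (hfz : s.B f z = 1) (g : stab s z) :
    IsUnip p g.1 ↔ IsUnip p (res s hfz g) := by
  constructor
  · rintro ⟨k, hk⟩
    exact ⟨k, by rw [← map_pow, show g ^ p ^ k = 1 from Subtype.ext hk, map_one]⟩
  · rintro ⟨k, hk⟩
    obtain ⟨j, hj⟩ := exists_pow_card_ker p hfz
    have hmem : g ^ p ^ k ∈ (res s hfz).ker := by rw [MonoidHom.mem_ker, map_pow, hk]
    have := congrArg Subtype.val (pow_card_eq_one' (G := (res s hfz).ker) (x := ⟨_, hmem⟩))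
    simp only [hj, SubgroupClass.coe_pow, OneMemClass.coe_one, ← pow_mul, ← pow_add] at this
    exact ⟨k + j, congrArg Subtype.val this⟩

variable (s)

/-- The unipotent elements fixing a subspace pointwise. -/
abbrev Fixer (W : Submodule F V) : Type u :=
  {g : iso s // IsUnip p g ∧ ∀ x ∈ W, g.1 x = x}

/-- Being totally isotropic. -/
def IsTI (W : Submodule F V) : Prop := ∀ x ∈ W, ∀ y ∈ W, s.B x y = 0

variable {s}

theorem card_fixer_step {W : Submodule F V} (hW : IsTI s W) {z f : V} (hz : z ∈ W) (hfz : s.B f z = 1) :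
    Nat.card (Fixer s p W) = Nat.card (s.B.orthogonal W) *
      Nat.card (Fixer (restrict s hfz) p (W.comap (comp2 s z f).subtype)) := by
  have hproj : ∀ x ∈ W, proj s z f x ∈ W := fun x hx => by
    rw [proj_apply, hW x hx z hz, zero_smul, sub_zero]
    exact W.add_mem hx (W.smul_mem _ hz)
  have horth : ∀ w : s.B.orthogonal W, s.B (w : V) z = 0 := fun w => by
    rw [B_swap s z, LinearMap.BilinForm.mem_orthogonal_iff.1 w.2 z hz, neg_zero]
  rw [← Nat.card_prod]
  refine Nat.card_congr
    { toFun := fun g =>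
        (⟨g.1.1 f - f, LinearMap.BilinForm.mem_orthogonal_iff.2 fun x hx => by
            rw [map_sub]
            nth_rw 1 [← g.2.2 x hx]
            rw [g.1.2, sub_self]⟩,
          ⟨res s hfz ⟨g.1, g.2.2 z hz⟩, (unip_res_iff p hfz ⟨g.1, g.2.2 z hz⟩).1 g.2.1, fun u hu => by
            show projU s hfz (g.1.1 (u : V)) = u
            rw [g.2.2 (u : V) hu, projU_of_mem]⟩)
      invFun := fun a =>
        ⟨(build s hfz a.1.1 (horth a.1) a.2.1).1, ?_, ?_⟩
      left_inv := fun g => Subtype.ext
        (by exact congrArg (fun t : stab s z => t.1) (build_res s hfz ⟨g.1, g.2.2 z hz⟩))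
      right_inv := fun a => Prod.ext (Subtype.ext (build_shift s hfz a.1.1 (horth a.1) a.2.1))
        (Subtype.ext (res_build s hfz a.1.1 (horth a.1) a.2.1)) }
  · rw [unip_res_iff p hfz, res_build]
    exact a.2.2.1
  · intro x hx
    have hxz : s.B x z = 0 := hW x hx z hz
    have hfix : a.2.1.1 (projU s hfz x) = projU s hfz x := a.2.2.2 _ (hproj x hx)
    have hperp : ∀ y ∈ W, s.B y a.1.1 = 0 := LinearMap.BilinForm.mem_orthogonal_iff.1 a.1.2
    have e : extMap s hfz a.2.1 x = x := by
      rw [extMap_apply, hfix]; exact decomp s z f x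
    rw [build_apply, e, eMap_apply, hxz, hperp x hx]
    simp

theorem nondegenerate (s : SpSpace F V) : s.B.Nondegenerate :=
  ⟨s.nondeg, fun y hy => s.nondeg y fun x => by rw [B_swap s x y, hy x, neg_zero]⟩

theorem isRefl (s : SpSpace F V) : LinearMap.BilinForm.IsRefl s.B :=
  fun x y h => by rw [B_swap s x y, h, neg_zero]

theorem finrank_orth (W : Submodule F V) :
    finrank F (s.B.orthogonal W) = finrank F V - finrank F W :=
  LinearMap.BilinForm.finrank_orthogonal (nondegenerate s) W

theorem finrank_ti_le {m : ℕ} (hd : finrank F V = 2 * m) {W : Submodule F V} (hW : IsTI s W) :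
    finrank F W ≤ m := by
  have h : W ≤ s.B.orthogonal W := fun y hy =>
    LinearMap.BilinForm.mem_orthogonal_iff.2 fun x hx => hW x hx y hy
  have h2 := Submodule.finrank_mono h
  rw [finrank_orth, hd] at h2
  have := W.finrank_le
  omega

end Unipotent

section Sum

variable (s)

/-- The totally isotropic subspaces. -/
abbrev TI : Type u := {W : Submodule F V // IsTI s W}

variable {s} {z f : V} (hfz : s.B f z = 1)
include hfz

theorem zperp_decomp {x : V} (hx : s.B x z = 0) :
    x = (projU s hfz x : V) + (- s.B x f) • z := by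
  conv_lhs => rw [← decomp s z f x, hx, zero_smul, add_zero, ← projU_coe s hfz, sub_eq_add_neg, ← neg_smul]

theorem ti_of_map {X : Submodule F (comp2 s z f)} (hX : IsTI (restrict s hfz) X) {x y : V}
    (hx : s.B x z = 0) (hy : s.B y z = 0) (hx' : projU s hfz x ∈ X) (hy' : projU s hfz y ∈ X) :
    s.B x y = 0 := by
  have h := B_decomp s hfz (projU s hfz x) (projU s hfz y) 0 (- s.B x f) 0 (- s.B y f)
  simp only [zero_smul, add_zero, zero_mul, mul_zero, sub_zero] at h
  rw [← zperp_decomp hfz hx, ← zperp_decomp hfz hy] at h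
  rw [h, ← restrict_B s hfz]
  exact hX _ hx' _ hy'

/-- Subspaces through the line. -/
def through (X : TI (restrict s hfz)) : TI s :=
  ⟨LinearMap.ker (s.B.flip z) ⊓ X.1.comap (projU s hfz), fun _ hx _ hy => ti_of_map hfz X.2 hx.1 hy.1 hx.2 hy.2⟩

theorem mem_through {X : TI (restrict s hfz)} {x : V} :
    x ∈ (through hfz X).1 ↔ s.B x z = 0 ∧ projU s hfz x ∈ X.1 := Iff.rfl

omit hfz in
/-- The graph map of a functional. -/
def graphMap (z f : V) (X : Submodule F (comp2 s z f)) (φ : X →ₗ[F] F) : X →ₗ[F] V :=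
  (comp2 s z f).subtype ∘ₗ X.subtype + φ.smulRight z

theorem graphMap_spec (X : Submodule F (comp2 s z f)) (φ : X →ₗ[F] F) (x : X) :
    s.B (graphMap z f X φ x) z = 0 ∧ projU s hfz (graphMap z f X φ x) = x.1 ∧
      - s.B (graphMap z f X φ x) f = φ x := by
  have h := (mem_comp2 s z f).1 x.1.2
  refine ⟨by simp [graphMap, h.1, s.alt], ?_, by simp [graphMap, h.2, B_zf s hfz]⟩
  simp [graphMap, projU_z, projU_of_mem]

/-- Subspaces in the perp avoiding the line. -/
def inside (a : Σ X : TI (restrict s hfz), X.1 →ₗ[F] F) : TI s :=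
  ⟨LinearMap.range (graphMap z f a.1.1 a.2), by
    rintro _ ⟨x, rfl⟩ _ ⟨y, rfl⟩
    obtain ⟨h1, h2, -⟩ := graphMap_spec hfz a.1.1 a.2 x
    obtain ⟨g1, g2, -⟩ := graphMap_spec hfz a.1.1 a.2 y
    exact ti_of_map hfz a.1.2 h1 g1 (h2 ▸ x.2) (g2 ▸ y.2)⟩

omit hfz in
/-- The map spanning a subspace outside the perp. -/
def crossMap (z f : V) (X : Submodule F (comp2 s z f)) (w : V) : (X × F) →ₗ[F] V :=
  eMap s z f w ∘ₗ
    ((comp2 s z f).subtype ∘ₗ X.subtype ∘ₗ LinearMap.fst F X F + (LinearMap.snd F X F).smulRight f)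

theorem crossMap_spec (X : Submodule F (comp2 s z f)) (u : comp2 s z f) (c : F) (a : X × F) :
    s.B (crossMap z f X (u + c • z) a) z = a.2 ∧
      projU s hfz (crossMap z f X (u + c • z) a) = a.1.1 + a.2 • u ∧
      - s.B (crossMap z f X (u + c • z) a) f = s.B (a.1.1 : V) u + a.2 * c := by
  have h := (mem_comp2 s z f).1 a.1.1.2
  have h' := (mem_comp2 s z f).1 u.2
  have h1 : s.B f (u : V) = 0 := by rw [B_swap s (u : V) f, h'.2, neg_zero]
  refine ⟨?_, ?_, ?_⟩
  · simp [crossMap, eMap_apply, h.1, h'.1, s.alt, hfz]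
  · simp [crossMap, eMap_apply, h.1, hfz, projU_z, projU_f, projU_of_mem]
  · simp [crossMap, eMap_apply, h.1, h.2, h'.2, h1, s.alt, hfz, B_zf s hfz]
    ring

theorem crossMap_injective (X : Submodule F (comp2 s z f)) (u : comp2 s z f) (c : F) :
    Function.Injective (crossMap z f X (u + c • z)) := by
  refine (injective_iff_map_eq_zero _).2 fun a ha => ?_
  obtain ⟨h1, h2, -⟩ := crossMap_spec hfz X u c a
  rw [ha] at h1 h2
  simp only [map_zero, LinearMap.zero_apply] at h1 h2
  rw [← h1, zero_smul, add_zero] at h2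
  exact Prod.ext (Subtype.ext h2.symm) h1.symm

theorem crossMap_ti (X : TI (restrict s hfz)) (u : comp2 s z f) (c : F) :
    IsTI s (LinearMap.range (crossMap z f X.1 (u + c • z))) := by
  have hw : s.B ((u : V) + c • z) z = 0 := by simp [((mem_comp2 s z f).1 u.2).1, s.alt]
  rintro _ ⟨a, rfl⟩ _ ⟨b, rfl⟩
  simp only [crossMap, LinearMap.comp_apply]
  rw [eMap_preserves s hw]
  have h := (mem_comp2 s z f).1 a.1.1.2
  have hb := (mem_comp2 s z f).1 b.1.1.2
  have h3 : s.B f (b.1.1 : V) = 0 := by rw [B_swap s (b.1.1 : V) f, hb.2, neg_zero]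
  have h4 : s.B (a.1.1 : V) b.1.1 = 0 := X.2 _ a.1.2 _ b.1.2
  simp [h.2, h3, h4, s.alt]

/-- Subspaces outside the perp. -/
noncomputable def across (a : Σ X : TI (restrict s hfz), ((comp2 s z f) ⧸ X.1) × F) : TI s :=
  ⟨LinearMap.range (crossMap z f a.1.1 ((a.2.1.out : comp2 s z f) + a.2.2 • z)),
    crossMap_ti hfz a.1 a.2.1.out a.2.2⟩

/-- All totally isotropic subspaces, by their position relative to the line. -/
noncomputable def allTI : TI (restrict s hfz) ⊕ (Σ X : TI (restrict s hfz), X.1 →ₗ[F] F) ⊕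
    (Σ X : TI (restrict s hfz), ((comp2 s z f) ⧸ X.1) × F) → TI s :=
  Sum.elim (through hfz) (Sum.elim (inside hfz) (across hfz))

theorem z_mem_through (X : TI (restrict s hfz)) : z ∈ (through hfz X).1 :=
  (mem_through hfz).2 ⟨s.alt z, by rw [projU_z]; exact X.1.zero_mem⟩

theorem z_not_mem_inside (a : Σ X : TI (restrict s hfz), X.1 →ₗ[F] F) : z ∉ (inside hfz a).1 := by
  rintro ⟨x, hx⟩
  obtain ⟨-, h2, h3⟩ := graphMap_spec hfz a.1.1 a.2 x
  rw [hx, projU_z] at h2
  have hx0 : x = 0 := Subtype.ext h2.symm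
  rw [hx, B_zf s hfz, hx0, map_zero, neg_neg] at h3
  exact one_ne_zero h3

theorem inside_perp (a : Σ X : TI (restrict s hfz), X.1 →ₗ[F] F) : ∀ x ∈ (inside hfz a).1, s.B x z = 0 := by
  rintro _ ⟨x, rfl⟩
  exact (graphMap_spec hfz a.1.1 a.2 x).1

theorem across_cross (a : Σ X : TI (restrict s hfz), ((comp2 s z f) ⧸ X.1) × F) :
    ∃ x ∈ (across hfz a).1, s.B x z = 1 :=
  ⟨_, ⟨(0, 1), rfl⟩, (crossMap_spec hfz a.1.1 a.2.1.out a.2.2 (0, 1)).1⟩

theorem through_injective : Function.Injective (through hfz) := by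
  intro X X' h
  refine Subtype.ext (Submodule.ext fun u => ?_)
  have := congrArg (fun W : TI s => (u : V) ∈ W.1) h
  simpa [mem_through, ((mem_comp2 s z f).1 u.2).1, projU_of_mem] using this

theorem inside_injective : Function.Injective (inside hfz) := by
  intro a b h
  have key : ∀ a b : Σ X : TI (restrict s hfz), X.1 →ₗ[F] F, inside hfz a = inside hfz b →
      ∀ x : a.1.1, ∃ y : b.1.1, y.1 = x.1 ∧ b.2 y = a.2 x := by
    intro a b h x
    have hm : graphMap z f a.1.1 a.2 x ∈ (inside hfz b).1 := h ▸ ⟨x, rfl⟩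
    obtain ⟨y, hy⟩ := hm
    obtain ⟨-, h2, h3⟩ := graphMap_spec hfz a.1.1 a.2 x
    obtain ⟨-, g2, g3⟩ := graphMap_spec hfz b.1.1 b.2 y
    rw [hy] at g2 g3
    exact ⟨y, g2.symm.trans h2, g3.symm.trans h3⟩
  have hX : a.1 = b.1 := Subtype.ext (le_antisymm
    (fun u hu => by obtain ⟨y, hy, -⟩ := key a b h ⟨u, hu⟩; rw [← show y.1 = u from hy]; exact y.2)
    (fun u hu => by obtain ⟨y, hy, -⟩ := key b a h.symm ⟨u, hu⟩; rw [← show y.1 = u from hy]; exact y.2))
  obtain ⟨X, φ⟩ := a
  obtain ⟨X', φ'⟩ := b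
  obtain rfl : X = X' := hX
  congr 1
  refine LinearMap.ext fun x => ?_
  obtain ⟨y, hy, hy'⟩ := key ⟨X, φ⟩ ⟨X, φ'⟩ h x
  rw [← hy', Subtype.ext hy]

theorem across_injective : Function.Injective (across hfz) := by
  intro a b h
  have key : ∀ a b : Σ X : TI (restrict s hfz), ((comp2 s z f) ⧸ X.1) × F, across hfz a = across hfz b →
      a.1.1 ≤ b.1.1 := by
    intro a b h u hu
    have hm : crossMap z f a.1.1 ((a.2.1.out : comp2 s z f) + a.2.2 • z) (⟨u, hu⟩, 0) ∈ (across hfz b).1 :=
      h ▸ ⟨_, rfl⟩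
    obtain ⟨y, hy⟩ := hm
    obtain ⟨h1, h2, -⟩ := crossMap_spec hfz a.1.1 a.2.1.out a.2.2 (⟨u, hu⟩, 0)
    obtain ⟨g1, g2, -⟩ := crossMap_spec hfz b.1.1 b.2.1.out b.2.2 y
    rw [hy] at g1 g2
    have e1 : y.2 = 0 := g1.symm.trans h1
    rw [e1, zero_smul, add_zero, h2, zero_smul, add_zero] at g2
    rw [show u = y.1.1 from g2]
    exact y.1.2
  have hX : a.1 = b.1 := Subtype.ext (le_antisymm (key a b h) (key b a h.symm))
  obtain ⟨X, ū, c⟩ := a
  obtain ⟨X', ū', c'⟩ := b
  obtain rfl : X = X' := hX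
  have hm : crossMap z f X.1 ((ū.out : comp2 s z f) + c • z) (0, 1) ∈ (across hfz ⟨X, ū', c'⟩).1 :=
    h ▸ ⟨_, rfl⟩
  obtain ⟨y, hy⟩ := hm
  obtain ⟨h1, h2, h3⟩ := crossMap_spec hfz X.1 ū.out c (0, 1)
  obtain ⟨g1, g2, g3⟩ := crossMap_spec hfz X.1 ū'.out c' y
  simp only at hy
  rw [hy] at g1 g2 g3
  have e1 : y.2 = 1 := g1.symm.trans h1
  rw [e1, one_smul, h2, one_smul] at g2
  simp only [ZeroMemClass.coe_zero, zero_add] at g2
  have e2 : ū = ū' := by
    rw [← Submodule.Quotient.mk_out ū, ← Submodule.Quotient.mk_out ū', Submodule.Quotient.eq, g2,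
      add_sub_cancel_right]
    exact y.1.2
  subst e2
  have e3 : (y.1.1 : comp2 s z f) = 0 := by simpa using g2
  rw [h3, e1, e3] at g3
  simp only [ZeroMemClass.coe_zero, map_zero, LinearMap.zero_apply, one_mul, zero_add] at g3
  rw [g3]

theorem allTI_bijective : Function.Bijective (allTI hfz) := by
  constructor
  · rintro (a | a | a) (b | b | b) h <;> simp only [allTI, Sum.elim_inl, Sum.elim_inr] at h
    · rw [through_injective hfz h]
    · exact absurd (h ▸ z_mem_through hfz a) (z_not_mem_inside hfz b)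
    · obtain ⟨x, hx, hx'⟩ := across_cross hfz b
      rw [← h] at hx
      exact absurd (hx'.symm.trans ((mem_through hfz).1 hx).1) one_ne_zero
    · exact absurd (h.symm ▸ z_mem_through hfz b) (z_not_mem_inside hfz a)
    · rw [inside_injective hfz h]
    · obtain ⟨x, hx, hx'⟩ := across_cross hfz b
      rw [← h] at hx
      exact absurd (hx'.symm.trans (inside_perp hfz a x hx)) one_ne_zero
    · obtain ⟨x, hx, hx'⟩ := across_cross hfz a
      rw [h] at hx
      exact absurd (hx'.symm.trans ((mem_through hfz).1 hx).1) one_ne_zero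
    · obtain ⟨x, hx, hx'⟩ := across_cross hfz a
      rw [h] at hx
      exact absurd (hx'.symm.trans (inside_perp hfz b x hx)) one_ne_zero
    · rw [across_injective hfz h]
  · rintro ⟨W, hW⟩
    by_cases hperp : ∀ x ∈ W, s.B x z = 0
    · by_cases hz : z ∈ W
      · refine ⟨.inl ⟨W.comap (comp2 s z f).subtype, fun x hx y hy => hW _ hx _ hy⟩,
          Subtype.ext (Submodule.ext fun x => ?_)⟩
        rw [allTI, Sum.elim_inl, mem_through]
        constructor
        · rintro ⟨h1, h2⟩
          rw [zperp_decomp hfz h1]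
          exact W.add_mem h2 (W.smul_mem _ hz)
        · intro hx
          refine ⟨hperp x hx, ?_⟩
          show (projU s hfz x : V) ∈ W
          rw [eq_sub_of_add_eq (zperp_decomp hfz (hperp x hx)).symm]
          exact W.sub_mem hx (W.smul_mem _ hz)
      · let e : W →ₗ[F] comp2 s z f := projU s hfz ∘ₗ W.subtype
        have hinj : Function.Injective e := by
          refine (injective_iff_map_eq_zero e).2 fun x hx => ?_
          have h1 := zperp_decomp hfz (hperp x.1 x.2)
          rw [show projU s hfz x.1 = 0 from hx, ZeroMemClass.coe_zero, zero_add] at h1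
          refine Subtype.ext ?_
          by_contra hne
          have hc : - s.B x.1 f ≠ 0 := fun h => hne (by rw [h1, h, zero_smul]; rfl)
          refine hz ?_
          rw [show z = (- s.B x.1 f)⁻¹ • x.1 from (eq_inv_smul_iff₀ hc).2 h1.symm]
          exact W.smul_mem _ x.2
        refine ⟨.inr (.inl ⟨⟨LinearMap.range e, ?_⟩,
          (-(s.B.flip f)) ∘ₗ W.subtype ∘ₗ (LinearEquiv.ofInjective e hinj).symm.toLinearMap⟩), ?_⟩
        · rintro _ ⟨x, rfl⟩ _ ⟨y, rfl⟩
          rw [restrict_B]
          have h := hW x.1 x.2 y.1 y.2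
          have h2 := B_decomp s hfz (projU s hfz x.1) (projU s hfz y.1) 0 (- s.B x.1 f) 0 (- s.B y.1 f)
          simp only [zero_smul, add_zero, zero_mul, mul_zero, sub_zero] at h2
          rw [← zperp_decomp hfz (hperp x.1 x.2), ← zperp_decomp hfz (hperp y.1 y.2), h] at h2
          exact h2.symm
        · have hg : ∀ x : W, graphMap z f (LinearMap.range e)
              ((-(s.B.flip f)) ∘ₗ W.subtype ∘ₗ (LinearEquiv.ofInjective e hinj).symm.toLinearMap)
              (LinearEquiv.ofInjective e hinj x) = x.1 := by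
            intro x
            conv_rhs => rw [zperp_decomp hfz (hperp x.1 x.2)]
            simp [graphMap, e]
          refine Subtype.ext (le_antisymm ?_ fun x hx => ⟨_, hg ⟨x, hx⟩⟩)
          rintro _ ⟨y, rfl⟩
          obtain ⟨x, rfl⟩ := (LinearEquiv.ofInjective e hinj).surjective y
          change graphMap z f (LinearMap.range e) _ _ ∈ W
          rw [hg]
          exact x.2
    · simp only [not_forall] at hperp
      obtain ⟨y₀, hy₀, hne⟩ := hperp
      obtain ⟨y₁, hy₁, hy₁z⟩ : ∃ y ∈ W, s.B y z = 1 :=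
        ⟨(s.B y₀ z)⁻¹ • y₀, W.smul_mem _ hy₀, by simp [inv_mul_cancel₀ hne]⟩
      let X : Submodule F (comp2 s z f) := (W ⊓ LinearMap.ker (s.B.flip z)).map (projU s hfz)
      have hX : IsTI (restrict s hfz) X := by
        rintro _ ⟨x, hx, rfl⟩ _ ⟨y, hy, rfl⟩
        rw [restrict_B]
        have h2 := B_decomp s hfz (projU s hfz x) (projU s hfz y) 0 (- s.B x f) 0 (- s.B y f)
        simp only [zero_smul, add_zero, zero_mul, mul_zero, sub_zero] at h2
        rw [← zperp_decomp hfz hx.2, ← zperp_decomp hfz hy.2, hW x hx.1 y hy.1] at h2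
        exact h2.symm
      set ū : (comp2 s z f) ⧸ X := Submodule.Quotient.mk (projU s hfz y₁) with hū
      obtain ⟨d, hd, hd'⟩ : ∃ d ∈ W ⊓ LinearMap.ker (s.B.flip z), projU s hfz d = ū.out - projU s hfz y₁ := by
        have : ū.out - projU s hfz y₁ ∈ X := by
          rw [← Submodule.Quotient.eq, Submodule.Quotient.mk_out]
        exact this
      set y := y₁ + d with hy
      have hyW : y ∈ W := W.add_mem hy₁ hd.1
      have hdz : s.B d z = 0 := hd.2
      have hyz : s.B y z = 1 := by simp [hy, hy₁z, hdz]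
      have hyu : projU s hfz y = ū.out := by rw [hy, map_add, hd']; abel
      refine ⟨.inr (.inr ⟨⟨X, hX⟩, ū, - s.B y f⟩), Subtype.ext ?_⟩
      have hyd : y = (ū.out : V) + f + (- s.B y f) • z := by
        rw [← hyu]
        conv_lhs => rw [← decomp s z f y, hyz, one_smul, ← projU_coe s hfz, sub_eq_add_neg, ← neg_smul]
      have hgen : ∀ v ∈ W, v ∈ LinearMap.range (crossMap z f X ((ū.out : V) + (- s.B y f) • z)) := by
        intro v hv
        have hv' : v - s.B v z • y ∈ W ⊓ LinearMap.ker (s.B.flip z) :=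
          ⟨W.sub_mem hv (W.smul_mem _ hyW), by simp [hyz]⟩
        refine ⟨(⟨projU s hfz (v - s.B v z • y), _, hv', rfl⟩, s.B v z), ?_⟩
        obtain ⟨h1, h2, h3⟩ := crossMap_spec hfz X ū.out (- s.B y f)
          (⟨projU s hfz (v - s.B v z • y), _, hv', rfl⟩, s.B v z)
        simp only at h1 h2 h3
        set c := crossMap z f X ((ū.out : V) + (- s.B y f) • z)
          (⟨projU s hfz (v - s.B v z • y), _, hv', rfl⟩, s.B v z)
        have horth : s.B (v - s.B v z • y) y = 0 := hW _ hv'.1 _ hyW
        set v' := v - s.B v z • y with hv'def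
        have e1 : s.B (projU s hfz v' : V) (ū.out : V) = - s.B v' f := by
          have h4 := B_decomp s hfz (projU s hfz v') ū.out 0 (- s.B v' f) 1 (- s.B y f)
          simp only [zero_smul, add_zero, zero_mul, one_smul, mul_one] at h4
          rw [← zperp_decomp hfz hv'.2, ← hyd, horth] at h4
          exact (sub_eq_zero.1 h4.symm)
        have h5 : s.B c f = s.B v f := by
          rw [e1, hv'def] at h3
          simp only [map_sub, map_smul, LinearMap.sub_apply, LinearMap.smul_apply, smul_eq_mul] at h3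
          linear_combination -h3
        have h6 : projU s hfz c = projU s hfz v := by
          rw [h2, hv'def, map_sub, map_smul, hyu]; abel
        rw [← decomp s z f c, ← decomp s z f v, h1, h5, ← projU_coe s hfz, ← projU_coe s hfz, h6]
      change LinearMap.range (crossMap z f X ((ū.out : V) + (- s.B y f) • z)) = W
      refine le_antisymm ?_ hgen
      rintro _ ⟨⟨⟨u, hu⟩, a⟩, rfl⟩
      obtain ⟨x, hx, rfl⟩ := hu
      obtain ⟨⟨⟨u', hu'⟩, a'⟩, he⟩ := hgen (x + a • y) (W.add_mem hx.1 (W.smul_mem _ hyW))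
      obtain ⟨h1, h2, -⟩ := crossMap_spec hfz X ū.out (- s.B y f) (⟨u', hu'⟩, a')
      rw [he] at h1 h2
      simp only at h1 h2
      have hxz : s.B x z = 0 := hx.2
      have ea : a' = a := by rw [← h1]; simp [hxz, hyz]
      subst ea
      rw [map_add, map_smul, hyu] at h2
      have eu : u' = projU s hfz x := (add_right_cancel h2).symm
      subst eu
      rw [he]
      exact W.add_mem hx.1 (W.smul_mem _ hyW)

theorem finrank_through (X : TI (restrict s hfz)) :
    finrank F (through hfz X).1 = finrank F X.1 + 1 := by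
  let e : (through hfz X).1 ≃ₗ[F] X.1 × F :=
    { toFun := fun x => (⟨projU s hfz x.1, ((mem_through hfz).1 x.2).2⟩, - s.B x.1 f)
      map_add' := fun x y => Prod.ext (Subtype.ext (by simp)) (by simp [add_comm])
      map_smul' := fun c x => Prod.ext (Subtype.ext (by simp)) (by simp)
      invFun := fun a => ⟨(a.1.1 : V) + a.2 • z, (mem_through hfz).2
        ⟨by simp [((mem_comp2 s z f).1 a.1.1.2).1, s.alt], by simp [projU_z, projU_of_mem]⟩⟩
      left_inv := fun x => Subtype.ext (zperp_decomp hfz ((mem_through hfz).1 x.2).1).symm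
      right_inv := fun a => Prod.ext (Subtype.ext (by simp [projU_z, projU_of_mem]))
        (by simp [((mem_comp2 s z f).1 a.1.1.2).2, B_zf s hfz]) }
  rw [e.finrank_eq, finrank_prod, finrank_self]

theorem finrank_inside (a : Σ X : TI (restrict s hfz), X.1 →ₗ[F] F) :
    finrank F (inside hfz a).1 = finrank F a.1.1 := by
  refine LinearMap.finrank_range_of_inj fun x y h => Subtype.ext ?_
  rw [← (graphMap_spec hfz a.1.1 a.2 x).2.1, h, (graphMap_spec hfz a.1.1 a.2 y).2.1]

theorem finrank_across (a : Σ X : TI (restrict s hfz), ((comp2 s z f) ⧸ X.1) × F) :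
    finrank F (across hfz a).1 = finrank F a.1.1 + 1 := by
  rw [across, LinearMap.finrank_range_of_inj (crossMap_injective hfz a.1.1 a.2.1.out a.2.2), finrank_prod,
    finrank_self]

/-- The three-part splitting of a sum over totally isotropic subspaces. -/
theorem sum_split [Fintype (TI s)] [Fintype (TI (restrict s hfz))]
    [∀ X : TI (restrict s hfz), Fintype (X.1 →ₗ[F] F)]
    [∀ X : TI (restrict s hfz), Fintype (((comp2 s z f) ⧸ X.1) × F)] {M : Type*} [AddCommMonoid M] (ψ : TI s → M) :
    ∑ W, ψ W = ∑ X : TI (restrict s hfz), (ψ (through hfz X) + ∑ φ : X.1 →ₗ[F] F, ψ (inside hfz ⟨X, φ⟩) +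
      ∑ c : ((comp2 s z f) ⧸ X.1) × F, ψ (across hfz ⟨X, c⟩)) := by
  rw [← Fintype.sum_bijective _ (allTI_bijective hfz) (fun a => ψ (allTI hfz a)) ψ (fun _ => rfl)]
  simp only [Fintype.sum_sum_type, Fintype.sum_sigma, Finset.sum_add_distrib, allTI, Sum.elim_inl, Sum.elim_inr,
    add_assoc]

end Sum

section Count

variable [Fintype F]

/-- The Möbius weight. -/
def mu (q : ℕ) : ℕ → ℤ
  | 0 => 1
  | k + 1 => -(q : ℤ) ^ k * mu q k

/-- The expected exponent. -/
def expo : ℕ → ℕ → ℕ
  | m, 0 => 2 * m ^ 2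
  | 0, _ + 1 => 0
  | m + 1, k + 1 => 2 * (m + 1) - (k + 1) + expo m k

theorem mu_expo (q : ℕ) : ∀ m k : ℕ, k ≤ m →
    mu q k * (q : ℤ) ^ expo m k = (-1) ^ k * (q : ℤ) ^ ((m - k) ^ 2 + m ^ 2)
  | m, 0, _ => by simp [mu, expo, two_mul]
  | 0, k + 1, h => absurd h (by omega)
  | m + 1, k + 1, h => by
    have ih := mu_expo q m k (by omega)
    have e : k + (2 * (m + 1) - (k + 1)) + ((m - k) ^ 2 + m ^ 2) = (m + 1 - (k + 1)) ^ 2 + (m + 1) ^ 2 := by
      rw [Nat.add_sub_add_right, show k + (2 * (m + 1) - (k + 1)) = 2 * m + 1 by omega]; ring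
    calc mu q (k + 1) * (q : ℤ) ^ expo (m + 1) (k + 1)
        = -((q : ℤ) ^ (k + (2 * (m + 1) - (k + 1))) * (mu q k * (q : ℤ) ^ expo m k)) := by
          rw [mu, expo, pow_add, pow_add]; ring
      _ = (-1) ^ (k + 1) * (q : ℤ) ^ ((m + 1 - (k + 1)) ^ 2 + (m + 1) ^ 2) := by
          rw [ih, ← e, pow_add _ (k + (2 * (m + 1) - (k + 1)))]; ring

theorem card_dual {W : Type*} [AddCommGroup W] [Module F W] [Finite W] :
    Nat.card (W →ₗ[F] F) = Fintype.card F ^ finrank F W := by
  rw [Module.natCard_eq_pow_finrank (K := F), Subspace.dual_finrank_eq, Nat.card_eq_fintype_card]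

theorem card_quot {W : Type*} [AddCommGroup W] [Module F W] [Finite W] (X : Submodule F W) :
    Nat.card ((W ⧸ X) × F) = Fintype.card F ^ (finrank F W - finrank F X + 1) := by
  rw [Nat.card_prod, Module.natCard_eq_pow_finrank (K := F), Submodule.finrank_quotient, pow_succ,
    Nat.card_eq_fintype_card]

theorem exists_hyperbolic {z : V} (hz : z ≠ 0) : ∃ f, s.B f z = 1 := by
  by_contra hc
  refine hz (s.nondeg z fun y => ?_)
  by_contra hy
  refine hc ⟨(s.B y z)⁻¹ • y, ?_⟩
  have : s.B y z ≠ 0 := fun h => hy (by rw [B_swap s y z, h, neg_zero])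
  simp [inv_mul_cancel₀ this]

/-- Sum of weights by dimension, over all totally isotropic subspaces. -/
theorem sum_dim_split [Fintype (TI s)] {z f : V} (hfz : s.B f z = 1) [Fintype (TI (restrict s hfz))] {m : ℕ}
    (hd : finrank F V = 2 * (m + 1)) (φ : ℕ → ℤ) :
    ∑ W : TI s, φ (finrank F W.1) = ∑ X : TI (restrict s hfz),
      (φ (finrank F X.1 + 1) + (Fintype.card F : ℤ) ^ finrank F X.1 * φ (finrank F X.1) +
        (Fintype.card F : ℤ) ^ (2 * m - finrank F X.1 + 1) * φ (finrank F X.1 + 1)) := by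
  classical
  have := Fintype.ofFinite V
  let _ : ∀ X : TI (restrict s hfz), Fintype (X.1 →ₗ[F] F) := fun X =>
    have : Finite (X.1 →ₗ[F] F) := Finite.of_injective (fun φ => (φ : X.1 → F)) DFunLike.coe_injective
    Fintype.ofFinite _
  let _ : ∀ X : TI (restrict s hfz), Fintype (((comp2 s z f) ⧸ X.1) × F) := fun X => Fintype.ofFinite _
  rw [sum_split hfz]
  refine Finset.sum_congr rfl fun X _ => ?_
  rw [finrank_through]
  have e1 : ∀ c, finrank F (inside hfz ⟨X, c⟩).1 = finrank F X.1 := fun c => finrank_inside hfz ⟨X, c⟩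
  have e2 : ∀ c, finrank F (across hfz ⟨X, c⟩).1 = finrank F X.1 + 1 := fun c => finrank_across hfz ⟨X, c⟩
  simp only [e1, e2, Finset.sum_const, nsmul_eq_mul, Finset.card_univ,
    ← Nat.card_eq_fintype_card (α := X.1 →ₗ[F] F), ← Nat.card_eq_fintype_card (α := ((comp2 s z f) ⧸ X.1) × F)]
  rw [card_dual, card_quot, finrank_comp2 s hfz hd]
  push_cast
  ring

/-- The alternating sum with square exponents. -/
theorem sum_square : ∀ (m : ℕ) (V : Type u) [AddCommGroup V] [Module F V] [Finite V] (s : SpSpace F V)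
    [Fintype (TI s)], finrank F V = 2 * m →
    ∑ W : TI s, (-1 : ℤ) ^ finrank F W.1 * (Fintype.card F : ℤ) ^ ((m - finrank F W.1) ^ 2) = (-1) ^ m := by
  intro m
  induction m with
  | zero =>
    intro V _ _ _ s _ hd
    have : Subsingleton V := by
      rw [← finrank_zero_iff (R := F)]; omega
    have h0 : ∀ W : TI s, W = ⟨⊥, fun x hx y hy => by simp_all⟩ := fun W =>
      Subtype.ext (Subsingleton.elim _ _)
    rw [Fintype.sum_eq_single ⟨⊥, fun x hx y hy => by simp_all⟩ (fun W hW => absurd (h0 W) hW)]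
    simp
  | succ m ih =>
    intro V _ _ _ s _ hd
    have : Nontrivial V := by
      rw [← finrank_pos_iff (R := F)]; omega
    obtain ⟨z, hz⟩ := exists_ne (0 : V)
    obtain ⟨f, hfz⟩ := exists_hyperbolic (s := s) hz
    let _ : Fintype (TI (restrict s hfz)) := Fintype.ofFinite _
    rw [sum_dim_split hfz hd (fun k => (-1 : ℤ) ^ k * (Fintype.card F : ℤ) ^ ((m + 1 - k) ^ 2)),
      pow_succ (-1 : ℤ) m, ← ih _ (restrict s hfz) (finrank_comp2 s hfz hd), Finset.sum_mul]
    refine Finset.sum_congr rfl fun X _ => ?_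
    have hk := finrank_ti_le (finrank_comp2 s hfz hd) X.2
    obtain ⟨d, rfl⟩ : ∃ d, m = finrank F X.1 + d := ⟨m - finrank F X.1, by omega⟩
    generalize finrank F X.1 = k
    rw [show k + d + 1 - (k + 1) = d by omega, show k + d + 1 - k = d + 1 by omega,
      show k + d - k = d by omega, show 2 * (k + d) - k + 1 = k + (2 * d + 1) by omega,
      show (d + 1) ^ 2 = d ^ 2 + (2 * d + 1) by ring, pow_add, pow_add]
    ring

/-- The total weight of the poset. -/
theorem sum_mu : ∀ (m : ℕ) (V : Type u) [AddCommGroup V] [Module F V] [Finite V] (s : SpSpace F V)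
    [Fintype (TI s)], finrank F V = 2 * m →
    ∑ W : TI s, mu (Fintype.card F) (finrank F W.1) = (-1) ^ m * (Fintype.card F : ℤ) ^ (m ^ 2) := by
  intro m
  induction m with
  | zero =>
    intro V _ _ _ s _ hd
    have : Subsingleton V := by
      rw [← finrank_zero_iff (R := F)]; omega
    have h0 : ∀ W : TI s, W = ⟨⊥, fun x hx y hy => by simp_all⟩ := fun W =>
      Subtype.ext (Subsingleton.elim _ _)
    rw [Fintype.sum_eq_single ⟨⊥, fun x hx y hy => by simp_all⟩ (fun W hW => absurd (h0 W) hW)]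
    simp [mu]
  | succ m ih =>
    intro V _ _ _ s _ hd
    have : Nontrivial V := by
      rw [← finrank_pos_iff (R := F)]; omega
    obtain ⟨z, hz⟩ := exists_ne (0 : V)
    obtain ⟨f, hfz⟩ := exists_hyperbolic (s := s) hz
    let _ : Fintype (TI (restrict s hfz)) := Fintype.ofFinite _
    rw [sum_dim_split hfz hd, show (-1 : ℤ) ^ (m + 1) * (Fintype.card F : ℤ) ^ (m + 1) ^ 2 =
      ((-1) ^ m * (Fintype.card F : ℤ) ^ m ^ 2) * (-(Fintype.card F : ℤ) ^ (2 * m + 1)) by ring,
      ← ih _ (restrict s hfz) (finrank_comp2 s hfz hd), Finset.sum_mul]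
    refine Finset.sum_congr rfl fun X _ => ?_
    have hk := finrank_ti_le (finrank_comp2 s hfz hd) X.2
    rw [show 2 * m + 1 = (2 * m - finrank F X.1 + 1) + finrank F X.1 by omega, pow_add _ (2 * m - finrank F X.1 + 1), mu]
    ring

/-- The weight vanishes on the fixed space of a non-trivial unipotent element. -/
theorem sum_mu_below [Fintype (TI s)] (Φ : Submodule F V) [DecidablePred fun W : TI s => W.1 ≤ Φ] {z : V}
    (hz : z ≠ 0) (hzΦ : z ∈ Φ) (hΦ : ∀ x ∈ Φ, s.B x z = 0) :
    ∑ W : TI s, (if W.1 ≤ Φ then mu (Fintype.card F) (finrank F W.1) else 0) = 0 := by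
  classical
  have := Fintype.ofFinite V
  obtain ⟨f, hfz⟩ := exists_hyperbolic (s := s) hz
  let _ : Fintype (TI (restrict s hfz)) := Fintype.ofFinite _
  let _ : ∀ X : TI (restrict s hfz), Fintype (X.1 →ₗ[F] F) := fun X =>
    have : Finite (X.1 →ₗ[F] F) := Finite.of_injective (fun φ => (φ : X.1 → F)) DFunLike.coe_injective
    Fintype.ofFinite _
  let _ : ∀ X : TI (restrict s hfz), Fintype (((comp2 s z f) ⧸ X.1) × F) := fun X => Fintype.ofFinite _
  rw [sum_split hfz]
  refine Finset.sum_eq_zero fun X _ => ?_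
  have hout : ∀ c, ¬ (across hfz ⟨X, c⟩).1 ≤ Φ := fun c h => by
    obtain ⟨x, hx, hx'⟩ := across_cross hfz ⟨X, c⟩
    exact one_ne_zero (hx'.symm.trans (hΦ x (h hx)))
  have hiff : ∀ φ, (inside hfz ⟨X, φ⟩).1 ≤ Φ ↔ (through hfz X).1 ≤ Φ := by
    intro φ
    constructor
    · intro h x hx
      obtain ⟨h1, h2⟩ := (mem_through hfz).1 hx
      rw [zperp_decomp hfz h1]
      have h3 : graphMap z f X.1 φ ⟨_, h2⟩ ∈ Φ := h ⟨_, rfl⟩
      have h4 : (projU s hfz x : V) + φ ⟨_, h2⟩ • z ∈ Φ := by simpa [graphMap] using h3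
      have h5 : (projU s hfz x : V) ∈ Φ := by
        simpa using Φ.sub_mem h4 (Φ.smul_mem (φ ⟨_, h2⟩) hzΦ)
      exact Φ.add_mem h5 (Φ.smul_mem _ hzΦ)
    · rintro h _ ⟨x, rfl⟩
      obtain ⟨h1, h2, -⟩ := graphMap_spec hfz X.1 φ x
      exact h ((mem_through hfz).2 ⟨h1, h2 ▸ x.2⟩)
  have e1 : ∀ c, finrank F (inside hfz ⟨X, c⟩).1 = finrank F X.1 := fun c => finrank_inside hfz ⟨X, c⟩
  simp only [hout, hiff, if_false, Finset.sum_const_zero, add_zero, finrank_through, e1]
  split_ifs
  · rw [Finset.sum_const, Finset.card_univ, ← Nat.card_eq_fintype_card (α := X.1 →ₗ[F] F), card_dual,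
      nsmul_eq_mul, mu]
    push_cast
    ring
  · simp

variable (p : ℕ) [Fact p.Prime] [CharP F p]

theorem exists_fixed_perp {g : iso s} (hg : IsUnip p g) (hne : g ≠ 1) :
    ∃ z : V, z ≠ 0 ∧ g.1 z = z ∧ ∀ x : V, g.1 x = x → s.B x z = 0 := by
  obtain ⟨k, hk⟩ := hg
  have : Nontrivial V := by
    by_contra h
    rw [not_nontrivial_iff_subsingleton] at h
    exact hne (iso_ext fun x => Subsingleton.elim _ _)
  have : CharP (Module.End F V) p := charP_of_injective_algebraMap (algebraMap F (Module.End F V)).injective p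
  set φ : iso s →* Module.End F V :=
    (LinearEquiv.automorphismGroup.toLinearMapMonoidHom).comp (iso s).subtype with hφ
  set N : Module.End F V := φ g - 1 with hN
  have hnil : N ^ p ^ k = 0 := by
    rw [hN, sub_pow_char_pow_of_commute _ _ (Commute.one_right (φ g)), one_pow, ← map_pow, hk, map_one, sub_self]
  have happ : ∀ x, N x = g.1 x - x := fun x => rfl
  have key : ∀ (n : ℕ) (v : V), (N ^ n) (N v) = 0 → N v ≠ 0 →
      ∃ y, N y ≠ 0 ∧ N (N y) = 0 := by
    intro n
    induction n with
    | zero => intro v h1 h2; exact absurd (by simpa using h1) h2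
    | succ n ihn =>
      intro v h1 h2
      by_cases h3 : N (N v) = 0
      · exact ⟨v, h2, h3⟩
      · refine ihn (N v) ?_ h3
        rwa [pow_succ, Module.End.mul_apply] at h1
  obtain ⟨v, hv⟩ : ∃ v, N v ≠ 0 := by
    by_contra h
    simp only [not_exists, not_not] at h
    exact hne (iso_ext fun x => sub_eq_zero.1 ((happ x).symm.trans (h x)))
  obtain ⟨y, hy1, hy2⟩ := key (p ^ k) v (by rw [hnil]; rfl) hv
  refine ⟨N y, hy1, sub_eq_zero.1 ((happ _).symm.trans hy2), fun x hx => ?_⟩
  rw [happ, map_sub]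
  nth_rw 1 [← hx]
  rw [g.2, sub_self]

theorem natCard_unip_fixer : ∀ (m : ℕ) (V : Type u) [AddCommGroup V] [Module F V] [Finite V]
    (s : SpSpace F V), finrank F V = 2 * m → ∀ W : TI s,
    Nat.card (Fixer s p W.1) = Fintype.card F ^ expo m (finrank F W.1) := by
  intro m
  induction m using Nat.strong_induction_on with
  | _ m ih =>
  intro V _ _ _ s hd
  classical
  have hstep : ∀ W : TI s, W.1 ≠ ⊥ →
      Nat.card (Fixer s p W.1) = Fintype.card F ^ expo m (finrank F W.1) := by
    intro W hW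
    obtain ⟨z, hzW, hz⟩ := (Submodule.ne_bot_iff _).1 hW
    obtain ⟨f, hfz⟩ := exists_hyperbolic (s := s) hz
    obtain ⟨m', rfl⟩ : ∃ m', m = m' + 1 := by
      refine ⟨m - 1, ?_⟩
      have : Nontrivial V := ⟨⟨z, 0, hz⟩⟩
      have := finrank_pos (R := F) (M := V)
      omega
    let X : TI (restrict s hfz) := ⟨W.1.comap (comp2 s z f).subtype, fun x hx y hy => W.2 _ hx _ hy⟩
    have hX : W = through hfz X := by
      refine Subtype.ext (Submodule.ext fun x => ?_)
      rw [mem_through]
      constructor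
      · intro hx
        refine ⟨W.2 x hx z hzW, ?_⟩
        show (projU s hfz x : V) ∈ W.1
        rw [eq_sub_of_add_eq (zperp_decomp hfz (W.2 x hx z hzW)).symm]
        exact W.1.sub_mem hx (W.1.smul_mem _ hzW)
      · rintro ⟨h1, h2⟩
        rw [zperp_decomp hfz h1]
        exact W.1.add_mem h2 (W.1.smul_mem _ hzW)
    rw [card_fixer_step p W.2 hzW hfz, ih m' (by omega) _ (restrict s hfz) (finrank_comp2 s hfz hd) X,
      card_submodule, finrank_orth, hd]
    nth_rw 1 2 [show finrank F W.1 = finrank F X.1 + 1 by rw [hX]; exact finrank_through hfz X]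
    rw [expo, pow_add]
  intro W
  by_cases hW : W.1 ≠ ⊥
  · exact hstep W hW
  rw [not_not] at hW
  -- the count of all unipotent elements
  let _ : Fintype (TI s) := Fintype.ofFinite _
  let _ : Fintype (iso s) := Fintype.ofFinite _
  let un : Finset (iso s) := Finset.univ.filter fun g => IsUnip p g
  set μ' := fun W : TI s => mu (Fintype.card F) (finrank F W.1) with hμ
  have hfix : ∀ W : TI s, (Nat.card (Fixer s p W.1) : ℤ) =
      ∑ g ∈ un, if W.1 ≤ LinearMap.eqLocus g.1.toLinearMap LinearMap.id then 1 else 0 := by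
    intro W
    rw [Finset.sum_boole, Nat.card_eq_fintype_card, Fintype.card_subtype, Finset.filter_filter]
    congr 2
  have hone : (1 : iso s) ∈ un := by simp [un]; exact ⟨0, by simp⟩
  have hvan : ∀ g ∈ un, g ≠ 1 →
      ∑ W : TI s, (if W.1 ≤ LinearMap.eqLocus g.1.toLinearMap LinearMap.id then μ' W else 0) = 0 := by
    intro g hg hne
    obtain ⟨z, hz, hgz, hperp⟩ := exists_fixed_perp p (by simpa [un] using hg) hne
    exact sum_mu_below _ hz hgz hperp
  have hid : ∑ W : TI s, μ' W * (Nat.card (Fixer s p W.1) : ℤ) = ∑ W : TI s, μ' W := by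
    simp only [hfix, Finset.mul_sum, mul_ite, mul_one, mul_zero]
    rw [Finset.sum_comm, Finset.sum_eq_single_of_mem 1 hone hvan]
    exact Finset.sum_congr rfl fun W _ => if_pos fun x _ => rfl
  have htarget : ∑ W : TI s, μ' W * (Fintype.card F : ℤ) ^ expo m (finrank F W.1) = ∑ W : TI s, μ' W := by
    rw [hμ, sum_mu m V s hd, ← sum_square m V s hd, Finset.sum_mul]
    refine Finset.sum_congr rfl fun W _ => ?_
    rw [mu_expo _ m _ (finrank_ti_le hd W.2), pow_add]
    ring
  have hsub : ∑ W' : TI s,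
      μ' W' * ((Nat.card (Fixer s p W'.1) : ℤ) - (Fintype.card F : ℤ) ^ expo m (finrank F W'.1)) = 0 := by
    simp only [mul_sub, Finset.sum_sub_distrib, hid, htarget, sub_self]
  rw [Finset.sum_eq_single_of_mem W (Finset.mem_univ W) (fun W' _ hne => by
    rw [hstep W' (fun h => hne (Subtype.ext (h.trans hW.symm)))]; simp)] at hsub
  have hμ0 : μ' W = 1 := by
    simp only [hμ]
    rw [hW, finrank_bot]
    rfl
  rw [hμ0, one_mul, sub_eq_zero] at hsub
  exact_mod_cast hsub

/-- Steinberg's count. -/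
theorem natCard_unipotent (m : ℕ) {V : Type u} [AddCommGroup V] [Module F V] [Finite V] (s : SpSpace F V)
    (hd : finrank F V = 2 * m) :
    Nat.card {g : iso s // IsUnip p g} = Fintype.card F ^ (2 * m ^ 2) := by
  have h := natCard_unip_fixer p m V s hd ⟨⊥, fun x hx y _ => by simp_all⟩
  rw [finrank_bot, show expo m 0 = 2 * m ^ 2 by cases m <;> rfl] at h
  rw [← h]
  exact Nat.card_congr (Equiv.subtypeEquivRight fun g => by simp)

end Count

end Cfsg.Agent.H46.SpUnip
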