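import Cfsg.Agent.H46.TI

/-!
A conjugation-invariant TI family of non elementary abelian subgroups of a 2-group commutes pairwise.
-/

namespace Cfsg.Agent.H46

open Subgroup
open scoped Pointwise

variable {G : Type*} [Group G]

theorem conj_conj_map (A : Subgroup G) (g h : G) :
    (A.map (MulAut.conj h).toMonoidHom).map (MulAut.conj g).toMonoidHom =
      A.map (MulAut.conj (g * h)).toMonoidHom := by
  rw [Subgroup.map_map, map_mul]
  rfl

theorem conj_one_map (A : Subgroup G) : A.map (MulAut.conj (1 : G)).toMonoidHom = A := by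
  ext x
  rw [mem_conj_iff, inv_one, one_mul, mul_one]

variable [Finite G]

/-- The subgroup generated by the `H`-conjugates of `R`, for `R < H` a `2`-group, is proper in `H`. -/
theorem exists_lt_conj_le {p : ℕ} [Fact p.Prime] {R H : Subgroup G} (hH : IsPGroup p ↥H) (hRH : R < H) :
    ∃ M : Subgroup G, M < H ∧ ∀ h ∈ H, R.map (MulAut.conj h).toMonoidHom ≤ M := by
  have hne : R.subgroupOf H ≠ ⊤ := fun h => not_le_of_gt hRH (Subgroup.subgroupOf_eq_top.mp h)
  obtain h | ⟨M, hM, hRM⟩ := eq_top_or_exists_le_coatom (R.subgroupOf H)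
  · exact absurd h hne
  haveI := PGroups.normal_of_isCoatom hH hM
  refine ⟨M.map H.subtype, ?_, fun h hh => ?_⟩
  · refine lt_of_le_of_ne (Subgroup.map_subtype_le M) fun e => hM.1 ?_
    apply Subgroup.map_injective H.subtype_injective
    rw [e, ← MonoidHom.range_eq_map, Subgroup.range_subtype]
  · rintro x ⟨r, hr, rfl⟩
    refine ⟨⟨h, hh⟩ * ⟨r, hRH.le hr⟩ * ⟨h, hh⟩⁻¹, ?_, rfl⟩
    exact ‹M.Normal›.conj_mem _ (hRM (Subgroup.mem_subgroupOf.mpr hr)) _

theorem ti_family_commute {S : Type*} [Group S] [Finite S] (hS : IsPGroup 2 S)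
    (Δ : Set (Subgroup S)) (hinv : ∀ s : S, ∀ R ∈ Δ, R.map (MulAut.conj s).toMonoidHom ∈ Δ)
    (hsq : ∀ R ∈ Δ, ∃ r ∈ R, r ^ 2 ≠ 1) (hord : ∀ R ∈ Δ, ∀ T ∈ Δ, Nat.card ↥R = Nat.card ↥T)
    (hti : ∀ R ∈ Δ, ∀ T ∈ Δ, R = T ∨ R ⊓ T = ⊥) (H : Subgroup S) :
    ∀ R ∈ Δ, ∀ T ∈ Δ, R ≤ H → T ≤ H → R ≠ T → ∀ a ∈ R, ∀ b ∈ T, a * b = b * a := by
  induction H using WellFoundedLT.induction with
  | _ H ih =>
  intro R hR T hT hRH hTH hne
  -- the case where one normalises the other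
  have hlem : ∀ A ∈ Δ, ∀ B ∈ Δ, A ≠ B → B ≤ normalizer (A : Set S) →
      ∀ a ∈ A, ∀ b ∈ B, a * b = b * a := fun A hA B hB hAB hN =>
    ti_commute 2 A B (hS.to_subgroup A) (hS.to_subgroup B) (fun g => hti _ (hinv g B hB) B hB)
      (hord A hA B hB).le ((hti A hA B hB).resolve_left hAB) hN
  rcases (sup_le hRH hTH).lt_or_eq with hlt | heq
  · exact ih _ hlt R hR T hT le_sup_left le_sup_right hne
  have htiR : ∀ A ∈ Δ, ∀ g : S, A.map (MulAut.conj g).toMonoidHom = A ∨
      A.map (MulAut.conj g).toMonoidHom ⊓ A = ⊥ := fun A hA g => hti _ (hinv g A hA) A hA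
  -- if a nontrivial element of `T` centralises `R`, then `R` normalises `T`
  have hcent : ∀ A ∈ Δ, ∀ B ∈ Δ, A ≠ B → ∀ b ∈ B, b ≠ 1 → (∀ a ∈ A, a * b = b * a) →
      ∀ a ∈ A, ∀ c ∈ B, a * c = c * a := by
    intro A hA B hB hAB b hb hb1 hc a ha c hcB
    refine (hlem B hB A hA (Ne.symm hAB) (fun x hx => ?_) c hcB a ha).symm
    exact mem_normalizer_of_commute (htiR B hB) hb hb1 (hc x hx)
  have hRlt : R < H := lt_of_le_of_ne hRH fun e =>
    have hTR : T ≤ R := e ▸ hTH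
    hne (Subgroup.eq_of_le_of_card_ge hTR (hord R hR T hT).le).symm
  have hTlt : T < H := lt_of_le_of_ne hTH fun e =>
    have hRT : R ≤ T := e ▸ hRH
    hne (Subgroup.eq_of_le_of_card_ge hRT (hord R hR T hT).ge)
  -- the subgroup generated by the conjugates of a member of Δ under H
  let W : Subgroup S → Subgroup S := fun A => ⨆ h : ↥H, A.map (MulAut.conj (h : S)).toMonoidHom
  have hself : ∀ A : Subgroup S, A ≤ W A := fun A =>
    le_trans (conj_one_map A).ge (le_iSup (fun h : ↥H => A.map (MulAut.conj (h : S)).toMonoidHom) 1)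
  have hcomm : ∀ A ∈ Δ, A < H → ∀ g ∈ H, ∀ h ∈ H,
      A.map (MulAut.conj g).toMonoidHom ≠ A.map (MulAut.conj h).toMonoidHom →
      ∀ a ∈ A.map (MulAut.conj g).toMonoidHom, ∀ b ∈ A.map (MulAut.conj h).toMonoidHom,
        a * b = b * a := by
    intro A hA hAH g hg h hh hne'
    obtain ⟨M, hM, hMc⟩ := exists_lt_conj_le (hS.to_subgroup H) hAH
    exact ih M hM _ (hinv g A hA) _ (hinv h A hA) (hMc g hg) (hMc h hh) hne'
  have hWN : ∀ A ∈ Δ, A < H → W A ≤ normalizer (A : Set S) := by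
    intro A hA hAH
    refine iSup_le fun h => ?_
    by_cases he : A.map (MulAut.conj (h : S)).toMonoidHom = A
    · rw [he]; exact Subgroup.le_normalizer
    intro x hx
    refine Subgroup.centralizer_le_normalizer _ (Subgroup.mem_centralizer_iff.mpr fun a ha => ?_)
    exact hcomm A hA hAH 1 (one_mem H) h h.2 (by rw [conj_one_map]; exact Ne.symm he) a
      (by rw [conj_one_map]; exact ha) x hx
  have hWH : ∀ A : Subgroup S, H ≤ normalizer ((W A : Subgroup S) : Set S) := by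
    intro A
    have hle : ∀ g : ↥H, (W A).map (MulAut.conj (g : S)).toMonoidHom ≤ W A := by
      intro g
      rw [Subgroup.map_iSup]
      refine iSup_le fun h => ?_
      rw [conj_conj_map]
      exact le_iSup (fun k : ↥H => A.map (MulAut.conj (k : S)).toMonoidHom) (g * h)
    intro g hg
    exact mem_normalizer_of_conj_eq
      (Subgroup.eq_of_le_of_card_ge (hle ⟨g, hg⟩) (card_conj _ _).ge)
  -- first case: R meets the normal closure of T
  have hcase : ∀ A ∈ Δ, ∀ B ∈ Δ, A ≠ B → A < H → B < H → (∃ a ∈ A, a ≠ 1 ∧ a ∈ W B) →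
      ∀ a ∈ A, ∀ b ∈ B, a * b = b * a := by
    intro A hA B hB hAB hAH hBH hex
    by_cases hN : B ≤ normalizer (A : Set S)
    · exact hlem A hA B hB hAB hN
    haveI : ((A ⊓ W B).subgroupOf A).Normal := by
      refine ⟨fun n hn g => Subgroup.mem_subgroupOf.mpr
        (Subgroup.mem_inf.mpr ⟨(g * n * g⁻¹).2, ?_⟩)⟩
      exact (Subgroup.mem_normalizer_iff.mp (hWH B (hAH.le g.2)) n).mp hn.2
    obtain ⟨a0, ha0, ha01, ha0W⟩ := hex
    have hne0 : (A ⊓ W B).subgroupOf A ≠ ⊥ := fun h => ha01 <| by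
      have : (⟨a0, ha0⟩ : ↥A) ∈ (A ⊓ W B).subgroupOf A := ⟨ha0, ha0W⟩
      rw [h, Subgroup.mem_bot] at this
      exact Subtype.ext_iff.mp this
    obtain ⟨z, hz⟩ := Subgroup.ne_bot_iff_exists_ne_one.mp
      (PGroups.inf_center_ne_bot (hS.to_subgroup A) _ hne0)
    obtain ⟨b, hb, hbA⟩ := SetLike.not_le_iff_exists.mp hN
    have hzA : ((z : ↥A) : S) ∈ A := (z : ↥A).2
    have hzW : ((z : ↥A) : S) ∈ W B := z.2.1.2
    have hzc : ∀ a ∈ A, a * (z : ↥A) = (z : ↥A) * a := fun a ha =>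
      congrArg Subtype.val (Subgroup.mem_center_iff.mp z.2.2 ⟨a, ha⟩)
    refine absurd ?_ hbA
    set zz : S := ((z : ↥A) : S)
    have hzne : zz ≠ 1 := fun h => hz (Subtype.ext (Subtype.ext h))
    -- c = [zz, b] is an element of B centralising A
    have hcB : zz * b * zz⁻¹ * b⁻¹ ∈ B := comm_mem_of_mem_normalizer (hWN B hB hBH hzW) hb
    have hne' : A.map (MulAut.conj b).toMonoidHom ≠ A := fun h => hbA (mem_normalizer_of_conj_eq h)
    have hcA : ∀ a ∈ A, a * (zz * b * zz⁻¹ * b⁻¹) = (zz * b * zz⁻¹ * b⁻¹) * a := by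
      intro a ha
      have h1 : a * (b * zz⁻¹ * b⁻¹) = (b * zz⁻¹ * b⁻¹) * a :=
        hcomm A hA hAH 1 (one_mem H) b (hBH.le hb) (by rw [conj_one_map]; exact Ne.symm hne') a
          (by rw [conj_one_map]; exact ha) _ (conj_mem_conj b (inv_mem hzA))
      calc a * (zz * b * zz⁻¹ * b⁻¹) = (a * zz) * (b * zz⁻¹ * b⁻¹) := by simp only [mul_assoc]
        _ = zz * (a * (b * zz⁻¹ * b⁻¹)) := by rw [hzc a ha]; simp only [mul_assoc]
        _ = _ := by rw [h1]; simp only [mul_assoc]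
    have hc1 : zz * b * zz⁻¹ * b⁻¹ ≠ 1 := by
      intro h
      have h2 : zz = b * zz * b⁻¹ := by
        calc zz = (zz * b * zz⁻¹ * b⁻¹) * (b * zz * b⁻¹) := by group
          _ = _ := by rw [h, one_mul]
      refine hzne (Subgroup.mem_bot.mp (((htiR A hA b).resolve_left hne') ▸
        Subgroup.mem_inf.mpr ⟨?_, hzA⟩))
      exact h2 ▸ conj_mem_conj b hzA
    have := hcent A hA B hB hAB _ hcB hc1 hcA
    exact Subgroup.centralizer_le_normalizer _
      (Subgroup.mem_centralizer_iff.mpr fun a ha => this a ha b hb)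
  by_cases h1 : ∃ a ∈ R, a ≠ 1 ∧ a ∈ W T
  · exact hcase R hR T hT hne hRlt hTlt h1
  by_cases h2 : ∃ b ∈ T, b ≠ 1 ∧ b ∈ W R
  · exact fun a ha b hb => (hcase T hT R hR hne.symm hTlt hRlt h2 b hb a ha).symm
  push Not at h1 h2
  have h1' : ∀ a ∈ R, a ∈ W T → a = 1 := fun a ha hW => by_contra fun h => h1 a ha h hW
  have h2' : ∀ b ∈ T, b ∈ W R → b = 1 := fun b hb hW => by_contra fun h => h2 b hb h hW
  -- commutators [r,t] are central in H
  have hD : ∀ d ∈ W R, d ∈ W T → ∀ x ∈ H, x * d = d * x := by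
    intro d hdR hdT
    have hR' : ∀ a ∈ R, a * d = d * a := by
      intro a ha
      have ha1 : d * a * d⁻¹ * a⁻¹ ∈ R := comm_mem_of_mem_normalizer (hWN R hR hRlt hdR) ha
      have ha2 : d * a * d⁻¹ * a⁻¹ ∈ W T := by
        rw [mul_assoc d a, mul_assoc]
        exact mul_mem hdT ((Subgroup.mem_normalizer_iff.mp (hWH T (hRH ha)) d⁻¹).mp (inv_mem hdT))
      calc a * d = (d * a * d⁻¹ * a⁻¹) * (a * d) := by rw [h1' _ ha1 ha2, one_mul]
        _ = d * a := by group
    have hT' : ∀ a ∈ T, a * d = d * a := by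
      intro a ha
      have ha1 : d * a * d⁻¹ * a⁻¹ ∈ T := comm_mem_of_mem_normalizer (hWN T hT hTlt hdT) ha
      have ha2 : d * a * d⁻¹ * a⁻¹ ∈ W R := by
        rw [mul_assoc d a, mul_assoc]
        exact mul_mem hdR ((Subgroup.mem_normalizer_iff.mp (hWH R (hTH ha)) d⁻¹).mp (inv_mem hdR))
      calc a * d = (d * a * d⁻¹ * a⁻¹) * (a * d) := by rw [h2' _ ha1 ha2, one_mul]
        _ = d * a := by group
    intro x hx
    have hle : R ⊔ T ≤ Subgroup.centralizer ({d} : Set S) :=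
      sup_le (fun a ha => Subgroup.mem_centralizer_singleton_iff.mpr (hR' a ha))
        (fun a ha => Subgroup.mem_centralizer_singleton_iff.mpr (hT' a ha))
    exact Subgroup.mem_centralizer_singleton_iff.mp (hle (heq ▸ hx))
  by_cases hdone : ∀ a ∈ R, ∀ b ∈ T, a * b = b * a
  · exact hdone
  have hne1 : ∀ a ∈ R, ∀ b ∈ T, a * b = b * a → b ≠ 1 → a = 1 := by
    intro a ha b hb hab hb1
    by_contra ha1
    refine hdone (hcent R hR T hT hne b hb hb1 fun x hx => ?_)
    have hbN : b ∈ normalizer (R : Set S) := mem_normalizer_of_commute (htiR R hR) ha ha1 hab.symm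
    have hb2 : b * x * b⁻¹ * x⁻¹ ∈ R := comm_mem_of_mem_normalizer hbN hx
    have hb3 : b * x * b⁻¹ * x⁻¹ ∈ W T := by
      rw [mul_assoc b x, mul_assoc]
      exact mul_mem (hself T hb)
        ((Subgroup.mem_normalizer_iff.mp (hWH T (hRH hx)) b⁻¹).mp (inv_mem (hself T hb)))
    calc x * b = (b * x * b⁻¹ * x⁻¹) * (x * b) := by rw [h1' _ hb2 hb3, one_mul]
      _ = b * x := by group
  -- elements of order four
  have h4 : ∀ A ∈ Δ, ∃ r ∈ A, r ^ 2 ≠ 1 ∧ r ^ 4 = 1 := by
    intro A hA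
    obtain ⟨r, hr, hr2⟩ := hsq A hA
    obtain ⟨k, hk⟩ := hS r
    induction k generalizing r with
    | zero => rw [pow_zero, pow_one] at hk; rw [hk, one_pow] at hr2; exact absurd rfl hr2
    | succ k ihk =>
      by_cases h : r ^ 4 = 1
      · exact ⟨r, hr, hr2, h⟩
      · refine ihk (r ^ 2) (pow_mem hr 2) (by rw [← pow_mul]; exact h) ?_
        rw [← pow_mul, ← pow_succ']; exact hk
  obtain ⟨r, hr, hr2, hr4⟩ := h4 R hR
  obtain ⟨t, ht, ht2, -⟩ := h4 T hT
  have hcR : r * t * r⁻¹ * t⁻¹ ∈ W R := by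
    rw [mul_assoc r t, mul_assoc]
    exact mul_mem (hself R hr)
      ((Subgroup.mem_normalizer_iff.mp (hWH R (hTH ht)) r⁻¹).mp (inv_mem (hself R hr)))
  have hcT : r * t * r⁻¹ * t⁻¹ ∈ W T := comm_mem_of_mem_normalizer (hWH T (hRH hr)) (hself T ht)
  set c := r * t * r⁻¹ * t⁻¹ with hc
  have hcomr : Commute r c := hD c hcR hcT r (hRH hr)
  have hcomt : Commute t c := hD c hcR hcT t (hTH ht)
  have hpow : ∀ n : ℕ, r ^ n * t = c ^ n * t * r ^ n := by
    intro n
    induction n with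
    | zero => simp
    | succ n ihn =>
      calc r ^ (n + 1) * t = r * (r ^ n * t) := by rw [pow_succ', mul_assoc]
        _ = (r * c ^ n) * t * r ^ n := by rw [ihn]; simp only [mul_assoc]
        _ = c ^ n * (r * t) * r ^ n := by rw [(hcomr.pow_right n).eq]; simp only [mul_assoc]
        _ = c ^ n * (c * t * r) * r ^ n := by
              rw [show r * t = c * t * r by rw [hc]; group]
        _ = _ := by rw [pow_succ, pow_succ']; simp only [mul_assoc]
  have hc4 : c ^ 4 = 1 := by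
    have := hpow 4
    rw [hr4, one_mul, mul_one] at this
    exact mul_eq_right.mp this.symm
  refine absurd (hne1 (r ^ 2) (pow_mem hr 2) (t ^ 2) (pow_mem ht 2) ?_ ht2) hr2
  calc r ^ 2 * t ^ 2 = (r ^ 2 * t) * t := by rw [pow_two t, ← mul_assoc]
    _ = c ^ 2 * t * (r ^ 2 * t) := by nth_rewrite 1 [hpow 2]; simp only [mul_assoc]
    _ = c ^ 2 * (t * c ^ 2) * t * r ^ 2 := by rw [hpow 2]; simp only [mul_assoc]
    _ = c ^ 4 * (t * t) * r ^ 2 := by
        rw [(hcomt.pow_right 2).eq, show (4 : ℕ) = 2 + 2 from rfl, pow_add]; simp only [mul_assoc]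
    _ = t ^ 2 * r ^ 2 := by rw [hc4, one_mul, pow_two t]

end Cfsg.Agent.H46

namespace Cfsg.Agent.H46

open Subgroup

/-- Distinct conjugates, lying in one 2-subgroup, of a non elementary TI subgroup commute. -/
theorem ti_conj_commute {X : Type*} [Group X] [Finite X] {T A : Subgroup X} (hT : IsPGroup 2 ↥T)
    (hti : ∀ h : X, A.map (MulAut.conj h).toMonoidHom = A ∨ A.map (MulAut.conj h).toMonoidHom ⊓ A = ⊥)
    (hsq : ∃ a ∈ A, a ^ 2 ≠ 1) (g h : X) (hg : A.map (MulAut.conj g).toMonoidHom ≤ T)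
    (hh : A.map (MulAut.conj h).toMonoidHom ≤ T)
    (hne : A.map (MulAut.conj g).toMonoidHom ≠ A.map (MulAut.conj h).toMonoidHom) :
    ∀ a ∈ A.map (MulAut.conj g).toMonoidHom, ∀ b ∈ A.map (MulAut.conj h).toMonoidHom, a * b = b * a := by
  let Δ : Set (Subgroup ↥T) := {R | ∃ k : X, R.map T.subtype = A.map (MulAut.conj k).toMonoidHom}
  have hinj := Subgroup.map_injective T.subtype_injective
  intro a ha b hb
  have hsub : ∀ k : X, A.map (MulAut.conj k).toMonoidHom ≤ T →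
      ((A.map (MulAut.conj k).toMonoidHom).subgroupOf T) ∈ Δ := fun k hk =>
    ⟨k, by rw [Subgroup.subgroupOf_map_subtype, inf_eq_left.mpr hk]⟩
  have h2 := ti_family_commute hT Δ ?_ ?_ ?_ ?_ ⊤ _ (hsub g hg) _ (hsub h hh) le_top le_top ?_
    ⟨a, hg ha⟩ (Subgroup.mem_subgroupOf.mpr ha) ⟨b, hh hb⟩ (Subgroup.mem_subgroupOf.mpr hb)
  · exact Subtype.ext_iff.mp h2
  · rintro s R ⟨k, hk⟩
    refine ⟨s * k, ?_⟩
    rw [← conj_conj_map, ← hk, Subgroup.map_map, Subgroup.map_map]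
    rfl
  · rintro R ⟨k, hk⟩
    obtain ⟨u, hu, hu2⟩ := hsq
    have hmem : k * u * k⁻¹ ∈ R.map T.subtype := hk ▸ conj_mem_conj k hu
    obtain ⟨r, hr, hru⟩ := hmem
    refine ⟨r, hr, fun e => hu2 ?_⟩
    have h1 : k * u ^ 2 * k⁻¹ = 1 := by rw [← conj_pow, ← hru, ← map_pow, e, map_one]
    exact conj_eq_one_iff.mp h1
  · rintro R ⟨k, hk⟩ R' ⟨l, hl⟩
    have h1 : Nat.card ↥(R.map T.subtype) = Nat.card ↥R :=
      Subgroup.card_map_of_injective T.subtype_injective
    have h2 : Nat.card ↥(R'.map T.subtype) = Nat.card ↥R' :=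
      Subgroup.card_map_of_injective T.subtype_injective
    rw [← h1, hk, card_conj, ← h2, hl, card_conj]
  · rintro R ⟨k, hk⟩ R' ⟨l, hl⟩
    rcases hti (l⁻¹ * k) with e | e
    · refine Or.inl (hinj ?_)
      have := congrArg (Subgroup.map (MulAut.conj l).toMonoidHom) e
      rw [conj_conj_map, mul_inv_cancel_left] at this
      rw [hk, hl, this]
    · refine Or.inr (hinj ?_)
      have := congrArg (Subgroup.map (MulAut.conj l).toMonoidHom) e
      rw [Subgroup.map_inf _ _ _ (MulAut.conj l).injective, conj_conj_map, mul_inv_cancel_left,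
        Subgroup.map_bot] at this
      rw [Subgroup.map_inf _ _ _ T.subtype_injective, hk, hl, this, Subgroup.map_bot]
  · intro e
    have := congrArg (Subgroup.map T.subtype) e
    rw [Subgroup.subgroupOf_map_subtype, Subgroup.subgroupOf_map_subtype,
      inf_eq_left.mpr hg, inf_eq_left.mpr hh] at this
    exact hne this

end Cfsg.Agent.H46
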