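import Cfsg.Agent.H46.TI

/-!
A TI elementary abelian 2-group `V` and a conjugate of it inside `C_Q(V)`.
-/

namespace Cfsg.Agent.H46

open Subgroup

variable {G : Type*} [Group G]

/-- `V` is an elementary abelian TI 2-group and `P` a class 2 group with centre `V`, normalised by `N(V)`. -/
structure TICtx (V P : Subgroup G) : Prop where
  sq : ∀ v ∈ V, v * v = 1
  ti : ∀ x : G, V.map (MulAut.conj x).toMonoidHom = V ∨ V.map (MulAut.conj x).toMonoidHom ⊓ V = ⊥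
  le : V ≤ P
  cen : ∀ p ∈ P, ∀ v ∈ V, p * v = v * p
  nrm : ∀ m ∈ normalizer (V : Set G), ∀ p ∈ P, m * p * m⁻¹ ∈ P
  cls : ∀ a ∈ P, ∀ b ∈ P, a * b * a⁻¹ * b⁻¹ ∈ V
  psq : ∀ a ∈ P, a * a ∈ V
  cP : ∀ c, (∀ p ∈ P, c * p = p * c) → c ∈ V
  noncomm : ∀ x : G, V.map (MulAut.conj x).toMonoidHom ≠ V → V.map (MulAut.conj x).toMonoidHom ≤ P →
    ∃ m ∈ normalizer (V : Set G), ∃ a ∈ V.map (MulAut.conj x).toMonoidHom,
      ∃ b ∈ V.map (MulAut.conj x).toMonoidHom, (m * a * m⁻¹) * b ≠ b * (m * a * m⁻¹)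

theorem TICtx.map {V P : Subgroup G} (h : TICtx V P) (g : G) :
    TICtx (V.map (MulAut.conj g).toMonoidHom) (P.map (MulAut.conj g).toMonoidHom) := by
  have hi : Function.Injective (fun a => g * a * g⁻¹) := (MulAut.conj g).injective
  have hm : ∀ a b : G, (g * a * g⁻¹) * (g * b * g⁻¹) = g * (a * b) * g⁻¹ := fun a b => by group
  have hcc : ∀ x : G, (V.map (MulAut.conj g).toMonoidHom).map (MulAut.conj x).toMonoidHom =
      (V.map (MulAut.conj (g⁻¹ * x * g)).toMonoidHom).map (MulAut.conj g).toMonoidHom := by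
    intro x
    ext y
    simp only [mem_conj_iff]
    constructor <;> intro hy
    · rw [show (g⁻¹ * x * g)⁻¹ * (g⁻¹ * y * g) * (g⁻¹ * x * g) = g⁻¹ * (x⁻¹ * y * x) * g by group]
      exact hy
    · rw [show g⁻¹ * (x⁻¹ * y * x) * g = (g⁻¹ * x * g)⁻¹ * (g⁻¹ * y * g) * (g⁻¹ * x * g) by group]
      exact hy
  have hN : ∀ m, m ∈ normalizer (V.map (MulAut.conj g).toMonoidHom : Set G) ↔
      g⁻¹ * m * g ∈ normalizer (V : Set G) := by
    intro m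
    refine ⟨fun hm' => mem_normalizer_of_conj_eq ?_, fun hm' => mem_normalizer_of_conj_eq ?_⟩
    · exact Subgroup.map_injective (MulAut.conj g).injective ((hcc m).symm.trans (conj_eq_of_mem_normalizer hm'))
    · rw [hcc, conj_eq_of_mem_normalizer hm']
  refine ⟨?_, ?_, Subgroup.map_mono h.le, ?_, ?_, ?_, ?_, ?_, ?_⟩
  · rintro _ ⟨v, hv, rfl⟩
    show (g * v * g⁻¹) * (g * v * g⁻¹) = 1
    rw [hm, h.sq v hv, mul_one, mul_inv_cancel]
  · intro x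
    rw [hcc]
    refine (h.ti (g⁻¹ * x * g)).imp (fun e => by rw [e]) fun e => ?_
    rw [← Subgroup.map_inf _ _ _ (MulAut.conj g).injective, e, Subgroup.map_bot]
  · rintro _ ⟨p, hp, rfl⟩ _ ⟨v, hv, rfl⟩
    show (g * p * g⁻¹) * (g * v * g⁻¹) = (g * v * g⁻¹) * (g * p * g⁻¹)
    rw [hm, hm, h.cen p hp v hv]
  · rintro m hm' _ ⟨p, hp, rfl⟩
    refine ⟨_, h.nrm _ ((hN m).mp hm') p hp, ?_⟩
    show g * (g⁻¹ * m * g * p * (g⁻¹ * m * g)⁻¹) * g⁻¹ = m * (g * p * g⁻¹) * m⁻¹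
    group
  · rintro _ ⟨a, ha, rfl⟩ _ ⟨b, hb, rfl⟩
    refine ⟨_, h.cls a ha b hb, ?_⟩
    show g * (a * b * a⁻¹ * b⁻¹) * g⁻¹ = (g * a * g⁻¹) * (g * b * g⁻¹) * (g * a * g⁻¹)⁻¹ * (g * b * g⁻¹)⁻¹
    group
  · rintro _ ⟨a, ha, rfl⟩
    exact ⟨_, h.psq a ha, (hm a a).symm⟩
  · intro c hc
    refine ⟨g⁻¹ * c * g, h.cP _ fun p hp => hi ?_, show g * (g⁻¹ * c * g) * g⁻¹ = c by group⟩
    show g * (g⁻¹ * c * g * p) * g⁻¹ = g * (p * (g⁻¹ * c * g)) * g⁻¹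
    calc g * (g⁻¹ * c * g * p) * g⁻¹ = c * (g * p * g⁻¹) := by group
      _ = (g * p * g⁻¹) * c := hc _ ⟨p, hp, rfl⟩
      _ = _ := by group
  · intro x hx hxP
    rw [hcc] at hx hxP ⊢
    obtain ⟨m, hm', a, ha, b, hb, hne⟩ := h.noncomm (g⁻¹ * x * g)
      (fun e => hx (by rw [e])) ((Subgroup.map_le_map_iff_of_injective (MulAut.conj g).injective).mp hxP)
    refine ⟨g * m * g⁻¹, (hN _).mpr (by rw [show g⁻¹ * (g * m * g⁻¹) * g = m by group]; exact hm'),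
      g * a * g⁻¹, ⟨a, ha, rfl⟩, g * b * g⁻¹, ⟨b, hb, rfl⟩, fun e => hne (hi ?_)⟩
    show g * (m * a * m⁻¹ * b) * g⁻¹ = g * (b * (m * a * m⁻¹)) * g⁻¹
    calc g * (m * a * m⁻¹ * b) * g⁻¹ =
          g * m * g⁻¹ * (g * a * g⁻¹) * (g * m * g⁻¹)⁻¹ * (g * b * g⁻¹) := by group
      _ = g * b * g⁻¹ * (g * m * g⁻¹ * (g * a * g⁻¹) * (g * m * g⁻¹)⁻¹) := e
      _ = _ := by group

/-- `V'` is a conjugate of `V`, different from `V`, inside `P`. -/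
structure TIPair (V P V' : Subgroup G) : Prop where
  ctx : TICtx V P
  isConj : ∃ g : G, V' = V.map (MulAut.conj g).toMonoidHom
  ne : V' ≠ V
  le : V' ≤ P

namespace TIPair

variable {V P V' : Subgroup G} (h : TIPair V P V')
include h

theorem inf_one {x : G} (hx : x ∈ V) (hx' : x ∈ V') : x = 1 := by
  obtain ⟨g, hg⟩ := h.isConj
  have := (h.ctx.ti g).resolve_left (hg ▸ h.ne)
  exact Subgroup.mem_bot.mp (this ▸ Subgroup.mem_inf.mpr ⟨hg ▸ hx', hx⟩)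

theorem ti' : ∀ x : G, V'.map (MulAut.conj x).toMonoidHom = V' ∨ V'.map (MulAut.conj x).toMonoidHom ⊓ V' = ⊥ := by
  obtain ⟨g, hg⟩ := h.isConj
  exact hg ▸ (h.ctx.map g).ti

theorem sq' {v : G} (hv : v ∈ V') : v * v = 1 := by
  obtain ⟨g, hg⟩ := h.isConj
  exact (h.ctx.map g).sq v (hg ▸ hv)

theorem card_eq : Nat.card ↥V' = Nat.card ↥V := by
  obtain ⟨g, rfl⟩ := h.isConj
  exact card_conj V g

theorem comm' {a b : G} (ha : a ∈ V') (hb : b ∈ V') : a * b = b * a := by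
  obtain ⟨g, hg⟩ := h.isConj
  subst hg
  exact (h.ctx.map g).cen a ((h.ctx.map g).le ha) b hb

theorem cls_mem {a b : G} (ha : a ∈ P) (hb : b ∈ P) : a * b * a⁻¹ ∈ V ⊔ zpowers b := by
  have : a * b * a⁻¹ = (a * b * a⁻¹ * b⁻¹) * b := by group
  rw [this]
  exact mul_mem_sup (h.ctx.cls a ha b hb) (mem_zpowers b)

/-- An element of `P` commuting with a nontrivial element of `V'` centralises `V'`. -/
theorem commute_all {p u : G} (hp : p ∈ P) (hu : u ∈ V') (hu1 : u ≠ 1) (he : p * u = u * p) :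
    ∀ w ∈ V', p * w = w * p := by
  intro w hw
  have hn := mem_normalizer_of_commute h.ti' hu hu1 he
  have h1 : p * w * p⁻¹ * w⁻¹ ∈ V' := comm_mem_of_mem_normalizer hn hw
  exact mul_inv_eq_iff_eq_mul.mp (mul_inv_eq_one.mp (h.inf_one (h.ctx.cls p hp w (h.le hw)) h1))

theorem exists_v'_ne : ∃ u ∈ V', u ≠ 1 := by
  by_contra hh
  push Not at hh
  have h1 : V' = ⊥ := eq_bot_iff_forall _ |>.mpr hh
  obtain ⟨g, hg⟩ := h.isConj
  exact h.ne (by rw [h1]; exact ((Subgroup.map_eq_bot_iff_of_injective _ (MulAut.conj g).injective).mp (hg ▸ h1)).symm)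

theorem exists_v_ne : ∃ v ∈ V, v ≠ 1 := by
  obtain ⟨u, hu, hu1⟩ := h.exists_v'_ne
  obtain ⟨g, hg⟩ := h.isConj
  obtain ⟨v, hv, rfl⟩ := hg ▸ hu
  exact ⟨v, hv, fun e => hu1 (by rw [e, map_one])⟩

theorem mem_W_cases {w : G} (hw : w ∈ V ⊔ V') : ∃ v ∈ V, ∃ u ∈ V', w = v * u := by
  rw [← SetLike.mem_coe, Subgroup.coe_mul_of_right_le_normalizer_left V V'] at hw
  · obtain ⟨v, hv, u, hu, rfl⟩ := hw
    exact ⟨v, hv, u, hu, rfl⟩
  · intro u hu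
    refine mem_normalizer_iff.mpr fun v => ⟨fun hv => ?_, fun hv => ?_⟩
    · rwa [h.ctx.cen u (h.le hu) v hv, mul_inv_cancel_right]
    · have e := h.ctx.cen u⁻¹ (inv_mem (h.le hu)) _ hv
      have : v = u * v * u⁻¹ := by
        calc v = u⁻¹ * (u * v * u⁻¹) * u := by group
          _ = u * v * u⁻¹ := by rw [e, inv_mul_cancel_right]
      rwa [this]

theorem W_le : V ⊔ V' ≤ P := sup_le h.ctx.le h.le

theorem W_cases_unique {v v₁ u u₁ : G} (hv : v ∈ V) (hv₁ : v₁ ∈ V) (hu : u ∈ V') (hu₁ : u₁ ∈ V')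
    (e : v * u = v₁ * u₁) : v = v₁ ∧ u = u₁ := by
  have h1 : v₁⁻¹ * v = u₁ * u⁻¹ := by
    calc v₁⁻¹ * v = v₁⁻¹ * (v * u) * u⁻¹ := by group
      _ = _ := by rw [e]; group
  have h2 : v₁⁻¹ * v = 1 := h.inf_one (mul_mem (inv_mem hv₁) hv) (h1 ▸ mul_mem hu₁ (inv_mem hu))
  rw [h2] at h1
  exact ⟨(inv_mul_eq_one.mp h2).symm, (mul_inv_eq_one.mp h1.symm).symm⟩

theorem W_normal {p : G} (hp : p ∈ P) {w : G} (hw : w ∈ V ⊔ V') : p * w * p⁻¹ ∈ V ⊔ V' := by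
  rw [show p * w * p⁻¹ = (p * w * p⁻¹ * w⁻¹) * w by group]
  exact mul_mem (mem_sup_left (h.ctx.cls p hp w (h.W_le hw))) hw

variable [Finite G]

/-- A non-commuting conjugate inside `P`, and the resulting surjectivity. -/
theorem exists_opp : ∃ U : Subgroup G, U ≤ P ∧ Nat.card ↥U = Nat.card ↥V ∧
    (∀ u ∈ U, u ≠ 1 → ∀ w ∈ V', w ≠ 1 → u * w ≠ w * u) ∧
    (∀ w ∈ V', w ≠ 1 → ∀ v ∈ V, ∃ u ∈ U, u * w * u⁻¹ = v * w) ∧
    (∀ p ∈ P, ∃ u ∈ U, ∀ w ∈ V', (u⁻¹ * p) * w = w * (u⁻¹ * p)) ∧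
    (∀ p ∈ P, ∃ w ∈ V', ∀ u ∈ U, (w⁻¹ * p) * u = u * (w⁻¹ * p)) ∧
    (∀ u ∈ U, u * u = 1) ∧ (∀ u ∈ U, ∀ u₁ ∈ U, u * u₁ = u₁ * u) := by
  obtain ⟨g, hg⟩ := h.isConj
  obtain ⟨m, hm, a, ha, b, hb, hne⟩ := h.ctx.noncomm g (hg ▸ h.ne) (hg ▸ h.le)
  rw [← hg] at ha hb
  set U := V'.map (MulAut.conj m).toMonoidHom with hU
  have hUpair : TIPair V P U := by
    refine ⟨h.ctx, ⟨m * g, by rw [hU, hg, Subgroup.map_map, map_mul]; rfl⟩, fun e => h.ne ?_, ?_⟩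
    · have := conj_eq_of_mem_normalizer hm
      exact Subgroup.map_injective (MulAut.conj m).injective (e.trans this.symm)
    · rintro _ ⟨w, hw, rfl⟩
      exact h.ctx.nrm m hm w (h.le hw)
  have haU : m * a * m⁻¹ ∈ U := ⟨a, ha, rfl⟩
  have hnc : ∀ u ∈ U, u ≠ 1 → ∀ w ∈ V', w ≠ 1 → u * w ≠ w * u := by
    intro u hu hu1 w hw hw1 e
    have h1 : ∀ w' ∈ V', u * w' = w' * u := h.commute_all (hUpair.le hu) hw hw1 e
    have h2 := hUpair.commute_all (h.le hb) hu hu1 (h1 b hb).symm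
    exact hne (h2 _ haU).symm
  have hcard : Nat.card ↥U = Nat.card ↥V := hUpair.card_eq
  have hbij : ∀ w, ∀ hw : w ∈ V', w ≠ 1 → Function.Bijective
      (fun u : ↥U => (⟨(u : G) * w * (u : G)⁻¹ * w⁻¹, h.ctx.cls u (hUpair.le u.2) w (h.le hw)⟩ : ↥V)) := by
    intro w hw hw1
    refine (Nat.bijective_iff_injective_and_card _).mpr ⟨fun u u' e => ?_, hcard⟩
    have e' : (u : G) * w * (u : G)⁻¹ = (u' : G) * w * (u' : G)⁻¹ :=
      mul_right_cancel (congrArg Subtype.val e)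
    by_contra hne'
    refine hnc ((u' : G)⁻¹ * u) (mul_mem (inv_mem u'.2) u.2)
      (fun e1 => hne' (Subtype.ext (inv_mul_eq_one.mp e1).symm)) w hw hw1 ?_
    calc (u' : G)⁻¹ * u * w = (u' : G)⁻¹ * ((u : G) * w * (u : G)⁻¹) * u := by group
      _ = _ := by rw [e']; group
  have hfull : ∀ w ∈ V', w ≠ 1 → ∀ v ∈ V, ∃ u ∈ U, u * w * u⁻¹ = v * w := by
    intro w hw hw1 v hv
    obtain ⟨u, hu⟩ := (hbij w hw hw1).2 ⟨v, hv⟩
    exact ⟨u, u.2, mul_inv_eq_iff_eq_mul.mp (congrArg Subtype.val hu)⟩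
  obtain ⟨w₀, hw₀, hw₀1⟩ := h.exists_v'_ne
  refine ⟨U, hUpair.le, hcard, hnc, hfull, ?_, ?_, fun u hu => hUpair.sq' hu, fun u hu u₁ hu₁ => hUpair.comm' hu hu₁⟩
  · intro p hp
    obtain ⟨u, hu, e⟩ := hfull w₀ hw₀ hw₀1 _ (h.ctx.cls p hp w₀ (h.le hw₀))
    rw [show p * w₀ * p⁻¹ * w₀⁻¹ * w₀ = p * w₀ * p⁻¹ by group] at e
    refine ⟨u, hu, h.commute_all (mul_mem (inv_mem (hUpair.le hu)) hp) hw₀ hw₀1 ?_⟩
    calc u⁻¹ * p * w₀ = u⁻¹ * (p * w₀ * p⁻¹) * p := by group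
      _ = _ := by rw [← e]; group
  · intro p hp
    obtain ⟨u₀, hu₀, hu₀1⟩ := hUpair.exists_v'_ne
    have hbij' : Function.Bijective
        (fun w : ↥V' => (⟨(w : G) * u₀ * (w : G)⁻¹ * u₀⁻¹, h.ctx.cls w (h.le w.2) u₀ (hUpair.le hu₀)⟩ : ↥V)) := by
      refine (Nat.bijective_iff_injective_and_card _).mpr ⟨fun w w' e => ?_, h.card_eq⟩
      have e' : (w : G) * u₀ * (w : G)⁻¹ = (w' : G) * u₀ * (w' : G)⁻¹ :=
        mul_right_cancel (congrArg Subtype.val e)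
      by_contra hne'
      refine hnc u₀ hu₀ hu₀1 ((w' : G)⁻¹ * w) (mul_mem (inv_mem w'.2) w.2)
        (fun e1 => hne' (Subtype.ext (inv_mul_eq_one.mp e1).symm)) ?_
      calc u₀ * ((w' : G)⁻¹ * w) = (w' : G)⁻¹ * ((w' : G) * u₀ * (w' : G)⁻¹) * w := by group
        _ = _ := by rw [← e']; group
    obtain ⟨⟨w, hw⟩, e⟩ := hbij'.2 ⟨_, h.ctx.cls p hp u₀ (hUpair.le hu₀)⟩
    have e' : w * u₀ * w⁻¹ = p * u₀ * p⁻¹ := mul_right_cancel (congrArg Subtype.val e)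
    refine ⟨w, hw, hUpair.commute_all (mul_mem (inv_mem (h.le hw)) hp) hu₀ hu₀1 ?_⟩
    calc w⁻¹ * p * u₀ = w⁻¹ * (p * u₀ * p⁻¹) * p := by group
      _ = _ := by rw [← e']; group

theorem conj_full {w v : G} (hw : w ∈ V') (hw1 : w ≠ 1) (hv : v ∈ V) : ∃ p ∈ P, p * w * p⁻¹ = v * w := by
  obtain ⟨U, hUP, -, -, hfull, -⟩ := h.exists_opp
  obtain ⟨u, hu, e⟩ := hfull w hw hw1 v hv
  exact ⟨u, hUP hu, e⟩

/-- Two conjugates sharing a nontrivial element coincide. -/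
theorem conj_eq_of_mem {x y w : G} (hw1 : w ≠ 1) (hx : w ∈ V.map (MulAut.conj x).toMonoidHom)
    (hy : w ∈ V.map (MulAut.conj y).toMonoidHom) :
    V.map (MulAut.conj x).toMonoidHom = V.map (MulAut.conj y).toMonoidHom := by
  have h1 := (h.ctx.map x).ti (y * x⁻¹)
  rw [Subgroup.map_map, show ((MulAut.conj (y * x⁻¹)).toMonoidHom.comp (MulAut.conj x).toMonoidHom) =
      (MulAut.conj y).toMonoidHom from by
        ext a; show y * x⁻¹ * (x * a * x⁻¹) * (y * x⁻¹)⁻¹ = y * a * y⁻¹; group] at h1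
  exact (h1.resolve_right fun e => hw1 (Subgroup.mem_bot.mp (e ▸ Subgroup.mem_inf.mpr ⟨hy, hx⟩))).symm

theorem exists_conj_mem {w : G} (hw : w ∈ V ⊔ V') :
    w ∈ V ∨ ∃ p ∈ P, w ∈ V'.map (MulAut.conj p).toMonoidHom := by
  obtain ⟨v, hv, u, hu, rfl⟩ := h.mem_W_cases hw
  by_cases hu1 : u = 1
  · left; rw [hu1, mul_one]; exact hv
  · obtain ⟨p, hp, e⟩ := h.conj_full hu hu1 hv
    exact Or.inr ⟨p, hp, ⟨u, hu, e⟩⟩

theorem conj_le_W {p : G} (hp : p ∈ P) : V'.map (MulAut.conj p).toMonoidHom ≤ V ⊔ V' := by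
  rintro _ ⟨u, hu, rfl⟩
  exact h.W_normal hp (mem_sup_right hu)

theorem card_W : Nat.card ↥(V ⊔ V') = Nat.card ↥V * Nat.card ↥V := by
  conv_rhs => arg 2; rw [← h.card_eq]
  rw [← Nat.card_prod]
  refine (Nat.card_eq_of_bijective
    (fun q : ↥V × ↥V' => (⟨(q.1 : G) * q.2, mul_mem_sup q.1.2 q.2.2⟩ : ↥(V ⊔ V'))) ⟨?_, ?_⟩).symm
  · intro a b e
    obtain ⟨e1, e2⟩ := h.W_cases_unique a.1.2 b.1.2 a.2.2 b.2.2 (congrArg Subtype.val e)
    exact Prod.ext (Subtype.ext e1) (Subtype.ext e2)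
  · rintro ⟨w, hw⟩
    obtain ⟨v, hv, u, hu, rfl⟩ := h.mem_W_cases hw
    exact ⟨(⟨v, hv⟩, ⟨u, hu⟩), rfl⟩

/-- The symmetry: `V` lies in the `P`-group of `V'`. -/
theorem symm {g : G} (hg : V' = V.map (MulAut.conj g).toMonoidHom) :
    V ≤ P.map (MulAut.conj g).toMonoidHom := by
  set R := P.map (MulAut.conj g).toMonoidHom with hR
  have hR' : TICtx V' R := hg ▸ h.ctx.map g
  have hVR : ∀ v ∈ V, ∀ r ∈ R, v * r * v⁻¹ ∈ R := by
    intro v hv r hr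
    refine hR'.nrm v ?_ r hr
    obtain ⟨w, hw, hw1⟩ := h.exists_v'_ne
    exact mem_normalizer_of_commute h.ti' hw hw1 (h.ctx.cen w (h.le hw) v hv).symm
  have hinvV : ∀ v ∈ V, v⁻¹ = v := fun v hv => inv_eq_of_mul_eq_one_right (h.ctx.sq v hv)
  by_cases hswap : ∃ r ∈ R, ∃ v ∈ V, r * v * r⁻¹ * v⁻¹ ∈ V' ∧ r * v * r⁻¹ * v⁻¹ ≠ 1
  · obtain ⟨r, hr, v, hv, hu, hu1⟩ := hswap
    set u := r * v * r⁻¹ * v⁻¹ with hudef
    have hv1 : v ≠ 1 := fun e => hu1 (by rw [hudef, e]; group)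
    -- `r V r⁻¹` and `r⁻¹ V r` are `P`-conjugates of `V'`
    have key : ∀ s : G, ∀ w ∈ V', w ≠ 1 → s * v * s⁻¹ = v * w →
        ∃ p ∈ P, V.map (MulAut.conj s).toMonoidHom = V.map (MulAut.conj (p * g)).toMonoidHom := by
      intro s w hw hw1 e
      obtain ⟨p, hp, e'⟩ := h.conj_full hw hw1 hv
      refine ⟨p, hp, h.conj_eq_of_mem (w := v * w) ?_ ⟨v, hv, e⟩ ?_⟩
      · intro e1
        have h1 := eq_inv_of_mul_eq_one_right e1
        exact hw1 (h.inf_one (h1 ▸ inv_mem hv) hw)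
      · obtain ⟨v₁, hv₁, rfl⟩ := hg ▸ hw
        refine ⟨v₁, hv₁, ?_⟩
        rw [← e']
        show p * g * v₁ * (p * g)⁻¹ = p * (g * v₁ * g⁻¹) * p⁻¹
        group
    have hru : r * u = u * r := hR'.cen r hr u hu
    obtain ⟨p, hp, hp'⟩ := key r u hu hu1 (by
      rw [h.ctx.cen u (h.le hu) v hv |>.symm, hudef]; group)
    obtain ⟨p₂, hp₂, hp₂'⟩ := key r⁻¹ u⁻¹ (inv_mem hu) (fun e => hu1 (inv_eq_one.mp e)) (by
      have e1 : r⁻¹ * (u * v) * r = v := by rw [hudef]; group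
      rw [show r⁻¹ * (u * v) * r = r⁻¹ * u * r * (r⁻¹ * v * r) by group,
        show r⁻¹ * u * r = u by rw [mul_assoc, ← hru, inv_mul_cancel_left]] at e1
      rw [inv_inv, ← h.ctx.cen u⁻¹ (h.le (inv_mem hu)) v hv]
      exact eq_inv_mul_iff_mul_eq.mpr e1)
    set n := p⁻¹ * r with hn
    have hgn : g⁻¹ * n ∈ normalizer (V : Set G) := by
      refine mem_normalizer_of_conj_eq ?_
      have h1 := congrArg (Subgroup.map (MulAut.conj (g⁻¹ * p⁻¹)).toMonoidHom) hp'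
      simp only [Subgroup.map_map] at h1
      convert h1 using 2
      · ext a; show (g⁻¹ * (p⁻¹ * r)) * a * (g⁻¹ * (p⁻¹ * r))⁻¹ = g⁻¹ * p⁻¹ * (r * a * r⁻¹) * (g⁻¹ * p⁻¹)⁻¹
        group
      · symm
        rw [show ((MulAut.conj (g⁻¹ * p⁻¹)).toMonoidHom.comp (MulAut.conj (p * g)).toMonoidHom) = MonoidHom.id G from by
          ext a; show g⁻¹ * p⁻¹ * (p * g * a * (p * g)⁻¹) * (g⁻¹ * p⁻¹)⁻¹ = a; group]
        exact Subgroup.map_id V
    intro x hx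
    -- `n⁻¹ x n ∈ r⁻¹ V r ≤ P`
    have hpx : p * x * p⁻¹ = x := by rw [h.ctx.cen p hp x hx, mul_inv_cancel_right]
    have h1 : n⁻¹ * x * n ∈ P := by
      rw [show n⁻¹ * x * n = r⁻¹ * (p * x * p⁻¹) * r⁻¹⁻¹ by rw [hn]; group, hpx]
      have : r⁻¹ * x * r⁻¹⁻¹ ∈ V.map (MulAut.conj (p₂ * g)).toMonoidHom := hp₂' ▸ conj_mem_conj _ hx
      obtain ⟨v₁, hv₁, e⟩ := this
      rw [← e]
      show p₂ * g * v₁ * (p₂ * g)⁻¹ ∈ P
      rw [show p₂ * g * v₁ * (p₂ * g)⁻¹ = p₂ * (g * v₁ * g⁻¹) * p₂⁻¹ by group]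
      exact mul_mem (mul_mem hp₂ (h.le (hg ▸ conj_mem_conj g hv₁))) (inv_mem hp₂)
    refine ⟨_, h.ctx.nrm _ hgn _ h1, ?_⟩
    show g * (g⁻¹ * n * (n⁻¹ * x * n) * (g⁻¹ * n)⁻¹) * g⁻¹ = x
    group
  exfalso
  push Not at hswap
  have hA : ∀ r ∈ R, ∀ v ∈ V, v * r * v⁻¹ * r⁻¹ ∈ V' → r * v = v * r := by
    intro r hr v hv h1
    have := hswap r hr v hv (by
      rw [show r * v * r⁻¹ * v⁻¹ = (v * r * v⁻¹ * r⁻¹)⁻¹ by group]; exact inv_mem h1)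
    exact mul_inv_eq_iff_eq_mul.mp (mul_inv_eq_one.mp this)
  have hVR0 : ∀ v ∈ V, v ∈ R → v = 1 := fun v hv hvR =>
    h.inf_one hv (hR'.cP v fun r hr => (hA r hr v hv (hR'.cls v hvR r hr)).symm)
  obtain ⟨v₀, hv₀, hv₀1⟩ := h.exists_v_ne
  -- `X = C_R(V) = C_R(v₀)`
  have hX : ∀ r ∈ R, r * v₀ = v₀ * r → ∀ v ∈ V, r * v = v * r := by
    intro r hr e v hv
    have h1 : r * v * r⁻¹ * v⁻¹ ∈ V :=
      comm_mem_of_mem_normalizer (mem_normalizer_of_commute h.ctx.ti hv₀ hv₀1 e) hv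
    have h2 : r * v * r⁻¹ * v⁻¹ ∈ R := by
      rw [show r * v * r⁻¹ * v⁻¹ = r * (v * r⁻¹ * v⁻¹) by group]
      exact mul_mem hr (hVR v hv _ (inv_mem hr))
    exact mul_inv_eq_iff_eq_mul.mp (mul_inv_eq_one.mp (hVR0 _ h1 h2))
  obtain ⟨U, hUP, hUcard, hnc, hfull, hdecU, hdecV', hUsq, hUcomm⟩ := h.exists_opp
  set D := P ⊓ centralizer (V' : Set G) with hD
  have hDmem : ∀ y, y ∈ D ↔ y ∈ P ∧ ∀ w ∈ V', y * w = w * y := fun y =>
    ⟨fun hy => ⟨hy.1, fun w hw => (mem_centralizer_iff.mp hy.2 w hw).symm⟩,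
      fun hy => ⟨hy.1, mem_centralizer_iff.mpr fun w hw => (hy.2 w hw).symm⟩⟩
  have hYn : ∀ y ∈ D, ∀ r ∈ R, y * r * y⁻¹ ∈ R := by
    intro y hy r hr
    obtain ⟨w, hw, hw1⟩ := h.exists_v'_ne
    exact hR'.nrm y (mem_normalizer_of_commute h.ti' hw hw1 (((hDmem y).mp hy).2 w hw)) r hr
  have hV'D : V' ≤ D := fun w hw => (hDmem w).mpr ⟨h.le hw, fun w' hw' => h.comm' hw hw'⟩
  have hVD : V ≤ D := fun v hv => (hDmem v).mpr ⟨h.ctx.le hv, fun w hw => (h.ctx.cen w (h.le hw) v hv).symm⟩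
  -- the centre of `D`
  have hZD : ∀ w ∈ P, (∀ y ∈ D, w * y = y * w) → w ∈ V ⊔ V' := by
    intro w hw hwD
    obtain ⟨w', hw', hc⟩ := hdecV' w hw
    have hcD : ∀ y ∈ D, (w'⁻¹ * w) * y = y * (w'⁻¹ * w) := fun y hy =>
      (Commute.mul_left (show Commute w'⁻¹ y from
        (((hDmem y).mp hy).2 w'⁻¹ (inv_mem hw')).symm) (show Commute w y from hwD y hy)).eq
    have hcP : w'⁻¹ * w ∈ V := h.ctx.cP _ fun p hp => by
      obtain ⟨u, hu, hd⟩ := hdecU p hp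
      have hy : u⁻¹ * p ∈ D := (hDmem _).mpr ⟨mul_mem (inv_mem (hUP hu)) hp, hd⟩
      have := Commute.mul_right (show Commute (w'⁻¹ * w) u from hc u hu) (show Commute (w'⁻¹ * w) (u⁻¹ * p) from hcD _ hy)
      rwa [mul_inv_cancel_left] at this
    rw [show w = w' * (w'⁻¹ * w) by group]
    exact mul_mem (mem_sup_right hw') (mem_sup_left hcP)
  have hV'R : V' ≤ R := hR'.le
  have hPR : ∀ w ∈ P, w ∈ R → w ∈ V' := by
    intro w hw hwR
    have hwD : ∀ y ∈ D, w * y = y * w := by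
      intro y hy
      refine mul_inv_eq_iff_eq_mul.mp (mul_inv_eq_one.mp (hVR0 _ (h.ctx.cls w hw y hy.1) ?_))
      rw [show w * y * w⁻¹ * y⁻¹ = w * (y * w⁻¹ * y⁻¹) by group]
      exact mul_mem hwR (hYn y hy _ (inv_mem hwR))
    obtain ⟨v, hv, u, hu, rfl⟩ := h.mem_W_cases (hZD w hw hwD)
    have : v ∈ R := by simpa using mul_mem hwR (inv_mem (hV'R hu))
    rw [hVR0 v hv this, one_mul]
    exact hu
  have hXn : ∀ r ∈ R, r * v₀ = v₀ * r → ∀ p ∈ P, r * p * r⁻¹ ∈ P := fun r hr e p hp =>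
    h.ctx.nrm r (mem_normalizer_of_commute h.ctx.ti hv₀ hv₀1 e) p hp
  have hXY : ∀ y ∈ D, ∀ x ∈ R, x * v₀ = v₀ * x → y * x * y⁻¹ * x⁻¹ ∈ V' := by
    intro y hy x hx hxv
    refine hPR _ ?_ (mul_mem (hYn y hy x hx) (inv_mem hx))
    rw [show y * x * y⁻¹ * x⁻¹ = y * (x * y⁻¹ * x⁻¹) by group]
    exact mul_mem hy.1 (hXn x hx hxv _ (inv_mem hy.1))
  have hfix : ∀ y ∈ D, ∀ a ∈ V', y * a * y⁻¹ = a := fun y hy a ha => by
    rw [((hDmem y).mp hy).2 a ha, mul_inv_cancel_right]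
  have he : ∀ y ∈ D, ∀ r ∈ R, ∀ x ∈ R, x * v₀ = v₀ * x →
      (y * r * y⁻¹ * r⁻¹) * x = x * (y * r * y⁻¹ * r⁻¹) := by
    intro y hy r hr x hx hxv
    set e := y * r * y⁻¹ * r⁻¹ with hedef
    set d := y * x * y⁻¹ * x⁻¹ with hddef
    set k := r * x * r⁻¹ * x⁻¹ with hkdef
    have hk : k ∈ V' := hR'.cls r hr x hx
    have heR : e ∈ R := mul_mem (hYn y hy r hr) (inv_mem hr)
    have hd : d ∈ V' := hXY y hy x hx hxv
    have h1 : (e * r) * (d * x) = k * ((d * x) * (e * r)) := by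
      calc (e * r) * (d * x) = y * (r * x) * y⁻¹ := by rw [hedef, hddef]; group
        _ = y * (k * (x * r)) * y⁻¹ := by rw [hkdef]; group
        _ = (y * k * y⁻¹) * ((y * x * y⁻¹) * (y * r * y⁻¹)) := by group
        _ = k * ((d * x) * (e * r)) := by rw [hfix y hy k hk, hedef, hddef]; group
    have h2 : d * k * (e * x * r) = d * k * (x * e * r) := by
      calc d * k * (e * x * r) = d * (k * e) * (x * r) := by group
        _ = d * (e * k) * (x * r) := by rw [hR'.cen e heR k hk]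
        _ = (d * e) * (k * (x * r)) := by group
        _ = (d * e) * (r * x) := by rw [show k * (x * r) = r * x by rw [hkdef]; group]
        _ = (d * (e * r)) * x := by group
        _ = (e * r) * (d * x) := by rw [← hR'.cen _ (mul_mem heR hr) d hd, mul_assoc]
        _ = k * ((d * x) * (e * r)) := h1
        _ = (k * d) * (x * e * r) := by group
        _ = _ := by rw [hR'.cen k (hV'R hk) d hd]
    exact mul_right_cancel (mul_left_cancel h2)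
  -- `[v, r]`
  have hd : ∀ v ∈ V, ∀ r ∈ R, v * r * v⁻¹ * r⁻¹ ∈ R ∧
      (v * r * v⁻¹ * r⁻¹) * v = v * (v * r * v⁻¹ * r⁻¹) ∧
      (v * r * v⁻¹ * r⁻¹) * (v * r * v⁻¹ * r⁻¹) = 1 := by
    intro v hv r hr
    set d := v * r * v⁻¹ * r⁻¹ with hddef
    have hdR : d ∈ R := mul_mem (hVR v hv r hr) (inv_mem hr)
    have hinv : v * d * v⁻¹ = d⁻¹ := by
      rw [hddef, hinvV v hv]
      calc v * (v * r * v * r⁻¹) * v = (v * v) * (r * v * r⁻¹ * v) := by group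
        _ = r * v * r⁻¹ * v := by rw [h.ctx.sq v hv, one_mul]
        _ = r * v⁻¹ * r⁻¹ * v⁻¹ := by rw [hinvV v hv]
        _ = _ := by group
    have hdv : d * v = v * d := hA d hdR v hv (by
      rw [hinv, ← mul_inv_rev]; exact inv_mem (hR'.psq d hdR))
    refine ⟨hdR, hdv, ?_⟩
    rw [← hdv, mul_inv_cancel_right] at hinv
    nth_rewrite 1 [hinv]
    exact inv_mul_cancel d
  have hdX : ∀ v ∈ V, ∀ r ∈ R, (v * r * v⁻¹ * r⁻¹) * v₀ = v₀ * (v * r * v⁻¹ * r⁻¹) := by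
    intro v hv r hr
    by_cases hv1 : v = 1
    · rw [hv1]; group
    obtain ⟨hdR, hdv, -⟩ := hd v hv r hr
    have h1 : (v * r * v⁻¹ * r⁻¹) * v₀ * (v * r * v⁻¹ * r⁻¹)⁻¹ * v₀⁻¹ ∈ V :=
      comm_mem_of_mem_normalizer (mem_normalizer_of_commute h.ctx.ti hv hv1 hdv) hv₀
    have h2 : (v * r * v⁻¹ * r⁻¹) * v₀ * (v * r * v⁻¹ * r⁻¹)⁻¹ * v₀⁻¹ ∈ R := by
      rw [show (v * r * v⁻¹ * r⁻¹) * v₀ * (v * r * v⁻¹ * r⁻¹)⁻¹ * v₀⁻¹ =
        (v * r * v⁻¹ * r⁻¹) * (v₀ * (v * r * v⁻¹ * r⁻¹)⁻¹ * v₀⁻¹) by group]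
      exact mul_mem hdR (hVR v₀ hv₀ _ (inv_mem hdR))
    exact mul_inv_eq_iff_eq_mul.mp (mul_inv_eq_one.mp (hVR0 _ h1 h2))
  have hCX : ∀ w ∈ R, (∀ x ∈ R, x * v₀ = v₀ * x → w * x = x * w) → w * v₀ = v₀ * w := by
    intro w hw hwX
    obtain ⟨hdR, -, -⟩ := hd v₀ hv₀ w hw
    set d := v₀ * w * v₀⁻¹ * w⁻¹ with hddef
    refine hA w hw v₀ hv₀ (hR'.cP d fun r hr => ?_)
    obtain ⟨haR, haz, -⟩ := hd v₀ hv₀ r hr
    set a := v₀ * r * v₀⁻¹ * r⁻¹ with hadef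
    set k := r * w * r⁻¹ * w⁻¹ with hkdef
    have hk : k ∈ V' := hR'.cls r hr w hw
    have had : d * a = a * d := he v₀ (hVD hv₀) w hw a haR haz
    have h1 : a * r * (d * w) = k * (d * w * (a * r)) := by
      calc a * r * (d * w) = v₀ * (r * w) * v₀⁻¹ := by rw [hadef, hddef]; group
        _ = v₀ * (k * (w * r)) * v₀⁻¹ := by rw [hkdef]; group
        _ = (v₀ * k * v₀⁻¹) * ((v₀ * w * v₀⁻¹) * (v₀ * r * v₀⁻¹)) := by group
        _ = _ := by rw [hfix v₀ (hVD hv₀) k hk, hadef, hddef]; group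
    have h2 : a * (r * d) * w = a * (d * r) * w := by
      calc a * (r * d) * w = a * r * (d * w) := by group
        _ = k * (d * w * (a * r)) := h1
        _ = k * (d * (w * a) * r) := by group
        _ = k * ((d * a) * w * r) := by rw [hwX a haR haz]; group
        _ = k * (a * d) * (w * r) := by rw [had]; group
        _ = (a * d) * k * (w * r) := by rw [hR'.cen _ (mul_mem haR hdR) k hk]
        _ = _ := by rw [hkdef]; group
    exact (mul_left_cancel (mul_right_cancel h2)).symm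
  have hYX : ∀ y ∈ D, ∀ r ∈ R,
      y * r * y⁻¹ * r⁻¹ ∈ R ∧ (y * r * y⁻¹ * r⁻¹) * v₀ = v₀ * (y * r * y⁻¹ * r⁻¹) := fun y hy r hr =>
    ⟨mul_mem (hYn y hy r hr) (inv_mem hr),
      hCX _ (mul_mem (hYn y hy r hr) (inv_mem hr)) fun x hx hxz => he y hy r hr x hx hxz⟩
  have hcentR : ∀ v ∈ V, (∀ r ∈ R, v * r * v⁻¹ * r⁻¹ ∈ V') → v = 1 := fun v hv hh =>
    h.inf_one hv (hR'.cP v fun r hr => (hA r hr v hv (hh r hr)).symm)
  have hY2 : ∀ y ∈ D, y * y = 1 := by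
    intro y hy
    refine hcentR _ (h.ctx.psq y hy.1) fun r hr => ?_
    obtain ⟨heR, hez⟩ := hYX y hy r hr
    set u := y * r * y⁻¹ * r⁻¹ with hu
    have h1 : (y * y) * r * (y * y)⁻¹ * r⁻¹ = (y * u * y⁻¹ * u⁻¹) * (u * u) := by rw [hu]; group
    rw [h1]
    exact mul_mem (hXY y hy u heR hez) (hR'.psq u heR)
  have hYc : ∀ y₁ ∈ D, ∀ y₂ ∈ D, y₁ * y₂ = y₂ * y₁ := by
    intro y₁ h1 y₂ h2
    refine mul_inv_eq_iff_eq_mul.mp (mul_inv_eq_one.mp (hcentR _ (h.ctx.cls y₁ h1.1 y₂ h2.1) fun s hs => ?_))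
    set w := y₂ * y₁
    have hrR : w⁻¹ * s * w⁻¹⁻¹ ∈ R := hYn _ (inv_mem (mul_mem h2 h1)) s hs
    set r := w⁻¹ * s * w⁻¹⁻¹ with hrdef
    obtain ⟨a1R, a1z⟩ := hYX y₁ h1 r hrR
    obtain ⟨a2R, a2z⟩ := hYX y₂ h2 r hrR
    set a₁ := y₁ * r * y₁⁻¹ * r⁻¹ with ha1
    set a₂ := y₂ * r * y₂⁻¹ * r⁻¹ with ha2
    have hd1 : y₁ * a₂ * y₁⁻¹ * a₂⁻¹ ∈ V' := hXY y₁ h1 a₂ a2R a2z
    have hd2 : y₂ * a₁ * y₂⁻¹ * a₁⁻¹ ∈ V' := hXY y₂ h2 a₁ a1R a1z
    have hk : a₂ * a₁ * a₂⁻¹ * a₁⁻¹ ∈ V' := hR'.cls a₂ a2R a₁ a1R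
    set z := y₁ * y₂ * y₁⁻¹ * y₂⁻¹ with hzdef
    set d1 := y₁ * a₂ * y₁⁻¹ * a₂⁻¹
    set d2 := y₂ * a₁ * y₂⁻¹ * a₁⁻¹
    set k := a₂ * a₁ * a₂⁻¹ * a₁⁻¹
    have hs1 : s = d2 * (a₁ * a₂ * r) := by
      simp only [d2, ha1, ha2, hrdef, w]; group
    have hs2 : z * s * z⁻¹ = d1 * (a₂ * a₁ * r) := by
      simp only [d1, ha1, ha2, hrdef, w, hzdef]; group
    have : z * s * z⁻¹ * s⁻¹ = d1 * k * d2⁻¹ := by
      rw [hs2, hs1]
      simp only [k]; group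
    rw [this]
    exact mul_mem (mul_mem hd1 hk) (inv_mem hd2)
  have hDW : D = V ⊔ V' := le_antisymm (fun y hy => hZD y hy.1 fun y' hy' => hYc y hy y' hy') (sup_le hVD hV'D)
  -- cardinalities
  set a := Nat.card ↥V with hadef
  have hUW : ∀ u ∈ U, u ∈ V ⊔ V' → u = 1 := by
    intro u hu huW
    by_contra hu1
    obtain ⟨w, hw, hw1⟩ := h.exists_v'_ne
    exact hnc u hu hu1 w hw hw1 (((hDmem u).mp (hDW ▸ huW)).2 w hw)
  have hPcard : Nat.card ↥P = a * a * a := by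
    rw [← h.card_W]
    conv_rhs => arg 2; rw [← hUcard]
    rw [← Nat.card_prod]
    refine (Nat.card_eq_of_bijective
      (fun q : ↥(V ⊔ V') × ↥U => (⟨(q.2 : G) * q.1, mul_mem (hUP q.2.2) (h.W_le q.1.2)⟩ : ↥P)) ⟨?_, ?_⟩).symm
    · intro x y e
      have e' : (x.2 : G) * x.1 = (y.2 : G) * y.1 := congrArg Subtype.val e
      have h1 : (y.2 : G)⁻¹ * x.2 = 1 := hUW _ (mul_mem (inv_mem y.2.2) x.2.2) (by
        rw [show (y.2 : G)⁻¹ * x.2 = (y.2 : G)⁻¹ * ((x.2 : G) * x.1) * (x.1 : G)⁻¹ by group, e',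
          inv_mul_cancel_left]
        exact mul_mem y.1.2 (inv_mem x.1.2))
      have h2 := (inv_mul_eq_one.mp h1).symm
      rw [h2] at e'
      exact Prod.ext (Subtype.ext (mul_left_cancel e')) (Subtype.ext h2)
    · rintro ⟨p, hp⟩
      obtain ⟨u, hu, hd'⟩ := hdecU p hp
      exact ⟨(⟨u⁻¹ * p, hDW ▸ (hDmem _).mpr ⟨mul_mem (inv_mem (hUP hu)) hp, hd'⟩⟩, ⟨u, hu⟩),
        Subtype.ext (mul_inv_cancel_left u p)⟩
  have hbound : ∀ p ∈ P, p ∉ V → Nat.card ↥(P ⊓ centralizer ({p} : Set G)) ≤ a * a := by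
    intro p hp hpV
    by_cases hpW : p ∈ V ⊔ V'
    · obtain ⟨v, hv, u, hu, rfl⟩ := h.mem_W_cases hpW
      have hu1 : u ≠ 1 := fun e => hpV (by rw [e, mul_one]; exact hv)
      rw [← h.card_W, ← hDW]
      refine Subgroup.card_le_of_le fun c hc => (hDmem c).mpr ⟨hc.1, h.commute_all hc.1 hu hu1 ?_⟩
      have h1 : c * (v * u) = v * u * c := (mem_centralizer_singleton_iff.mp hc.2)
      calc c * u = v⁻¹ * (v * c) * u := by group
        _ = v⁻¹ * (c * (v * u)) := by rw [← h.ctx.cen c hc.1 v hv]; group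
        _ = u * c := by rw [h1]; group
    · set C := P ⊓ centralizer ({p} : Set G) with hCdef
      have hCW : ∀ c ∈ C, c ∈ V ⊔ V' → c ∈ V := by
        intro c hc hcW
        obtain ⟨v, hv, u, hu, rfl⟩ := h.mem_W_cases hcW
        by_cases hu1 : u = 1
        · rw [hu1, mul_one]; exact hv
        exfalso
        have h1 : v * u * p = p * (v * u) := mem_centralizer_singleton_iff.mp hc.2
        refine hpW (hDW ▸ (hDmem p).mpr ⟨hp, h.commute_all hp hu hu1 ?_⟩)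
        calc p * u = v⁻¹ * (v * p) * u := by group
          _ = v⁻¹ * (p * (v * u)) := by rw [← h.ctx.cen p hp v hv]; group
          _ = u * p := by rw [← h1]; group
      let S := (V ⊔ V').subgroupOf P
      let C' := C.subgroupOf P
      have hC' : Nat.card ↥C' = Nat.card ↥C := Nat.card_congr (subgroupOfEquivOfLe inf_le_left).toEquiv
      have hle : Nat.card ↥C' ≤ Nat.card ↥V * Nat.card (↥P ⧸ S) := by
        rw [← Nat.card_prod]
        let f : ↥C' → ↥P ⧸ S := fun c => QuotientGroup.mk (c : ↥P)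
        let s : ↥P ⧸ S → ↥C' := Function.invFun f
        have hs : ∀ c, f (s (f c)) = f c := fun c => Function.invFun_eq ⟨c, rfl⟩
        have hm : ∀ c : ↥C', (((s (f c) : ↥P) : G))⁻¹ * ((c : ↥P) : G) ∈ V := fun c => by
          have h1 : ((s (f c) : ↥C') : ↥P)⁻¹ * (c : ↥P) ∈ S := QuotientGroup.eq.mp (hs c)
          exact hCW _ (mul_mem (inv_mem (mem_subgroupOf.mp (s (f c)).2)) (mem_subgroupOf.mp c.2))
            (mem_subgroupOf.mp h1)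
        refine Nat.card_le_card_of_injective (fun c => ((⟨_, hm c⟩ : ↥V), f c)) fun c c' e => ?_
        obtain ⟨e1, e2⟩ := Prod.mk.injEq _ _ _ _ ▸ e
        have e1' := congrArg Subtype.val e1
        simp only [e2] at e1'
        exact Subtype.ext (Subtype.ext (mul_left_cancel e1'))
      have hq : Nat.card (↥P ⧸ S) = a := by
        have hm := Subgroup.card_eq_card_quotient_mul_card_subgroup S
        rw [hPcard, show Nat.card ↥S = Nat.card ↥(V ⊔ V') from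
          Nat.card_congr (subgroupOfEquivOfLe h.W_le).toEquiv, h.card_W] at hm
        have : 0 < a := Nat.card_pos
        exact Nat.eq_of_mul_eq_mul_right (Nat.mul_pos this this) (by rw [← hm]; ring)
      rw [hq, hC'] at hle
      exact hle
  -- transported to `R`
  have hboundR : ∀ e ∈ R, e ∉ V' → Nat.card ↥(R ⊓ centralizer ({e} : Set G)) ≤ a * a := by
    intro e he heV
    have he0 : g⁻¹ * e * g ∈ P := mem_conj_iff.mp he
    have heV0 : g⁻¹ * e * g ∉ V := fun hh => heV (hg ▸ mem_conj_iff.mpr hh)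
    refine le_trans ?_ (hbound _ he0 heV0)
    refine Nat.card_le_card_of_injective
      (fun c => (⟨g⁻¹ * (c : G) * g, mem_conj_iff.mp c.2.1, ?_⟩ : ↥(P ⊓ centralizer ({g⁻¹ * e * g} : Set G)))) ?_
    · refine mem_centralizer_singleton_iff.mpr ?_
      have := mem_centralizer_singleton_iff.mp c.2.2
      calc g⁻¹ * (c : G) * g * (g⁻¹ * e * g) = g⁻¹ * ((c : G) * e) * g := by group
        _ = _ := by rw [this]; group
    · intro c c' hcc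
      exact Subtype.ext (mul_left_cancel (mul_right_cancel (congrArg Subtype.val hcc :)))
  have hRcard : Nat.card ↥R = a * a * a := by rw [hR, card_conj, hPcard]
  set X := R ⊓ centralizer ({v₀} : Set G) with hXdef
  have hXmem : ∀ x, x ∈ X ↔ x ∈ R ∧ x * v₀ = v₀ * x := fun x =>
    ⟨fun hx => ⟨hx.1, mem_centralizer_singleton_iff.mp hx.2⟩,
      fun hx => ⟨hx.1, mem_centralizer_singleton_iff.mpr hx.2⟩⟩
  have hV'X : V' ≤ X := fun w hw => (hXmem w).mpr ⟨hV'R hw, h.ctx.cen w (h.le hw) v₀ hv₀⟩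
  -- `R / X` embeds in `X / V'`
  have hlow : a * a ≤ Nat.card ↥X := by
    let X' := X.subgroupOf R
    let W' := V'.subgroupOf X
    have hX' : Nat.card ↥X' = Nat.card ↥X := Nat.card_congr (subgroupOfEquivOfLe inf_le_left).toEquiv
    have hW' : Nat.card ↥W' = a := (Nat.card_congr (subgroupOfEquivOfLe hV'X).toEquiv).trans h.card_eq
    have hdR : ∀ r : ↥R, v₀ * r * v₀⁻¹ * (r : G)⁻¹ ∈ X := fun r =>
      (hXmem _).mpr ⟨(hd v₀ hv₀ r r.2).1, hdX v₀ hv₀ r r.2⟩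
    let F : ↥R ⧸ X' → ↥X ⧸ W' := fun q => QuotientGroup.mk ⟨_, hdR q.out⟩
    have hF : Function.Injective F := by
      intro q₁ q₂ e
      rw [← q₁.out_eq', ← q₂.out_eq']
      refine QuotientGroup.eq.mpr (mem_subgroupOf.mpr ?_)
      have h1 : (v₀ * q₁.out * v₀⁻¹ * (q₁.out : G)⁻¹)⁻¹ * (v₀ * q₂.out * v₀⁻¹ * (q₂.out : G)⁻¹) ∈ V' :=
        mem_subgroupOf.mp (QuotientGroup.eq.mp e)
      set r : G := ↑q₁.out with hr
      set s : G := ↑q₂.out with hs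
      have hrR : r ∈ R := q₁.out.2
      have hsR : s ∈ R := q₂.out.2
      have htR : r⁻¹ * s ∈ R := mul_mem (inv_mem hrR) hsR
      refine (hXmem _).mpr ⟨htR, hA _ htR v₀ hv₀ ?_⟩
      set D1 := (v₀ * r * v₀⁻¹ * r⁻¹)⁻¹ * (v₀ * s * v₀⁻¹ * s⁻¹) with hD1
      have e2 : v₀ * (r⁻¹ * s) * v₀⁻¹ * (r⁻¹ * s)⁻¹ = r⁻¹ * D1 * r := by rw [hD1]; group
      show v₀ * (r⁻¹ * s) * v₀⁻¹ * (r⁻¹ * s)⁻¹ ∈ V'
      rw [e2, mul_assoc, ← hR'.cen r hrR _ h1, inv_mul_cancel_left]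
      exact h1
    have h2 := Nat.card_le_card_of_injective F hF
    have m1 := Subgroup.card_eq_card_quotient_mul_card_subgroup X'
    have m2 := Subgroup.card_eq_card_quotient_mul_card_subgroup W'
    rw [hRcard, hX'] at m1
    rw [hW'] at m2
    have ha : 0 < a := Nat.card_pos
    by_contra hlt
    push Not at hlt
    have m3 : Nat.card (↥X ⧸ W') < a := by
      by_contra h3
      push Not at h3
      have := Nat.mul_le_mul_right a h3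
      omega
    have : a * a * a < a * (a * a) := by
      rw [m1]
      calc Nat.card (↥R ⧸ X') * Nat.card ↥X ≤ a * Nat.card ↥X := Nat.mul_le_mul_right _ (by omega)
        _ < a * (a * a) := (Nat.mul_lt_mul_left ha).mpr hlt
    rw [mul_assoc] at this
    exact lt_irrefl _ this
  -- an element moving `v₀`
  have hex : ∃ r ∈ R, r * v₀ ≠ v₀ * r := by
    by_contra hh
    push Not at hh
    exact hv₀1 (h.inf_one hv₀ (hR'.cP v₀ fun r hr => (hh r hr).symm))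
  obtain ⟨r, hr, hrv⟩ := hex
  obtain ⟨heR, hev, he2⟩ := hd v₀ hv₀ r hr
  set e := v₀ * r * v₀⁻¹ * r⁻¹ with hedef
  have heV : e ∉ V' := fun hh => hrv (hA r hr v₀ hv₀ hh)
  have her : r * e = e * r := by
    have h2 : (e * r) * (e * r) = r * r := by
      calc (e * r) * (e * r) = v₀ * (r * r) * v₀⁻¹ := by rw [hedef]; group
        _ = _ := hfix v₀ (hVD hv₀) _ (hR'.psq r hr)
    have h3 : e * r * e = r := mul_right_cancel (b := r) (by rw [← h2]; group)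
    calc r * e = (e * r * e) * e := by rw [h3]
      _ = e * r * (e * e) := by group
      _ = e * r := by rw [he2, mul_one]
  have hlt : X < R ⊓ centralizer ({e} : Set G) := by
    refine lt_of_le_of_ne (fun x hx => ⟨hx.1, mem_centralizer_singleton_iff.mpr
      (he v₀ (hVD hv₀) r hr x hx.1 ((hXmem x).mp hx).2).symm⟩) fun e0 => hrv ?_
    exact ((hXmem r).mp (e0 ▸ ⟨hr, mem_centralizer_singleton_iff.mpr her⟩)).2
  have h5 : Nat.card ↥X < Nat.card ↥(R ⊓ centralizer ({e} : Set G)) :=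
    lt_of_le_of_ne (Subgroup.card_le_of_le hlt.le) fun e0 => hlt.ne (Subgroup.eq_of_le_of_card_ge hlt.le e0.ge)
  have := hboundR e heR heV
  omega

end TIPair

end Cfsg.Agent.H46
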