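import Cfsg.Agent.H46.TIPair
import Cfsg.Agent.H46.SpreadComm
import Cfsg.Agent.Linear.Generation

/-!
The group generated by `C_Q(V)` and its conjugate induces `SL(2, q)` on `V ⊔ V'`.
-/

namespace Cfsg.Agent.H46

open Subgroup

noncomputable section

variable {G : Type*} [Group G] [Finite G]

/-- A type of size `m` without arithmetic. -/
structure FinBox (m : ℕ) : Type where
  /-- the index -/
  out : Fin m

/-- `FinBox m` is `Fin m`. -/
def finBoxEquiv (m : ℕ) : FinBox m ≃ Fin m := ⟨FinBox.out, FinBox.mk, fun _ => rfl, fun _ => rfl⟩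

/-- `V` as an additive group. -/
@[instance_reducible] def commGroupOfTI {V P : Subgroup G} (h : TICtx V P) : CommGroup ↥V :=
  { (inferInstance : Group ↥V) with
    mul_comm := fun a b => Subtype.ext (h.cen a (h.le a.2) b b.2) }

theorem TIPair.swap {V P V' : Subgroup G} (h : TIPair V P V') {g : G}
    (hg : V' = V.map (MulAut.conj g).toMonoidHom) :
    TIPair V' (P.map (MulAut.conj g).toMonoidHom) V := by
  refine ⟨hg ▸ h.ctx.map g, ⟨g⁻¹, ?_⟩, fun e => h.ne e.symm, h.symm hg⟩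
  rw [hg, Subgroup.map_map]
  convert (Subgroup.map_id V).symm using 2
  ext a
  show g⁻¹ * (g * a * g⁻¹) * g⁻¹⁻¹ = a
  group

set_option maxHeartbeats 1000000 in
theorem TIPair.sl_two {V P V' : Subgroup G} (h : TIPair V P V') {g : G}
    (hg : V' = V.map (MulAut.conj g).toMonoidHom)
    (hN : ((centralizer ((V ⊔ V' : Subgroup G) : Set G)).subgroupOf (P ⊔ P.map (MulAut.conj g).toMonoidHom)).Normal) :
    ∃ (F : Type) (_ : Field F) (_ : Fintype F), Fintype.card F = Nat.card ↥V ∧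
      Nonempty (↥(P ⊔ P.map (MulAut.conj g).toMonoidHom) ⧸
        (centralizer ((V ⊔ V' : Subgroup G) : Set G)).subgroupOf (P ⊔ P.map (MulAut.conj g).toMonoidHom) ≃*
          Matrix.SpecialLinearGroup (Fin 2) F) := by
  classical
  have hs := h.swap hg
  set R := P.map (MulAut.conj g).toMonoidHom with hR
  letI := commGroupOfTI h.ctx
  let A := Additive ↥V
  have hA2 : ∀ a : A, a + a = 0 := fun a => Subtype.ext (h.ctx.sq _ a.toMul.2)
  obtain ⟨w₁, hw₁, hw₁1⟩ := h.exists_v'_ne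
  obtain ⟨v₁, hv₁, hv₁1⟩ := h.exists_v_ne
  haveI : Nontrivial A := ⟨⟨Additive.ofMul ⟨v₁, hv₁⟩, 0, fun e => hv₁1 (congrArg (fun a : A => (a.toMul : G)) e)⟩⟩
  haveI : Finite (AddMonoid.End A) := Finite.of_injective (fun f : AddMonoid.End A => (f : A → A))
    DFunLike.coe_injective
  haveI : Nontrivial (AddMonoid.End A) := ⟨⟨1, 0, fun e =>
    hv₁1 (congrArg (fun a : A => (a.toMul : G)) (DFunLike.congr_fun e (Additive.ofMul (⟨v₁, hv₁⟩ : ↥V))) :)⟩⟩
  -- `d p w = [p, w]`
  have hdmem : ∀ p ∈ P, ∀ w : ↥V', p * w * p⁻¹ * (w : G)⁻¹ ∈ V := fun p hp w => h.ctx.cls p hp w (h.le w.2)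
  let d : ↥P → ↥V' →* ↥V := fun p =>
    { toFun := fun w => ⟨_, hdmem p p.2 w⟩
      map_one' := Subtype.ext (by simp)
      map_mul' := fun a b => Subtype.ext (by
        show (p : G) * (a * b : G) * (p : G)⁻¹ * (a * b : G)⁻¹ = _ * ((p : G) * b * (p : G)⁻¹ * (b : G)⁻¹)
        have e : ((p : G) * b * (p : G)⁻¹ * (b : G)⁻¹) * (a : G)⁻¹ = (a : G)⁻¹ * ((p : G) * b * (p : G)⁻¹ * (b : G)⁻¹) :=
          (h.ctx.cen _ (inv_mem (h.le a.2)) _ (hdmem p p.2 b)).symm
        show (p : G) * (a * b : G) * (p : G)⁻¹ * (a * b : G)⁻¹ =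
          ((p : G) * a * (p : G)⁻¹ * (a : G)⁻¹) * ((p : G) * b * (p : G)⁻¹ * (b : G)⁻¹)
        calc (p : G) * (a * b : G) * (p : G)⁻¹ * (a * b : G)⁻¹ =
              (p : G) * a * (p : G)⁻¹ * (((p : G) * b * (p : G)⁻¹ * (b : G)⁻¹) * (a : G)⁻¹) := by group
          _ = _ := by rw [e]; group) }
  have hd_apply : ∀ (p : ↥P) (w : ↥V'), ((d p w : ↥V) : G) = (p : G) * w * (p : G)⁻¹ * (w : G)⁻¹ := fun p w => rfl
  have hd_mul : ∀ (p q : ↥P) (w : ↥V'), d (p * q) w = d p w * d q w := fun p q w => Subtype.ext (by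
    show (p * q : G) * w * (p * q : G)⁻¹ * (w : G)⁻¹ = ((p : G) * w * (p : G)⁻¹ * (w : G)⁻¹) * ((q : G) * w * (q : G)⁻¹ * (w : G)⁻¹)
    have e := h.ctx.cen _ p.2 _ (hdmem q q.2 w)
    calc (p * q : G) * w * (p * q : G)⁻¹ * (w : G)⁻¹ =
          ((p : G) * ((q : G) * w * (q : G)⁻¹ * (w : G)⁻¹)) * (w * (p : G)⁻¹ * (w : G)⁻¹) := by group
      _ = ((q : G) * w * (q : G)⁻¹ * (w : G)⁻¹) * ((p : G) * w * (p : G)⁻¹ * (w : G)⁻¹) := by rw [e]; group
      _ = _ := (h.ctx.cen _ (h.ctx.le (hdmem p p.2 w)) _ (hdmem q q.2 w)).symm)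
  have hd_inj : ∀ p : ↥P, ∀ w : ↥V', w ≠ 1 → d p w = 1 → ∀ w', d p w' = 1 := fun p w hw e w' => by
    have e' : (p : G) * w = w * p := mul_inv_eq_iff_eq_mul.mp (mul_inv_eq_one.mp (congrArg Subtype.val e))
    refine Subtype.ext ?_
    show (p : G) * w' * (p : G)⁻¹ * (w' : G)⁻¹ = 1
    rw [h.commute_all p.2 w.2 (fun e1 => hw (Subtype.ext e1)) e' w' w'.2]
    group
  -- the identification `V' ≃ V`
  obtain ⟨p₀, hp₀⟩ : ∃ p : ↥P, Function.Bijective (d p) := by
    obtain ⟨p, hp, e⟩ := h.conj_full hw₁ hw₁1 hv₁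
    refine ⟨⟨p, hp⟩, (Nat.bijective_iff_injective_and_card _).mpr ⟨(injective_iff_map_eq_one _).mpr fun w hw => ?_, h.card_eq⟩⟩
    by_contra hw1
    have := congrArg Subtype.val (hd_inj ⟨p, hp⟩ w hw1 hw ⟨w₁, hw₁⟩)
    rw [hd_apply] at this
    simp only [e, mul_inv_cancel_right] at this
    exact hv₁1 this
  let φ : ↥V' ≃* ↥V := MulEquiv.ofBijective (d p₀) hp₀
  let ψ : A →+ Additive ↥V' := MonoidHom.toAdditive φ.symm.toMonoidHom
  let T : ↥P → AddMonoid.End A := fun p => (MonoidHom.toAdditive (d p)).comp ψ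
  have hT_apply : ∀ (p : ↥P) (x : A), T p x = Additive.ofMul (d p (φ.symm x.toMul)) := fun p x => rfl
  have hT0 : T p₀ = 1 := AddMonoidHom.ext fun x => congrArg Additive.ofMul (φ.apply_symm_apply x.toMul)
  let Thom : Additive ↥P →+ AddMonoid.End A :=
    AddMonoidHom.mk' (fun p => T p.toMul) fun p q => AddMonoidHom.ext fun x =>
      congrArg Additive.ofMul (hd_mul _ _ _)
  let S : AddSubgroup (AddMonoid.End A) := Thom.range
  have hmemS : ∀ p, T p ∈ S := fun p => ⟨Additive.ofMul p, rfl⟩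
  have hSmem : ∀ f ∈ S, ∃ p, T p = f := fun f ⟨p, hp⟩ => ⟨p.toMul, hp⟩
  have hSinj : ∀ f ∈ S, f ≠ 0 → Function.Bijective f := by
    intro f hf hf0
    obtain ⟨p, rfl⟩ := hSmem f hf
    rw [← Finite.injective_iff_bijective]
    refine (injective_iff_map_eq_zero _).mpr fun x hx => ?_
    by_contra hx0
    refine hf0 (AddMonoidHom.ext fun y => congrArg Additive.ofMul (hd_inj p (φ.symm x.toMul) ?_ (congrArg Additive.toMul hx) _))
    exact fun e => hx0 (by
      have := congrArg φ e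
      rw [φ.apply_symm_apply, map_one] at this
      exact congrArg Additive.ofMul this)
  -- `e r x = [r, x]`
  have hemem : ∀ r ∈ R, ∀ x : ↥V, r * x * r⁻¹ * (x : G)⁻¹ ∈ V' := fun r hr x => hs.ctx.cls r hr x (hs.le x.2)
  let e : ↥R → ↥V →* ↥V' := fun r =>
    { toFun := fun x => ⟨_, hemem r r.2 x⟩
      map_one' := Subtype.ext (by simp)
      map_mul' := fun a b => Subtype.ext (by
        show (r : G) * (a * b : G) * (r : G)⁻¹ * (a * b : G)⁻¹ =
          ((r : G) * a * (r : G)⁻¹ * (a : G)⁻¹) * ((r : G) * b * (r : G)⁻¹ * (b : G)⁻¹)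
        have e : ((r : G) * b * (r : G)⁻¹ * (b : G)⁻¹) * (a : G)⁻¹ = (a : G)⁻¹ * ((r : G) * b * (r : G)⁻¹ * (b : G)⁻¹) :=
          (hs.ctx.cen _ (inv_mem (hs.le a.2)) _ (hemem r r.2 b)).symm
        calc (r : G) * (a * b : G) * (r : G)⁻¹ * (a * b : G)⁻¹ =
              (r : G) * a * (r : G)⁻¹ * (((r : G) * b * (r : G)⁻¹ * (b : G)⁻¹) * (a : G)⁻¹) := by group
          _ = _ := by rw [e]; group) }
  let T' : ↥R → AddMonoid.End A := fun r => MonoidHom.toAdditive (φ.toMonoidHom.comp (e r))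
  -- graphs
  have hgraph : ∀ (r : ↥R), T' r ≠ 0 → ∃ p, T p * T' r = 1 := by
    intro r hr0
    have he_inj : ∀ x : ↥V, x ≠ 1 → e r x ≠ 1 := by
      intro x hx hex
      refine hr0 (AddMonoidHom.ext fun y => congrArg Additive.ofMul ?_)
      have e' : (r : G) * x = x * r := mul_inv_eq_iff_eq_mul.mp (mul_inv_eq_one.mp (congrArg Subtype.val hex))
      have : e r y.toMul = 1 := by
        refine Subtype.ext ?_
        show (r : G) * (y.toMul : G) * (r : G)⁻¹ * (y.toMul : G)⁻¹ = 1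
        rw [hs.commute_all r.2 x.2 (fun e1 => hx (Subtype.ext e1)) e' _ y.toMul.2]
        group
      show φ (e r y.toMul) = 1
      rw [this, map_one]
    let x₀ : ↥V := ⟨v₁, hv₁⟩
    have hx₀ : x₀ ≠ 1 := fun e1 => hv₁1 (congrArg Subtype.val e1)
    have hne0 := he_inj x₀ hx₀
    obtain ⟨p, hp, hpe⟩ := h.conj_full (e r x₀).2 (fun e1 => hne0 (Subtype.ext e1)) hv₁
    refine ⟨⟨p, hp⟩, AddMonoidHom.ext fun y => congrArg Additive.ofMul ?_⟩
    show d ⟨p, hp⟩ (φ.symm (φ (e r y.toMul))) = y.toMul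
    rw [φ.symm_apply_apply]
    have hsame : V.map (MulAut.conj (r : G)).toMonoidHom = V.map (MulAut.conj (p * g)).toMonoidHom := by
      have hrx : (r : G) * v₁ * (r : G)⁻¹ = v₁ * e r x₀ := by
        rw [← h.ctx.cen _ (h.le (e r x₀).2) v₁ hv₁]
        show _ = (r : G) * v₁ * (r : G)⁻¹ * v₁⁻¹ * v₁
        group
      refine h.conj_eq_of_mem (w := v₁ * e r x₀) ?_ ⟨v₁, hv₁, hrx⟩ ?_
      · rw [← hrx]; exact fun e1 => hv₁1 (conj_eq_one_iff.mp e1)
      · obtain ⟨v₂, hv₂, e2⟩ : ∃ v₂ ∈ V, g * v₂ * g⁻¹ = (e r x₀ : G) :=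
          (Subgroup.mem_map.mp (show (e r x₀ : G) ∈ V.map (MulAut.conj g).toMonoidHom from hg ▸ (e r x₀).2))
        refine ⟨v₂, hv₂, ?_⟩
        show p * g * v₂ * (p * g)⁻¹ = _
        rw [← hpe, ← e2]
        group
    have hy : (r : G) * (y.toMul : G) * (r : G)⁻¹ ∈ V.map (MulAut.conj (p * g)).toMonoidHom :=
      hsame ▸ conj_mem_conj _ y.toMul.2
    obtain ⟨v₂, hv₂, e2⟩ := hy
    have hw : g * v₂ * g⁻¹ ∈ V' := hg ▸ conj_mem_conj g hv₂
    have e3 : (d ⟨p, hp⟩ ⟨_, hw⟩ : G) * (g * v₂ * g⁻¹) = (y.toMul : G) * (e r y.toMul : G) := by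
      rw [← h.ctx.cen _ (h.le (e r y.toMul).2) _ y.toMul.2]
      show p * (g * v₂ * g⁻¹) * p⁻¹ * (g * v₂ * g⁻¹)⁻¹ * (g * v₂ * g⁻¹) =
        (r : G) * (y.toMul : G) * (r : G)⁻¹ * (y.toMul : G)⁻¹ * (y.toMul : G)
      have e2' : p * g * v₂ * (p * g)⁻¹ = (r : G) * (y.toMul : G) * (r : G)⁻¹ := e2
      rw [inv_mul_cancel_right, inv_mul_cancel_right, ← e2']
      group
    obtain ⟨e4, e5⟩ := h.W_cases_unique (d ⟨p, hp⟩ ⟨_, hw⟩).2 y.toMul.2 hw (e r y.toMul).2 e3
    have e6 : e r y.toMul = ⟨_, hw⟩ := Subtype.ext e5.symm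
    rw [e6]
    exact Subtype.ext e4
  have hgraph' : ∀ f ∈ S, f ≠ 0 → ∃ r, T' r ≠ 0 ∧ f * T' r = 1 := by
    intro f hf hf0
    obtain ⟨p, rfl⟩ := hSmem f hf
    let w : ↥V' := ⟨w₁, hw₁⟩
    have hw1 : w ≠ 1 := fun e1 => hw₁1 (congrArg Subtype.val e1)
    have hpw : d p w ≠ 1 := fun e1 => hf0 (AddMonoidHom.ext fun y => congrArg Additive.ofMul (hd_inj p w hw1 e1 _))
    obtain ⟨r, hr, hre⟩ := hs.conj_full (d p w).2 (fun e1 => hpw (Subtype.ext e1)) hw₁
    have her : e ⟨r, hr⟩ (d p w) = w := by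
      refine Subtype.ext ?_
      show r * (d p w : G) * r⁻¹ * (d p w : G)⁻¹ = w₁
      rw [hre, mul_inv_cancel_right]
    have hr0 : T' ⟨r, hr⟩ ≠ 0 := by
      intro h0
      have h1 : φ (e ⟨r, hr⟩ (d p w)) = 1 := congrArg Additive.toMul (DFunLike.congr_fun h0 (Additive.ofMul (d p w)))
      rw [her] at h1
      exact hw1 (φ.injective (h1.trans (map_one φ).symm))
    refine ⟨⟨r, hr⟩, hr0, ?_⟩
    obtain ⟨q, hq⟩ := hgraph ⟨r, hr⟩ hr0
    have h1 : d q w = d p w := by
      have h2 : d q (φ.symm (φ (e ⟨r, hr⟩ (d p w)))) = d p w :=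
        congrArg Additive.toMul (DFunLike.congr_fun hq (Additive.ofMul (d p w)))
      rwa [φ.symm_apply_apply, her] at h2
    have h3 : T q = T p := by
      refine sub_eq_zero.mp ?_
      by_contra hne
      have hb := hSinj _ (sub_mem (hmemS q) (hmemS p)) hne
      have : (T q - T p) (Additive.ofMul (φ w)) = (T q - T p) 0 := by
        rw [map_zero]
        show T q _ - T p _ = 0
        rw [hT_apply, hT_apply, toMul_ofMul, φ.symm_apply_apply, h1, sub_self]
      exact hw1 (φ.injective ((congrArg Additive.toMul (hb.1 this)).trans (map_one φ).symm))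
    rw [← h3]; exact hq
  have hrev : ∀ (p : AddMonoid.End A) (q : AddMonoid.End A), p * q = 1 → q * p = 1 := by
    intro p q hpq
    have hqi : Function.Injective q := fun x y e => by
      have hx := DFunLike.congr_fun hpq x
      have hy := DFunLike.congr_fun hpq y
      calc x = p (q x) := hx.symm
        _ = p (q y) := by rw [e]
        _ = y := hy
    refine AddMonoidHom.ext fun x => ?_
    obtain ⟨y, rfl⟩ := (Finite.injective_iff_surjective.mp hqi) x
    show q (p (q y)) = q y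
    exact congrArg q (DFunLike.congr_fun hpq y)
  have hnz : ∀ f q : AddMonoid.End A, f * q = 1 → f ≠ 0 := fun f q hfq e => one_ne_zero (α := AddMonoid.End A) (by rw [← hfq, e, zero_mul])
  let T'hom : Additive ↥R →+ AddMonoid.End A :=
    AddMonoidHom.mk' (fun r => T' r.toMul) fun r q => AddMonoidHom.ext fun x => by
      refine congrArg Additive.ofMul (?_ : φ _ = φ _ * φ _)
      rw [← map_mul]
      congr 1
      refine Subtype.ext ?_
      show (r.toMul * q.toMul : G) * x.toMul * (r.toMul * q.toMul : G)⁻¹ * (x.toMul : G)⁻¹ =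
        ((r.toMul : G) * x.toMul * (r.toMul : G)⁻¹ * (x.toMul : G)⁻¹) * ((q.toMul : G) * x.toMul * (q.toMul : G)⁻¹ * (x.toMul : G)⁻¹)
      have e := hs.ctx.cen _ r.toMul.2 _ (hemem q.toMul q.toMul.2 x.toMul)
      calc (r.toMul * q.toMul : G) * x.toMul * (r.toMul * q.toMul : G)⁻¹ * (x.toMul : G)⁻¹ =
            ((r.toMul : G) * ((q.toMul : G) * x.toMul * (q.toMul : G)⁻¹ * (x.toMul : G)⁻¹)) * (x.toMul * (r.toMul : G)⁻¹ * (x.toMul : G)⁻¹) := by group
        _ = ((q.toMul : G) * x.toMul * (q.toMul : G)⁻¹ * (x.toMul : G)⁻¹) * ((r.toMul : G) * x.toMul * (r.toMul : G)⁻¹ * (x.toMul : G)⁻¹) := by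
            rw [e]; group
        _ = _ := (hs.ctx.cen _ (hs.ctx.le (hemem r.toMul r.toMul.2 x.toMul)) _ (hemem q.toMul q.toMul.2 x.toMul)).symm
  let S' : AddSubgroup (AddMonoid.End A) := T'hom.range
  have hS'mem : ∀ f ∈ S', ∃ r, T' r = f := fun f ⟨r, hr⟩ => ⟨r.toMul, hr⟩
  have hmemS' : ∀ r, T' r ∈ S' := fun r => ⟨Additive.ofMul r, rfl⟩
  have inv₁ : ∀ f ∈ S, f ≠ 0 → ∃ f' ∈ S', f * f' = 1 := fun f hf hf0 => by
    obtain ⟨r, -, hr⟩ := hgraph' f hf hf0
    exact ⟨_, hmemS' r, hr⟩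
  have inv₂ : ∀ f ∈ S', f ≠ 0 → ∃ f' ∈ S, f * f' = 1 := fun f hf hf0 => by
    obtain ⟨r, rfl⟩ := hS'mem f hf
    obtain ⟨p, hp⟩ := hgraph r hf0
    exact ⟨_, hmemS p, hrev _ _ hp⟩
  have hchar : ∀ f : AddMonoid.End A, f + f = 0 := fun f => AddMonoidHom.ext fun x => hA2 (f x)
  -- Hua's identity
  have hua : ∀ f ∈ S, ∀ b ∈ S', f * b * f ∈ S := by
    intro f hf b hb
    by_cases hf0 : f = 0
    · simp [hf0]
    by_cases hb0 : b = 0
    · simp [hb0]
    obtain ⟨b', hb', hbb⟩ := inv₂ b hb hb0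
    by_cases hD : b' + f = 0
    · have : b' = f := (eq_neg_of_add_eq_zero_left hD).trans (neg_eq_of_add_eq_zero_right (hchar f))
      rw [← this, mul_assoc, hbb, mul_one]; exact hb'
    obtain ⟨f', hf', hff⟩ := inv₁ f hf hf0
    obtain ⟨D', hD', hDD⟩ := inv₁ _ (add_mem hb' hf) hD
    have hsum : f' + D' = f' * b' * D' := by
      calc f' + D' = f' * ((b' + f) * D') + f' * f * D' := by rw [hDD, mul_one, hrev _ _ hff, one_mul]
        _ = f' * b' * D' + (f' * f * D' + f' * f * D') := by noncomm_ring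
        _ = _ := by rw [hchar, add_zero]
    have hinv : (f' + D') * ((b' + f) * b * f) = 1 := by
      rw [hsum]
      calc f' * b' * D' * ((b' + f) * b * f) = f' * b' * (D' * (b' + f)) * b * f := by noncomm_ring
        _ = f' * (b' * b) * f := by rw [hrev _ _ hDD]; noncomm_ring
        _ = _ := by rw [hrev _ _ hbb, mul_one, hrev _ _ hff]
    obtain ⟨E', hE', hEE⟩ := inv₂ _ (add_mem hf' hD') (hnz _ _ hinv)
    have hu : (b' + f) * b * f = E' := by
      calc (b' + f) * b * f = (E' * (f' + D')) * ((b' + f) * b * f) := by rw [hrev _ _ hEE, one_mul]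
        _ = E' := by rw [mul_assoc, hinv, mul_one]
    have e1 : f * b * f = E' + f := by
      rw [← hu, add_mul, hrev _ _ hbb, add_mul, one_mul]
      rw [add_comm f (f * b * f), add_assoc, hchar, add_zero]
    rw [e1]; exact add_mem hE' hf
  have h1S : (1 : AddMonoid.End A) ∈ S := hT0 ▸ hmemS p₀
  have hS'S : ∀ b ∈ S', b ∈ S := fun b hb => by simpa using hua 1 h1S b hb
  have hSS' : ∀ b ∈ S, b ∈ S' := fun b hb => by
    by_cases hb0 : b = 0
    · rw [hb0]; exact zero_mem _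
    obtain ⟨b', hb', hbb⟩ := inv₁ b hb hb0
    obtain ⟨b'', hb'', hbb'⟩ := inv₁ b' (hS'S b' hb') (hnz _ _ (hrev _ _ hbb))
    have : b = b'' := by
      calc b = b * (b' * b'') := by rw [hbb', mul_one]
        _ = b'' := by rw [← mul_assoc, hbb, one_mul]
    rw [this]; exact hb''
  have hcomm := spread_comm hA2 S h1S (fun f hf b hb => hua f hf b (hSS' b hb)) hSinj
  have hmul : ∀ f ∈ S, ∀ b ∈ S, f * b ∈ S := by
    intro f hf b hb
    have hsq : Function.Bijective (fun c : ↥S => (⟨(c : AddMonoid.End A) * c, by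
        simpa using hua c c.2 1 (hSS' 1 h1S)⟩ : ↥S)) := by
      rw [← Finite.injective_iff_bijective]
      intro c c' hcc
      have hcc' : (c : AddMonoid.End A) * c = c' * c' := congrArg Subtype.val hcc
      by_contra hne
      have hz : ((c : AddMonoid.End A) + c') * ((c : AddMonoid.End A) + c') = 0 := by
        rw [add_mul, mul_add, mul_add, hcc', hcomm c c.2 c' c'.2]
        have := hchar ((c' : AddMonoid.End A) * c' + c' * c)
        rw [← this]; abel
      by_cases h0 : (c : AddMonoid.End A) + c' = 0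
      · exact hne (Subtype.ext ((eq_neg_of_add_eq_zero_left h0).trans (neg_eq_of_add_eq_zero_right (hchar _))))
      obtain ⟨q, -, hq⟩ := inv₁ _ (add_mem c.2 c'.2) h0
      refine h0 ?_
      calc (c : AddMonoid.End A) + c' = ((c : AddMonoid.End A) + c') * ((c : AddMonoid.End A) + c') * q := by
            rw [mul_assoc, hq, mul_one]
        _ = 0 := by rw [hz, zero_mul]
    obtain ⟨c, hc⟩ := hsq.2 ⟨b, hb⟩
    have hcb : (c : AddMonoid.End A) * c = b := congrArg Subtype.val hc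
    rw [← hcb, ← mul_assoc, hcomm f hf c c.2]
    exact hua c c.2 f (hSS' f hf)
  -- the field
  let K : Subring (AddMonoid.End A) :=
    { carrier := {f | f ∈ S}
      mul_mem' := fun hf hb => hmul _ hf _ hb
      one_mem' := h1S
      add_mem' := fun {f b} (hf : f ∈ S) (hb : b ∈ S) => S.add_mem hf hb
      zero_mem' := zero_mem S
      neg_mem' := fun {f} (hf : f ∈ S) => S.neg_mem hf }
  letI : CommRing ↥K :=
    { (inferInstance : Ring ↥K) with mul_comm := fun a b => Subtype.ext (hcomm a a.2 b b.2) }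
  haveI : IsDomain ↥K := by
    haveI : Nontrivial ↥K := ⟨⟨1, 0, fun e => one_ne_zero (α := AddMonoid.End A) (congrArg Subtype.val e)⟩⟩
    haveI : NoZeroDivisors ↥K := ⟨fun {a b} hab => by
      by_contra hh
      push Not at hh
      obtain ⟨q, -, hq⟩ := inv₁ _ a.2 (fun e => hh.1 (Subtype.ext e))
      refine hh.2 (Subtype.ext ?_)
      calc (b : AddMonoid.End A) = q * ((a : AddMonoid.End A) * b) := by rw [← mul_assoc, hrev _ _ hq, one_mul]
        _ = 0 := by rw [show (a : AddMonoid.End A) * b = 0 from congrArg Subtype.val hab, mul_zero]⟩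
    exact NoZeroDivisors.to_isDomain _
  haveI : Finite ↥K := Finite.of_injective (fun f : ↥K => ((f : AddMonoid.End A) : A → A))
    (fun f f' he => Subtype.ext (DFunLike.coe_injective he))
  obtain ⟨m, ⟨eK⟩⟩ := Finite.exists_equiv_fin ↥K
  letI : Field ↥K := (Finite.isField_of_domain ↥K).toField
  let a₁ : A := Additive.ofMul ⟨v₁, hv₁⟩
  have ha₁ : a₁ ≠ 0 := fun e1 => hv₁1 (congrArg (fun a : A => (a.toMul : G)) e1)
  have hev : Function.Bijective (fun f : ↥K => (f : AddMonoid.End A) a₁) := by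
    refine ⟨fun f f' e1 => ?_, fun x => ?_⟩
    · refine Subtype.ext (sub_eq_zero.mp ?_)
      by_contra hne
      refine ha₁ ((hSinj _ (sub_mem f.2 f'.2) hne).1 ?_)
      rw [map_zero]
      exact sub_eq_zero.mpr e1
    · by_cases hx : x = 0
      · exact ⟨0, by rw [hx]; rfl⟩
      have hw : φ.symm ⟨v₁, hv₁⟩ ≠ 1 := fun e1 => hv₁1 (congrArg Subtype.val (φ.symm.injective (e1.trans (map_one φ.symm).symm)))
      obtain ⟨p, hp, hpe⟩ := h.conj_full (φ.symm ⟨v₁, hv₁⟩).2 (fun e1 => hw (Subtype.ext e1)) x.toMul.2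
      refine ⟨⟨T ⟨p, hp⟩, hmemS _⟩, congrArg Additive.ofMul (Subtype.ext ?_)⟩
      show p * (φ.symm ⟨v₁, hv₁⟩ : G) * p⁻¹ * (φ.symm ⟨v₁, hv₁⟩ : G)⁻¹ = x.toMul
      rw [hpe, mul_inv_cancel_right]
  let eA : ↥K ≃ A := Equiv.ofBijective _ hev
  have heA : ∀ f f' : ↥K, eA (f * f') = (f : AddMonoid.End A) (eA f') := fun f f' => rfl
  have heA_add : ∀ f f' : ↥K, eA (f + f') = eA f + eA f' := fun f f' => rfl
  -- coordinates on `V ⊔ V'`
  let W := V ⊔ V'
  let cW : (Fin 2 → ↥K) → ↥W := fun c =>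
    ⟨((eA (c 0)).toMul : G) * (φ.symm (eA (c 1)).toMul : G), mul_mem_sup (eA (c 0)).toMul.2 (φ.symm (eA (c 1)).toMul).2⟩
  have hcW : Function.Bijective cW := by
    refine ⟨fun c c' e1 => ?_, fun w => ?_⟩
    · obtain ⟨e2, e3⟩ := h.W_cases_unique (eA (c 0)).toMul.2 (eA (c' 0)).toMul.2
        (φ.symm (eA (c 1)).toMul).2 (φ.symm (eA (c' 1)).toMul).2 (congrArg Subtype.val e1)
      funext i
      fin_cases i
      · exact eA.injective (Additive.toMul.injective (Subtype.ext e2))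
      · exact eA.injective (Additive.toMul.injective (φ.symm.injective (Subtype.ext e3)))
    · obtain ⟨v, hv, u, hu, e1⟩ := h.mem_W_cases w.2
      refine ⟨![eA.symm (Additive.ofMul ⟨v, hv⟩), eA.symm (Additive.ofMul (φ ⟨u, hu⟩))], Subtype.ext ?_⟩
      simp [cW, e1]
  let eW := Equiv.ofBijective cW hcW
  set H := P ⊔ R with hH
  have hHW : ∀ x ∈ H, x ∈ normalizer (W : Set G) := by
    have hPn : ∀ (V₀ P₀ V₁ : Subgroup G), TIPair V₀ P₀ V₁ → ∀ p ∈ P₀, p ∈ normalizer ((V₀ ⊔ V₁ : Subgroup G) : Set G) := by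
      intro V₀ P₀ V₁ h₀ p hp
      refine mem_normalizer_iff.mpr fun w => ⟨fun hw => h₀.W_normal hp hw, fun hw => ?_⟩
      have := h₀.W_normal (inv_mem hp) hw
      rwa [show p⁻¹ * (p * w * p⁻¹) * p⁻¹⁻¹ = w by group] at this
    refine fun x hx => (sup_le (fun p hp => hPn _ _ _ h p hp) (fun r hr => ?_) : H ≤ _) hx
    have := hPn _ _ _ hs r hr
    rwa [sup_comm] at this
  let ρ : ↥H →* Equiv.Perm ↥W :=
    { toFun := fun x =>
        { toFun := fun w => ⟨(x : G) * w * (x : G)⁻¹, (mem_normalizer_iff.mp (hHW x x.2) w).mp w.2⟩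
          invFun := fun w => ⟨(x : G)⁻¹ * w * (x : G), by
            have := (mem_normalizer_iff.mp (inv_mem (hHW x x.2)) w).mp w.2
            rwa [inv_inv] at this⟩
          left_inv := fun w => Subtype.ext (by group)
          right_inv := fun w => Subtype.ext (by group) }
      map_one' := Equiv.ext fun w => Subtype.ext (by
        show ((1 : ↥H) : G) * w * ((1 : ↥H) : G)⁻¹ = w
        simp)
      map_mul' := fun a b => Equiv.ext fun w => Subtype.ext (by
        show (a * b : G) * w * (a * b : G)⁻¹ = a * (b * w * (b : G)⁻¹) * (a : G)⁻¹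
        group) }
  let σ : Matrix.SpecialLinearGroup (Fin 2) ↥K →* Equiv.Perm ↥W :=
    eW.permCongrHom.toMonoidHom.comp (MulAction.toPermHom _ (Fin 2 → ↥K))
  have hσ : Function.Injective σ := fun a b e1 => Linear.SL_ext_smul fun c => by
    have := Equiv.congr_fun (eW.permCongrHom.injective e1) c
    exact this
  have h01 : (0 : Fin 2) ≠ 1 := by decide
  have hP' : ∀ (p : ↥P), σ (Matrix.SpecialLinearGroup.transvection h01 (⟨T p, hmemS p⟩ : ↥K)) = ρ ⟨p, mem_sup_left p.2⟩ := by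
    intro p
    refine Equiv.ext fun w => ?_
    obtain ⟨c, rfl⟩ := eW.surjective w
    show eW ((Matrix.SpecialLinearGroup.transvection h01 (⟨T p, hmemS p⟩ : ↥K)) • eW.symm (eW c)) = _
    rw [eW.symm_apply_apply]
    refine Subtype.ext ?_
    show ((eA _).toMul : G) * (φ.symm (eA _).toMul : G) = (p : G) * (((eA (c 0)).toMul : G) * (φ.symm (eA (c 1)).toMul : G)) * (p : G)⁻¹
    rw [Linear.transvection_smul_apply h01, Linear.transvection_smul_apply h01, if_pos rfl, if_neg h01.symm, add_zero,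
      heA_add, heA]
    show ((eA (c 0)).toMul : G) * ((p : G) * (φ.symm (eA (c 1)).toMul : G) * (p : G)⁻¹ * (φ.symm (eA (c 1)).toMul : G)⁻¹) *
      (φ.symm (eA (c 1)).toMul : G) = _
    rw [show (p : G) * (((eA (c 0)).toMul : G) * (φ.symm (eA (c 1)).toMul : G)) * (p : G)⁻¹ =
      ((p : G) * ((eA (c 0)).toMul : G)) * ((φ.symm (eA (c 1)).toMul : G) * (p : G)⁻¹) by group,
      h.ctx.cen _ p.2 _ (eA (c 0)).toMul.2]
    group
  have hR' : ∀ (r : ↥R), σ (Matrix.SpecialLinearGroup.transvection h01.symm (⟨T' r, hS'S _ (hmemS' r)⟩ : ↥K)) = ρ ⟨r, mem_sup_right r.2⟩ := by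
    intro r
    refine Equiv.ext fun w => ?_
    obtain ⟨c, rfl⟩ := eW.surjective w
    show eW ((Matrix.SpecialLinearGroup.transvection h01.symm (⟨T' r, hS'S _ (hmemS' r)⟩ : ↥K)) • eW.symm (eW c)) = _
    rw [eW.symm_apply_apply]
    refine Subtype.ext ?_
    show ((eA _).toMul : G) * (φ.symm (eA _).toMul : G) = (r : G) * (((eA (c 0)).toMul : G) * (φ.symm (eA (c 1)).toMul : G)) * (r : G)⁻¹
    rw [Linear.transvection_smul_apply h01.symm, Linear.transvection_smul_apply h01.symm, if_neg h01, if_pos rfl, add_zero,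
      heA_add, heA]
    set x := (eA (c 0)).toMul with hx
    set u := φ.symm (eA (c 1)).toMul with hu
    show (x : G) * (φ.symm ((eA (c 1)).toMul * φ (e r x)) : G) = _
    rw [map_mul, φ.symm_apply_apply, ← hu]
    show (x : G) * ((u : G) * ((r : G) * x * (r : G)⁻¹ * (x : G)⁻¹)) = _
    have hru : (r : G) * u = u * r := hs.ctx.cen _ r.2 _ u.2
    rw [hs.ctx.cen _ (hs.ctx.le u.2) _ (hemem r r.2 x) ]
    calc (x : G) * ((r : G) * x * (r : G)⁻¹ * (x : G)⁻¹ * u) =
          (x : G) * ((r : G) * x * (r : G)⁻¹ * (x : G)⁻¹) * u := by group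
      _ = (r : G) * x * (r : G)⁻¹ * u := by
          rw [← h.ctx.cen _ (h.le (hemem r r.2 x)) _ x.2]; group
      _ = (r : G) * x * ((r : G)⁻¹ * u) := by group
      _ = (r : G) * x * (u * (r : G)⁻¹) := by
          rw [show (r : G)⁻¹ * u = u * (r : G)⁻¹ from (Commute.inv_left (show Commute (r : G) u from hru)).eq]
      _ = _ := by group
  have hrange : ρ.range = σ.range := by
    apply le_antisymm
    · have htop : P.subgroupOf H ⊔ R.subgroupOf H = ⊤ := by
        rw [← subgroupOf_sup le_sup_left le_sup_right, subgroupOf_self]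
      rw [MonoidHom.range_eq_map, ← htop, Subgroup.map_sup]
      refine sup_le ?_ ?_
      · rintro _ ⟨x, hx, rfl⟩
        exact ⟨_, hP' ⟨x, hx⟩⟩
      · rintro _ ⟨x, hx, rfl⟩
        exact ⟨_, hR' ⟨x, hx⟩⟩
    · rintro _ ⟨M, rfl⟩
      induction M using Linear.transvection_induction with
      | one => rw [map_one]; exact one_mem _
      | htr i j hij c =>
        obtain ⟨p, hp⟩ := hSmem _ c.2
        obtain ⟨r, hr⟩ := hS'mem _ (hSS' _ c.2)
        have hc1 : c = ⟨T p, hmemS p⟩ := Subtype.ext hp.symm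
        have hc2 : c = ⟨T' r, hS'S _ (hmemS' r)⟩ := Subtype.ext hr.symm
        fin_cases i <;> fin_cases j
        · exact absurd rfl hij
        · rw [hc1]; exact ⟨_, (hP' p).symm⟩
        · rw [hc2]; exact ⟨_, (hR' r).symm⟩
        · exact absurd rfl hij
      | hmul a b ha hb => rw [map_mul]; exact mul_mem ha hb
  have hker : ρ.ker = (centralizer (W : Set G)).subgroupOf H := by
    ext x
    rw [MonoidHom.mem_ker, mem_subgroupOf, mem_centralizer_iff]
    constructor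
    · intro hx w hw
      exact (mul_inv_eq_iff_eq_mul.mp (congrArg Subtype.val (Equiv.congr_fun hx ⟨w, hw⟩))).symm
    · intro hx
      refine Equiv.ext fun w => Subtype.ext ?_
      show (x : G) * w * (x : G)⁻¹ = w
      rw [← hx w w.2, mul_inv_cancel_right]
  let e1 : ↥H ⧸ (centralizer (W : Set G)).subgroupOf H ≃* Matrix.SpecialLinearGroup (Fin 2) ↥K :=
    (QuotientGroup.quotientMulEquivOfEq hker.symm).trans ((QuotientGroup.quotientKerEquivRange ρ).trans
      ((MulEquiv.subgroupCongr hrange).trans (MonoidHom.ofInjective hσ).symm))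
  let eB : ↥K ≃ FinBox m := eK.trans (finBoxEquiv m).symm
  haveI : Finite (FinBox m) := Finite.of_equiv _ (finBoxEquiv m).symm
  letI ft : Fintype (FinBox m) := Fintype.ofEquiv _ (finBoxEquiv m).symm
  letI fm : Field (FinBox m) := eB.symm.field
  let rK : ↥K ≃+* FinBox m :=
    { eB with
      map_mul' := fun x y => by
        show eB (x * y) = eB (eB.symm (eB x) * eB.symm (eB y))
        rw [eB.symm_apply_apply, eB.symm_apply_apply]
      map_add' := fun x y => by
        show eB (x + y) = eB (eB.symm (eB x) + eB.symm (eB y))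
        rw [eB.symm_apply_apply, eB.symm_apply_apply] }
  have hmap : Function.Bijective (Matrix.SpecialLinearGroup.map (n := Fin 2) rK.toRingHom) := by
    refine ⟨fun a b hab => Subtype.ext (Matrix.map_injective rK.injective (congrArg Subtype.val hab)), fun b => ?_⟩
    refine ⟨Matrix.SpecialLinearGroup.map rK.symm.toRingHom b, Subtype.ext ?_⟩
    ext i j
    exact rK.apply_symm_apply _
  refine ⟨FinBox m, fm, ft, ?_, ⟨e1.trans (MulEquiv.ofBijective _ hmap)⟩⟩
  rw [← Nat.card_eq_fintype_card, ← Nat.card_congr eB]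
  exact Nat.card_congr (eA.trans Additive.toMul)

end

end Cfsg.Agent.H46
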