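import Cfsg.Agent.H46.CoprimeClasses

/-!
Groups whose two largest class sizes are coprime (Bertram, Herzog, Mann): there are no other
class sizes, so they are quasi-Frobenius.
-/

set_option autoImplicit false

namespace Cfsg.Agent.H46.TwoLargest

open Subgroup Cfsg.Agent.Cores CoprimeClasses
open scoped commutatorElement

variable {G : Type*} [Group G]

theorem cs_congr_center {k c : G} (hc : c ∈ center G) : cs (k * c) = cs k := by
  have : centralizer ({k * c} : Set G) = centralizer ({k} : Set G) := by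
    ext g
    have h := mem_center_iff.mp hc g
    simp only [mem_centralizer_singleton_iff]
    constructor
    · intro e
      rw [← mul_assoc, mul_assoc k c g, ← h, ← mul_assoc] at e
      exact mul_right_cancel e
    · intro e
      rw [← mul_assoc, e, mul_assoc, h, ← mul_assoc]
  rw [cs, this]; rfl

theorem centralizer_le_of_mem_zpowers {x y : G} (h : y ∈ zpowers x) :
    centralizer ({x} : Set G) ≤ centralizer ({y} : Set G) := by
  intro g hg
  obtain ⟨i, rfl⟩ := mem_zpowers_iff.mp h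
  exact mem_centralizer_singleton_iff.mpr
    (Commute.zpow_right (mem_centralizer_singleton_iff.mp hg) i)

theorem mem_zpowers_mul {u v : G} (huv : Commute u v) (hc : (orderOf u).Coprime (orderOf v)) :
    u ∈ zpowers (u * v) := by
  have h : u ^ orderOf v ∈ zpowers (u * v) :=
    ⟨(orderOf v : ℤ), by simp [huv.mul_pow, pow_orderOf_eq_one]⟩
  obtain ⟨k, hk⟩ := exists_pow_eq_self_of_coprime hc.symm
  have h' := pow_mem h k
  rwa [hk] at h'

theorem mem_of_pow_mem {K : Subgroup G} {g : G} {a b : ℕ} (hab : a.Coprime b) (ha : g ^ a ∈ K)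
    (hb : g ^ b ∈ K) : g ∈ K := by
  have e : g = (g ^ a) ^ Nat.gcdA a b * (g ^ b) ^ Nat.gcdB a b := by
    rw [← zpow_natCast g a, ← zpow_natCast g b, ← zpow_mul, ← zpow_mul, ← zpow_add,
      ← Nat.gcd_eq_gcd_ab, hab.gcd_eq_one, Nat.cast_one, zpow_one]
  rw [e]
  exact mul_mem (zpow_mem ha _) (zpow_mem hb _)

variable [Finite G]

theorem eq_of_le_of_cs_eq {u v : G} (h : centralizer ({u} : Set G) ≤ centralizer ({v} : Set G))
    (he : cs u = cs v) : centralizer ({u} : Set G) = centralizer ({v} : Set G) := by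
  refine eq_of_le_of_card_ge h (le_of_eq ?_)
  have h1 := (centralizer ({u} : Set G)).card_mul_index
  have h2 := (centralizer ({v} : Set G)).card_mul_index
  change _ * cs u = _ at h1
  change _ * cs v = _ at h2
  rw [he, ← h2] at h1
  exact (Nat.eq_of_mul_eq_mul_right (Nat.pos_of_ne_zero index_ne_zero_of_finite) h1).symm

theorem cs_pos (x : G) : 0 < cs x := Nat.pos_of_ne_zero index_ne_zero_of_finite

theorem cs_conj (g x : G) : cs (g * x * g⁻¹) = cs x := by
  rw [← card_class, ← card_class]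
  refine Nat.card_congr (Equiv.subtypeEquivRight fun a => ?_)
  exact ⟨(isConj_iff.mpr ⟨g, rfl⟩ : IsConj x (g * x * g⁻¹)).trans,
    (isConj_iff.mpr ⟨g⁻¹, by group⟩ : IsConj (g * x * g⁻¹) x).trans⟩

theorem cs_inv (x : G) : cs x⁻¹ = cs x :=
  Nat.dvd_antisymm (cs_dvd (inv_mem (mem_zpowers x)))
    (cs_dvd (by simpa using inv_mem (mem_zpowers x⁻¹)))

/-- Products of classes of coprime size are single classes. -/
theorem isConj_mul {a b : G} (h : (cs a).Coprime (cs b)) {a' : G} (g : G) (ha : IsConj a a') :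
    IsConj (a * b) (a' * (g * b * g⁻¹)) := by
  have hprod : ∀ g : G, IsConj (a * b) (a * (g * b * g⁻¹)) := by
    intro g
    obtain ⟨c, hc, d, hd, rfl⟩ := H24.exists_mul_of_coprime_index (centralizer ({a} : Set G))
      (centralizer ({b} : Set G)) h g
    refine isConj_iff.mpr ⟨c, ?_⟩
    rw [mem_centralizer_singleton_iff] at hc hd
    calc c * (a * b) * c⁻¹ = c * a * (b * c⁻¹) := by group
      _ = a * c * (b * c⁻¹) := by rw [hc]
      _ = a * (c * (d * b * d⁻¹) * c⁻¹) := by rw [hd]; group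
      _ = _ := by group
  obtain ⟨k, rfl⟩ := isConj_iff.mp ha
  refine (hprod (k⁻¹ * g)).trans (isConj_iff.mpr ⟨k, ?_⟩)
  group

theorem cs_le_mul_left {a b : G} (h : (cs a).Coprime (cs b)) : cs a ≤ cs (a * b) := by
  rw [← card_class, ← card_class]
  refine Nat.card_le_card_of_injective
    (fun u : {u : G // IsConj a u} => (⟨u.1 * b, by simpa using isConj_mul h 1 u.2⟩ :
      {w : G // IsConj (a * b) w})) ?_
  exact fun u v e => Subtype.ext (mul_right_cancel (congrArg Subtype.val e))

theorem cs_le_mul_right {a b : G} (h : (cs a).Coprime (cs b)) : cs b ≤ cs (a * b) := by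
  rw [← card_class, ← card_class]
  refine Nat.card_le_card_of_injective
    (fun u : {u : G // IsConj b u} => (⟨a * u.1, ?_⟩ : {w : G // IsConj (a * b) w})) ?_
  · obtain ⟨g, hg⟩ := isConj_iff.mp u.2
    rw [← hg]
    exact isConj_mul h g (IsConj.refl a)
  · exact fun u v e => Subtype.ext (mul_left_cancel (congrArg Subtype.val e))

theorem exists_stab {a b : G} (hco : (cs a).Coprime (cs b)) (hle : cs (a * b) ≤ cs a) :
    ∃ M : Subgroup G, M.Normal ∧ Nat.card M ∣ cs a ∧ M ≤ centralizer ({b} : Set G) ∧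
      ∀ g : G, g * b * g⁻¹ * b⁻¹ ∈ M := by
  have hsurj : ∀ w : G, IsConj (a * b) w → IsConj a (w * b⁻¹) := by
    intro w hw
    let f : {u : G // IsConj a u} → {w : G // IsConj (a * b) w} := fun u =>
      ⟨u.1 * b, by simpa using isConj_mul hco 1 u.2⟩
    have hf : Function.Injective f := fun u v e =>
      Subtype.ext (mul_right_cancel (congrArg Subtype.val e))
    have hb : Function.Bijective f := hf.bijective_of_nat_card_le (by
      rw [card_class, card_class]; exact hle)
    obtain ⟨u, hu⟩ := hb.2 ⟨w, hw⟩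
    have hu' : u.1 * b = w := congrArg Subtype.val hu
    rw [← hu', mul_inv_cancel_right]
    exact u.2
  let M0 : Submonoid G :=
    { carrier := {u | ∀ c, IsConj a c → IsConj a (c * u)}
      one_mem' := fun c hc => by rwa [mul_one]
      mul_mem' := fun {u v} hu hv c hc => by rw [← mul_assoc]; exact hv _ (hu c hc) }
  let M : Subgroup G :=
    { M0 with
      inv_mem' := fun {u} hu => by
        obtain ⟨k, hk⟩ := Submonoid.mem_powers_iff _ _ |>.mp
          ((isOfFinOrder_of_finite u).mem_powers_iff_mem_zpowers.mpr (inv_mem (mem_zpowers u)))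
        show u⁻¹ ∈ M0
        rw [← hk]
        exact pow_mem hu k }
  have hMn : M.Normal := ⟨fun u hu g c hc => by
    have h1 := hu (g⁻¹ * c * g) (hc.trans (isConj_iff.mpr ⟨g⁻¹, by group⟩))
    exact h1.trans (isConj_iff.mpr ⟨g, by group⟩)⟩
  have hMmem : ∀ g : G, g * b * g⁻¹ * b⁻¹ ∈ M := by
    intro g c hc
    have := hsurj _ (isConj_mul hco g hc)
    rwa [mul_assoc] at this
  have hMcard : Nat.card M ∣ cs a := by
    rw [← card_class]
    let _ : MulAction M {c : G // IsConj a c} :=
      { smul := fun u c => ⟨c.1 * (u⁻¹ : M), (u⁻¹).2 c.1 c.2⟩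
        one_smul := fun c => Subtype.ext (by show c.1 * ((1 : M)⁻¹ : M) = c.1; simp)
        mul_smul := fun u v c => Subtype.ext (by
          show c.1 * ((u * v)⁻¹ : M) = c.1 * (v⁻¹ : M) * (u⁻¹ : M)
          simp [mul_assoc]) }
    refine Frobenius.dvd_card_of_free M fun u c hu => ?_
    have : c.1 * ((u⁻¹ : M) : G) = c.1 := congrArg Subtype.val hu
    rw [mul_eq_left, OneMemClass.coe_eq_one, inv_eq_one] at this
    exact this
  refine ⟨M, hMn, hMcard, ?_, hMmem⟩
  rw [← relIndex_eq_one]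
  set C := centralizer ({b} : Set G) with hC
  have key : C.relIndex M = C.relIndex (C ⊔ M) := by
    have h1 := card_sup_mul_card_inf C M
    have h2 := relIndex_mul_relIndex (⊥ : Subgroup G) C (C ⊔ M) bot_le le_sup_left
    have h3 := relIndex_mul_relIndex (⊥ : Subgroup G) (C ⊓ M) M bot_le inf_le_right
    rw [relIndex_bot_left, relIndex_bot_left] at h2 h3
    rw [inf_relIndex_right] at h3
    rw [← h2, ← h3] at h1
    have hpos : 0 < Nat.card C * Nat.card ↥(C ⊓ M) := Nat.mul_pos Nat.card_pos Nat.card_pos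
    refine (Nat.eq_of_mul_eq_mul_left hpos ?_).symm
    linear_combination h1
  refine Nat.eq_one_of_dvd_coprimes hco ((relIndex_dvd_card _ _).trans hMcard) ?_
  rw [key]
  exact ⟨(C ⊔ M).index, (relIndex_mul_index le_sup_left).symm⟩

/-- The conjugates of `b` commute and `b` lies in the core for the primes of `cs a`, mod the centre. -/
theorem small_structure {a b : G} (hco : (cs a).Coprime (cs b)) (hle : cs (a * b) ≤ cs a) :
    (∀ g : G, Commute b (g * b * g⁻¹)) ∧ b ∈ piCore {p | p ∣ cs a} G ⊔ center G := by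
  obtain ⟨M, hMn, hMd, hMC, hMmem⟩ := exists_stab hco hle
  have hbm : ∀ g : G, Commute b (g * b * g⁻¹ * b⁻¹) := fun g =>
    (mem_centralizer_singleton_iff.mp (hMC (hMmem g))).symm
  have hcomm : ∀ g : G, Commute b (g * b * g⁻¹) := fun g => by
    simpa using (hbm g).mul_right (Commute.refl b)
  refine ⟨hcomm, mem_of_prime_powers fun u hu ⟨t, k, ht, hk⟩ => ?_⟩
  have := Fact.mk ht
  by_cases huc : u ∈ center G
  · exact mem_sup_right huc
  refine mem_sup_left ?_
  obtain ⟨i, rfl⟩ := mem_zpowers_iff.mp hu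
  have hui : ∀ g : G, g * b ^ i * g⁻¹ * (b ^ i)⁻¹ = (g * b * g⁻¹ * b⁻¹) ^ i := by
    intro g
    have h1 : g * b ^ i * g⁻¹ = (g * b * g⁻¹ * b⁻¹ * b) ^ i := by
      rw [inv_mul_cancel_right, conj_zpow]
    rw [h1, (hbm g).symm.mul_zpow, mul_inv_cancel_right]
  have hsub : (zpowers (b ^ i)).IsSubnormal := by
    set K := normalClosure ({b} : Set G) with hK
    have hKc : IsMulCommutative K := by
      refine Subgroup.isMulCommutative_closure ?_
      intro c hc d hd
      simp only [Group.mem_conjugatesOfSet_iff, Set.mem_singleton_iff, exists_eq_left] at hc hd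
      obtain ⟨g, rfl⟩ := isConj_iff.mp hc
      obtain ⟨g', rfl⟩ := isConj_iff.mp hd
      have := (hcomm (g⁻¹ * g')).map (MulAut.conj g).toMonoidHom
      simp only [MulEquiv.coe_toMonoidHom, MulAut.conj_apply] at this
      convert this.eq using 2 <;> group
    have hbK : b ∈ K := subset_normalClosure (Set.mem_singleton b)
    refine IsSubnormal.step _ K (zpowers_le.mpr (zpow_mem hbK i))
      (IsSubnormal.step _ ⊤ le_top IsSubnormal.top inferInstance) ?_
    exact ⟨fun x hx g => by rw [mul_comm' g x, mul_inv_cancel_right]; exact hx⟩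
  have hmem : b ^ i ∈ pCore t G :=
    le_pCore_of_isSubnormal hsub (IsPGroup.of_card (n := k) (by rw [Nat.card_zpowers, hk]))
      (mem_zpowers _)
  have htd : t ∣ cs a := by
    by_contra htS
    refine huc (mem_center_iff.mpr fun g => ?_)
    have hu' : g * b ^ i * g⁻¹ * (b ^ i)⁻¹ ∈ pCore t G ⊓ M :=
      mem_inf.mpr ⟨mul_mem ((pCore_normal t G).conj_mem _ hmem g) (inv_mem hmem),
        hui g ▸ zpow_mem (hMmem g) i⟩
    rw [disjoint_of_isPGroup_of_coprime pCore_isPGroup
      ((Nat.Prime.coprime_iff_not_dvd ht).mpr fun hd => htS (hd.trans hMd)).symm, mem_bot,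
      mul_inv_eq_one, mul_inv_eq_iff_eq_mul] at hu'
    exact hu'
  exact le_piCore (fun p hp hd => by
    have h1 := (isPGroup_iff_isPiNumber ht).mp (pCore_isPGroup (p := t) (G := G)) p hp hd
    rw [Set.mem_singleton_iff.mp h1]; exact htd) hmem

/-- The hypotheses. -/
structure Hyp (G : Type*) [Group G] (m n : ℕ) : Prop where
  one_lt : 1 < n
  lt : n < m
  coprime : m.Coprime n
  le_top : ∀ z : G, cs z ≤ m
  le_second : ∀ z : G, cs z < m → cs z ≤ n
  exists_n : ∃ x : G, cs x = n
  exists_m : ∃ y : G, cs y = m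

variable {m n : ℕ}

theorem coprime_piCore_card {a b : ℕ} (hab : a.Coprime b) :
    (Nat.card (piCore {p | p ∣ a} G)).Coprime (Nat.card (piCore {p | p ∣ b} G)) :=
  (piCore_isPiNumber _).coprime (piCore_isPiNumber _) fun _ hp ha hb =>
    hp.ne_one (Nat.eq_one_of_dvd_coprimes hab ha hb)

theorem pow_card_piCore_mem_center {S : Set ℕ} {a : G} (ha : a ∈ piCore S G ⊔ center G) :
    a ^ Nat.card (piCore S G) ∈ center G := by
  obtain ⟨k, hk, c, hc, rfl⟩ := mem_sup_of_normal_left.mp ha
  rw [Commute.mul_pow (mem_center_iff.mp hc k), orderOf_dvd_iff_pow_eq_one.mp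
    ((orderOf_mk k hk) ▸ orderOf_dvd_natCard _), one_mul]
  exact pow_mem hc _

theorem Hyp.cs_cases (h : Hyp G m n) (z : G) : cs z = m ∨ cs z ≤ n :=
  (h.le_top z).lt_or_eq.symm.imp id (h.le_second z)

omit [Finite G] in
theorem Hyp.not_center (h : Hyp G m n) {a : G} (ha : cs a = n) : a ∉ center G := fun e => by
  have := cs_eq_one_iff.mpr e
  have := h.one_lt
  omega

theorem Hyp.n_structure (h : Hyp G m n) {a : G} (ha : cs a = n) :
    (∀ g : G, Commute a (g * a * g⁻¹)) ∧ a ∈ piCore {p | p ∣ m} G ⊔ center G := by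
  obtain ⟨y, hy⟩ := h.exists_m
  have := small_structure (a := y) (b := a) (by rw [hy, ha]; exact h.coprime)
    (by rw [hy]; exact h.le_top _)
  rwa [hy] at this

theorem Hyp.exists_core (h : Hyp G m n) : ∃ a : G, cs a = n ∧ a ∈ piCore {p | p ∣ m} G := by
  obtain ⟨x, hx⟩ := h.exists_n
  obtain ⟨k, hk, c, hc, rfl⟩ := mem_sup_of_normal_left.mp (h.n_structure hx).2
  exact ⟨k, by rwa [cs_congr_center hc] at hx, hk⟩

/-- A non-central element with class size coprime to `n` has class size `m`. -/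
theorem Hyp.eq_m (h : Hyp G m n) {z : G} (hz : z ∉ center G) (hco : (cs z).Coprime n) :
    cs z = m := by
  by_contra hne
  have hkn : cs z ≤ n := (h.cs_cases z).resolve_left hne
  obtain ⟨x, hx⟩ := h.exists_n
  have hco' : (cs x).Coprime (cs z) := hx.symm ▸ hco.symm
  have h1 : n ≤ cs (x * z) := hx ▸ cs_le_mul_left hco'
  have h2 : cs (x * z) ≤ n := by
    refine (h.cs_cases _).resolve_left fun e => ?_
    have h3 := cs_le_mul_right (a := x⁻¹) (b := x * z) (by rw [cs_inv, hx, e]; exact h.coprime.symm)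
    rw [inv_mul_cancel_left, e] at h3
    have := h.lt
    omega
  have he : cs (x * z) = n := le_antisymm h2 h1
  obtain ⟨-, hzmem⟩ := small_structure hco' (by rw [he, hx])
  rw [hx] at hzmem
  have hxmem := (h.n_structure hx).2
  set P1 := piCore {p | p ∣ m} G
  set P2 := piCore {p | p ∣ n} G
  have hcop : (Nat.card P1).Coprime (Nat.card P2) := coprime_piCore_card h.coprime
  have hxz : Commute x z := by
    obtain ⟨k, hk, c, hc, rfl⟩ := mem_sup_of_normal_left.mp hxmem
    obtain ⟨l, hl, d, hd, rfl⟩ := mem_sup_of_normal_left.mp hzmem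
    have hkl : Commute k l := Subgroup.commute_of_normal_of_disjoint _ _ (piCore_normal _ G)
      (piCore_normal _ G) (disjoint_iff.mpr (inf_eq_bot_of_coprime hcop)) k l hk hl
    have hcl : Commute c (l * d) := (mem_center_iff.mp hc (l * d)).symm
    have hkd : Commute k d := mem_center_iff.mp hd k
    exact (hkl.mul_right hkd).mul_left hcl
  have hle : centralizer ({x * z} : Set G) ≤ centralizer ({x} : Set G) := by
    intro g hg
    have hg' : x * z ∈ centralizer ({g} : Set G) :=
      mem_centralizer_singleton_iff.mpr (mem_centralizer_singleton_iff.mp hg).symm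
    refine mem_centralizer_singleton_iff.mpr (mem_centralizer_singleton_iff.mp
      (mem_of_pow_mem hcop (g := x) (K := centralizer ({g} : Set G)) ?_ ?_)).symm
    · exact mem_centralizer_singleton_iff.mpr
        (mem_center_iff.mp (pow_card_piCore_mem_center hxmem) g).symm
    · have h3 := pow_mem hg' (Nat.card P2)
      rw [hxz.mul_pow] at h3
      have h4 : z ^ Nat.card P2 ∈ centralizer ({g} : Set G) := mem_centralizer_singleton_iff.mpr
        (mem_center_iff.mp (pow_card_piCore_mem_center hzmem) g).symm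
      simpa using mul_mem h3 (inv_mem h4)
  have hle2 : centralizer ({x * z} : Set G) ≤ centralizer ({z} : Set G) := by
    intro g hg
    refine mem_centralizer_singleton_iff.mpr ?_
    have a1 : Commute g x := mem_centralizer_singleton_iff.mp (hle hg)
    have a2 : Commute g (x * z) := mem_centralizer_singleton_iff.mp hg
    simpa using (a1.inv_right.mul_right a2).eq
  have hd : cs z ∣ n := he ▸ index_dvd_of_le hle2
  exact hz (cs_eq_one_iff.mp (Nat.eq_one_of_dvd_coprimes hco dvd_rfl hd))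

theorem Hyp.eq_m_of_dvd (h : Hyp G m n) {z : G} (hz : z ∉ center G) (hd : cs z ∣ m) : cs z = m :=
  h.eq_m hz (h.coprime.coprime_dvd_left hd)

theorem Hyp.not_mul_dvd (h : Hyp G m n) {z : G} (h1 : n ∣ cs z) (h2 : m ∣ cs z) : False := by
  have hd := h.coprime.mul_dvd_of_dvd_of_dvd h2 h1
  have := Nat.le_of_dvd (cs_pos z) hd
  have := h.le_top z
  have := h.one_lt
  have := h.lt
  nlinarith

theorem Hyp.exists_noncentral_sylow (h : Hyp G m n) {q : ℕ} [Fact q.Prime] (hq : q ∣ n)
    (Q : Sylow q G) : ∃ v ∈ (Q : Subgroup G), v ∉ center G := by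
  by_contra hcon
  push Not at hcon
  obtain ⟨x, hx⟩ := h.exists_n
  refine Q.not_dvd_index ((hx.symm ▸ hq : q ∣ cs x).trans (index_dvd_of_le fun v hv => ?_))
  exact mem_centralizer_singleton_iff.mpr (mem_center_iff.mp (hcon v hv) x).symm

theorem coprime_of_mem_piCore {S : Set ℕ} {a : G} (ha : a ∈ piCore S G) {q k : ℕ} (hq : q.Prime)
    (hqS : q ∉ S) : (orderOf a).Coprime (q ^ k) := by
  refine Nat.Coprime.pow_right _ ((Nat.Prime.coprime_iff_not_dvd hq).mpr fun hd => hqS ?_).symm
  exact (piCore_isPiNumber S) q hq (hd.trans (Subgroup.orderOf_dvd_natCard _ ha))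

/-- Elements of class sizes `n` and `m` do not commute. -/
theorem Hyp.no_commute (h : Hyp G m n) {a b : G} (ha : cs a = n) (hb : cs b = m)
    (hab : Commute a b) : False := by
  obtain ⟨k, hk, c, hc, rfl⟩ := mem_sup_of_normal_left.mp (h.n_structure ha).2
  rw [cs_congr_center hc] at ha
  have hkb : Commute k b := by
    have := hab.mul_left (show Commute c⁻¹ b from (mem_center_iff.mp (inv_mem hc) b).symm)
    rwa [mul_inv_cancel_right] at this
  have hb' : b ∉ center G := fun e => by
    have := cs_eq_one_iff.mpr e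
    have := h.one_lt
    have := h.lt
    omega
  obtain ⟨w, hw, s, l, hs, hl, hwc⟩ : ∃ w ∈ zpowers b, ∃ s l : ℕ, s.Prime ∧ orderOf w = s ^ l ∧
      w ∉ center G := by
    by_contra hcon
    push Not at hcon
    exact hb' (mem_of_prime_powers fun u hu ⟨t, j, ht, hj⟩ => hcon u hu t j ht hj)
  have hwm : cs w = m := h.eq_m_of_dvd hwc (hb ▸ cs_dvd hw)
  have hwb : centralizer ({b} : Set G) = centralizer ({w} : Set G) :=
    eq_of_le_of_cs_eq (centralizer_le_of_mem_zpowers hw) (hb.trans hwm.symm)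
  have hkw : Commute k w := mem_centralizer_singleton_iff.mp
    (hwb ▸ mem_centralizer_singleton_iff.mpr hkb.eq)
  by_cases hsm : s ∣ m
  · obtain ⟨q, hq, hqn⟩ := Nat.exists_prime_and_dvd h.one_lt.ne'
    have := Fact.mk hq
    have hqm : ¬ q ∣ m := fun hd => hq.ne_one (Nat.eq_one_of_dvd_coprimes h.coprime hd hqn)
    obtain ⟨Q, hQ⟩ := H76.exists_sylow_le_centralizer (x := w) (p := q) (show ¬ q ∣ cs w from hwm.symm ▸ hqm)
    obtain ⟨v, hv, hvc⟩ := h.exists_noncentral_sylow hqn Q
    obtain ⟨j, hj⟩ := orderOf_eq_of_mem Q.isPGroup' hv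
    have hvw : Commute v w := mem_centralizer_singleton_iff.mp (hQ hv)
    have hqs : q ≠ s := fun e => hqm (e ▸ hsm)
    have hc : (orderOf v).Coprime (orderOf w) := hj ▸ hl ▸ coprime_of_ne hq hs hqs
    have hwz : w ∈ zpowers (v * w) := by
      rw [hvw.eq]; exact mem_zpowers_mul hvw.symm hc.symm
    have hm' : cs (v * w) = m :=
      le_antisymm (h.le_top _) (hwm ▸ Nat.le_of_dvd (cs_pos _) (cs_dvd hwz))
    have e1 := eq_of_le_of_cs_eq (centralizer_le_of_mem_zpowers hwz) (hm'.trans hwm.symm)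
    have hvm : cs v = m := h.eq_m_of_dvd hvc (hm' ▸ cs_dvd (mem_zpowers_mul hvw hc))
    have hkv : Commute k v := by
      have h1 : k ∈ centralizer ({v * w} : Set G) := e1 ▸ mem_centralizer_singleton_iff.mpr hkw.eq
      exact mem_centralizer_singleton_iff.mp
        (centralizer_le_of_mem_zpowers (mem_zpowers_mul hvw hc) h1)
    have hc' : (orderOf k).Coprime (orderOf v) := hj ▸ coprime_of_mem_piCore hk hq hqm
    exact h.not_mul_dvd (ha ▸ cs_dvd (mem_zpowers_mul hkv hc'))
      (hvm ▸ cs_dvd (by rw [hkv.eq]; exact mem_zpowers_mul hkv.symm hc'.symm))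
  · have hc' : (orderOf k).Coprime (orderOf w) := hl ▸ coprime_of_mem_piCore hk hs hsm
    exact h.not_mul_dvd (ha ▸ cs_dvd (mem_zpowers_mul hkw hc'))
      (hwm ▸ cs_dvd (by rw [hkw.eq]; exact mem_zpowers_mul hkw.symm hc'.symm))

/-- Non-central `q`-elements, `q ∣ n`, have class size `m`. -/
theorem Hyp.q_element (h : Hyp G m n) {v : G} (hv : v ∉ center G) {q j : ℕ} (hq : q.Prime)
    (hqn : q ∣ n) (hj : orderOf v = q ^ j) : cs v = m := by
  classical
  have hqm : ¬ q ∣ m := fun hd => hq.ne_one (Nat.eq_one_of_dvd_coprimes h.coprime hd hqn)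
  obtain ⟨a, ha, hamem⟩ := h.exists_core
  have hnva : ¬ Commute a v := by
    intro hav
    have hc : (orderOf a).Coprime (orderOf v) := hj ▸ coprime_of_mem_piCore hamem hq hqm
    have hd : n ∣ cs (a * v) := ha ▸ cs_dvd (mem_zpowers_mul hav hc)
    rcases h.cs_cases (a * v) with e | e
    · exact h.not_mul_dvd hd (e.symm ▸ dvd_rfl)
    · have he : cs (a * v) = n := le_antisymm e (Nat.le_of_dvd (cs_pos _) hd)
      have hvn : cs v ∣ n := he ▸ cs_dvd (by rw [hav.eq]; exact mem_zpowers_mul hav.symm hc.symm)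
      obtain ⟨y, hy⟩ := h.exists_m
      obtain ⟨-, hvmem⟩ := small_structure (a := y) (b := v)
        (by rw [hy]; exact h.coprime.coprime_dvd_right hvn) (by rw [hy]; exact h.le_top _)
      rw [hy] at hvmem
      refine hv (mem_of_pow_mem (b := q ^ j) ?_ (pow_card_piCore_mem_center hvmem) ?_)
      · refine Nat.Coprime.pow_right _ ((Nat.Prime.coprime_iff_not_dvd hq).mpr fun hd => hqm ?_).symm
        exact (piCore_isPiNumber _) q hq hd
      · rw [← hj, pow_orderOf_eq_one]; exact one_mem _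
  set K := normalClosure ({a} : Set G) with hK
  have hKc : IsMulCommutative K := by
    refine Subgroup.isMulCommutative_closure ?_
    intro c hc d hd
    simp only [Group.mem_conjugatesOfSet_iff, Set.mem_singleton_iff, exists_eq_left] at hc hd
    obtain ⟨g, rfl⟩ := isConj_iff.mp hc
    obtain ⟨g', rfl⟩ := isConj_iff.mp hd
    have := ((h.n_structure ha).1 (g⁻¹ * g')).map (MulAut.conj g).toMonoidHom
    simp only [MulEquiv.coe_toMonoidHom, MulAut.conj_apply] at this
    convert this.eq using 2 <;> group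
  have hKle : K ≤ piCore {p | p ∣ m} G := normalClosure_le_normal (Set.singleton_subset_iff.mpr hamem)
  have hKcomm : ∀ u ∈ K, ∀ w ∈ K, u * w = w * u := fun u hu w hw =>
    congrArg Subtype.val (mul_comm' (⟨u, hu⟩ : K) ⟨w, hw⟩)
  have hKn : ∀ g, ∀ u ∈ K, g * u * g⁻¹ ∈ K := fun g u hu => normalClosure_normal.conj_mem u hu g
  let ρ : K →* K := MonoidHom.mk'
    (fun u => ⟨v * u * v⁻¹ * (u : G)⁻¹, mul_mem (hKn v u u.2) (inv_mem u.2)⟩) fun u w => by
    refine Subtype.ext ?_
    show v * ((u : G) * w) * v⁻¹ * ((u : G) * w)⁻¹ =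
      v * u * v⁻¹ * (u : G)⁻¹ * (v * w * v⁻¹ * (w : G)⁻¹)
    have e := hKcomm ((u : G)⁻¹) (inv_mem u.2) (v * w * v⁻¹ * (w : G)⁻¹)
      (mul_mem (hKn v w w.2) (inv_mem w.2))
    calc v * ((u : G) * w) * v⁻¹ * ((u : G) * w)⁻¹
        = v * u * v⁻¹ * ((v * w * v⁻¹ * (w : G)⁻¹) * (u : G)⁻¹) := by group
      _ = v * u * v⁻¹ * ((u : G)⁻¹ * (v * w * v⁻¹ * (w : G)⁻¹)) := by rw [e]
      _ = _ := by group
  have hker : ∀ u : K, u ∈ ρ.ker → Commute v (u : G) := by
    intro u hu
    have h1 : v * u * v⁻¹ * (u : G)⁻¹ = 1 := congrArg Subtype.val (MonoidHom.mem_ker.mp hu)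
    rw [mul_inv_eq_one, mul_inv_eq_iff_eq_mul] at h1
    exact h1
  have hker' : ∀ u : K, Commute v (u : G) → u ∈ ρ.ker := fun u hu =>
    MonoidHom.mem_ker.mpr (Subtype.ext (by
      show v * u * v⁻¹ * (u : G)⁻¹ = 1
      rw [hu.eq, mul_inv_cancel_right, mul_inv_cancel]))
  have hdisj : ∀ u : K, u ∈ ρ.ker → u ∈ ρ.range → u = 1 := by
    rintro _ hu ⟨w, rfl⟩
    have hc := hker _ hu
    have hpow : ∀ i : ℕ, v ^ i * (w : G) * (v ^ i)⁻¹ = (ρ w : G) ^ i * w := by
      intro i
      induction i with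
      | zero => simp
      | succ i ih =>
        calc v ^ (i + 1) * (w : G) * (v ^ (i + 1))⁻¹ = v * (v ^ i * (w : G) * (v ^ i)⁻¹) * v⁻¹ := by
              rw [pow_succ']; group
          _ = v * (ρ w : G) ^ i * (w * v⁻¹) := by rw [ih]; group
          _ = (ρ w : G) ^ i * v * (w * v⁻¹) := by rw [(hc.pow_right i).eq]
          _ = (ρ w : G) ^ i * ((ρ w : G) * w) := by
              show _ = _ * (v * w * v⁻¹ * (w : G)⁻¹ * w)
              group
          _ = _ := by rw [pow_succ]; group
    have h1 := hpow (orderOf v)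
    rw [pow_orderOf_eq_one, one_mul, inv_one, mul_one, right_eq_mul] at h1
    refine Subtype.ext (orderOf_eq_one_iff.mp (Nat.eq_one_of_dvd_coprimes
      (coprime_of_mem_piCore (hKle (ρ w).2) hq hqm (k := j)) dvd_rfl ?_))
    rw [← hj]
    exact orderOf_dvd_of_pow_eq_one h1
  let F : ρ.ker × ρ.range → K := fun p => (p.1 : K) * (p.2 : K)
  have hF : Function.Bijective F := by
    have hinj : Function.Injective F := by
      rintro ⟨u, w⟩ ⟨u', w'⟩ e
      have e' : (u' : K)⁻¹ * u = (w' : K) * (w : K)⁻¹ := by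
        rw [eq_mul_inv_iff_mul_eq, mul_assoc, inv_mul_eq_iff_eq_mul]
        exact e
      have hu : (u' : K)⁻¹ * u = 1 := hdisj _ (mul_mem (inv_mem u'.2) u.2)
        (e' ▸ mul_mem w'.2 (inv_mem w.2))
      have h1 : u = u' := Subtype.ext (inv_mul_eq_one.mp hu).symm
      subst h1
      exact Prod.ext rfl (Subtype.ext (mul_left_cancel e))
    refine hinj.bijective_of_nat_card_le (le_of_eq ?_)
    rw [Nat.card_prod, ← index_ker, Subgroup.card_mul_index]
  obtain ⟨⟨⟨x1, hx1⟩, ⟨x2, hx2⟩⟩, hx⟩ := hF.2 ⟨a, subset_normalClosure rfl⟩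
  have hax : a = (x1 : G) * (x2 : G) := (congrArg Subtype.val hx).symm
  have hx21 : x2 ≠ 1 := fun e => hnva (by
    rw [hax, e, OneMemClass.coe_one, mul_one]; exact (hker x1 hx1).symm)
  set D := centralizer ({(x1 : G)} : Set G) ⊓ centralizer ({v} : Set G) with hD
  set X := centralizer ({a} : Set G) ⊓ centralizer ({v} : Set G) with hX
  have hfmem : ∀ d : D, (d : G) * (x2 : G) * (d : G)⁻¹ ∈
      {r : G | r ≠ 1 ∧ ∃ w : K, (ρ w : G) = r} := by
    intro d
    obtain ⟨w, hw⟩ := hx2
    refine ⟨fun e => hx21 (Subtype.ext (conj_eq_one_iff.mp e)), ⟨(d : G) * w * (d : G)⁻¹, hKn _ _ w.2⟩, ?_⟩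
    have hdv : Commute (d : G) v := mem_centralizer_singleton_iff.mp (mem_inf.mp d.2).2
    rw [← hw]
    show v * ((d : G) * w * (d : G)⁻¹) * v⁻¹ * ((d : G) * w * (d : G)⁻¹)⁻¹ =
      (d : G) * (v * w * v⁻¹ * (w : G)⁻¹) * (d : G)⁻¹
    calc v * ((d : G) * w * (d : G)⁻¹) * v⁻¹ * ((d : G) * w * (d : G)⁻¹)⁻¹
        = (v * (d : G)) * w * (v * (d : G))⁻¹ * ((d : G) * (w : G)⁻¹ * (d : G)⁻¹) := by group
      _ = ((d : G) * v) * w * ((d : G) * v)⁻¹ * ((d : G) * (w : G)⁻¹ * (d : G)⁻¹) := by rw [hdv.eq]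
      _ = _ := by group
  set R := {r : G | r ≠ 1 ∧ ∃ w : K, (ρ w : G) = r} with hR
  let f : D → R := fun d => ⟨_, hfmem d⟩
  have hDcard : Nat.card D ≤ Nat.card R * Nat.card X := by
    rw [← Nat.card_prod]
    have hfib : ∀ d : D, ((Function.invFun f (f d) : D) : G)⁻¹ * (d : G) ∈ X := by
      intro d
      set d' := Function.invFun f (f d)
      have hd' : f d' = f d := Function.invFun_eq ⟨d, rfl⟩
      have e : (d' : G) * (x2 : G) * (d' : G)⁻¹ = (d : G) * (x2 : G) * (d : G)⁻¹ :=
        congrArg Subtype.val hd'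
      have hc2 : Commute ((d' : G)⁻¹ * d) (x2 : G) := by
        show (d' : G)⁻¹ * d * (x2 : G) = (x2 : G) * ((d' : G)⁻¹ * d)
        calc (d' : G)⁻¹ * d * (x2 : G) = (d' : G)⁻¹ * ((d : G) * (x2 : G) * (d : G)⁻¹) * d := by group
          _ = _ := by rw [← e]; group
      have hin : (d' : G)⁻¹ * d ∈ D := mul_mem (inv_mem d'.2) d.2
      rw [hX, mem_inf]
      refine ⟨mem_centralizer_singleton_iff.mpr ?_, (mem_inf.mp hin).2⟩
      have hc1 : Commute ((d' : G)⁻¹ * d) (x1 : G) :=
        mem_centralizer_singleton_iff.mp (mem_inf.mp hin).1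
      rw [hax]
      exact (hc1.mul_right hc2).eq
    refine Nat.card_le_card_of_injective (fun d : D => (f d, (⟨_, hfib d⟩ : X))) fun d d' e => ?_
    have e1 := congrArg Prod.fst e
    have e2 : ((Function.invFun f (f d) : D) : G)⁻¹ * (d : G) =
        ((Function.invFun f (f d') : D) : G)⁻¹ * (d' : G) := congrArg (fun p => (p.2 : G)) e
    simp only at e1
    rw [e1] at e2
    exact Subtype.ext (mul_left_cancel e2)
  have hRlt : Nat.card R < Nat.card ρ.range := by
    let g : R → ρ.range := fun r => ⟨⟨r.1, by obtain ⟨w, hw⟩ := r.2.2; exact hw ▸ (ρ w).2⟩,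
      by obtain ⟨w, hw⟩ := r.2.2; exact ⟨w, Subtype.ext hw⟩⟩
    have hg : Function.Injective g := fun r r' e =>
      Subtype.ext (congrArg (fun t : ρ.range => ((t : K) : G)) e)
    refine lt_of_le_of_ne (Nat.card_le_card_of_injective g hg) fun e => ?_
    obtain ⟨r, hr⟩ := (hg.bijective_of_nat_card_le e.ge).2 1
    exact r.2.1 (congrArg (fun t : ρ.range => ((t : K) : G)) hr)
  have hCa : Nat.card ρ.range * Nat.card X ≤ Nat.card (centralizer ({a} : Set G)) := by
    rw [← Nat.card_prod]
    have hmem : ∀ p : ρ.range × X, ((p.1 : K) : G) * (p.2 : G) ∈ centralizer ({a} : Set G) :=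
      fun p => mul_mem (mem_centralizer_singleton_iff.mpr
        (hKcomm _ (p.1 : K).2 a (subset_normalClosure rfl))) (mem_inf.mp p.2.2).1
    refine Nat.card_le_card_of_injective (fun p => ⟨_, hmem p⟩) fun ⟨r, t⟩ ⟨r', t'⟩ e => ?_
    have e' : ((r : K) : G) * (t : G) = ((r' : K) : G) * (t' : G) := congrArg Subtype.val e
    have hu : ((r' : K) : G)⁻¹ * ((r : K) : G) ∈ X := by
      have : ((r' : K) : G)⁻¹ * ((r : K) : G) = (t' : G) * (t : G)⁻¹ := by
        rw [eq_mul_inv_iff_mul_eq, mul_assoc, e', inv_mul_cancel_left]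
      exact this ▸ mul_mem t'.2 (inv_mem t.2)
    have hu' : (r' : K)⁻¹ * (r : K) = 1 := hdisj _
      (hker' _ (mem_centralizer_singleton_iff.mp (mem_inf.mp hu).2).symm)
      (mul_mem (inv_mem r'.2) r.2)
    have hr : r = r' := Subtype.ext (inv_mul_eq_one.mp hu').symm
    subst hr
    exact Prod.ext rfl (Subtype.ext (mul_left_cancel e'))
  have hx1v : Commute (x1 : G) v := (hker x1 hx1).symm
  have hc : (orderOf (x1 : G)).Coprime (orderOf v) := hj ▸ coprime_of_mem_piCore (hKle x1.2) hq hqm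
  have hzv : v ∈ zpowers ((x1 : G) * v) := by
    rw [hx1v.eq]; exact mem_zpowers_mul hx1v.symm hc.symm
  have hzle : centralizer ({(x1 : G) * v} : Set G) ≤ D := le_inf
    (centralizer_le_of_mem_zpowers (mem_zpowers_mul hx1v hc)) (centralizer_le_of_mem_zpowers hzv)
  have hXpos : 0 < Nat.card X := Nat.card_pos
  have hlt : Nat.card ↥(centralizer ({(x1 : G) * v} : Set G)) <
      Nat.card ↥(centralizer ({a} : Set G)) :=
    calc _ ≤ Nat.card D := card_le_of_le hzle
      _ ≤ Nat.card R * Nat.card X := hDcard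
      _ < Nat.card ρ.range * Nat.card X := Nat.mul_lt_mul_of_pos_right hRlt hXpos
      _ ≤ _ := hCa
  have hgt : n < cs ((x1 : G) * v) := by
    have h1 := (centralizer ({(x1 : G) * v} : Set G)).card_mul_index
    have h2 := (centralizer ({a} : Set G)).card_mul_index
    change _ * cs ((x1 : G) * v) = _ at h1
    change _ * cs a = _ at h2
    rw [ha] at h2
    by_contra hle
    push Not at hle
    have := Nat.mul_le_mul_left (Nat.card ↥(centralizer ({(x1 : G) * v} : Set G))) hle
    have := Nat.mul_lt_mul_of_pos_right hlt (by have := h.one_lt; omega : 0 < n)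
    omega
  exact h.eq_m_of_dvd hv ((h.cs_cases _).resolve_right (not_le.mpr hgt) ▸ cs_dvd hzv)

/-- Elements of maximal class size have orders in the primes of `n`. -/
theorem Hyp.max_prime (h : Hyp G m n) {w : G} (hw : cs w = m) {s l : ℕ} (hs : s.Prime)
    (hl : orderOf w = s ^ l) : s ∣ n := by
  by_contra hsn
  have := Fact.mk hs
  obtain ⟨x, hx⟩ := h.exists_n
  obtain ⟨P, hP⟩ := (IsPGroup.of_card (n := l) (by rw [Nat.card_zpowers, hl]) :
    IsPGroup s (zpowers w)).exists_le_sylow
  obtain ⟨g, hg⟩ := exists_conj_centralized (x := x) (hx ▸ hsn) P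
  exact h.no_commute hx ((cs_conj g w).trans hw) (hg w (hP (mem_zpowers w)))

theorem Hyp.no_commute_q (h : Hyp G m n) {z : G} (hz : z ∉ center G) {t k : ℕ} (ht : t.Prime)
    (htn : ¬ t ∣ n) (hk : orderOf z = t ^ k) {v : G} (hv : v ∉ center G) {q j : ℕ} (hq : q.Prime)
    (hqn : q ∣ n) (hj : orderOf v = q ^ j) (hzv : Commute z v) : False := by
  have hvm := h.q_element hv hq hqn hj
  have hne : t ≠ q := fun e => htn (e ▸ hqn)
  have hc : (orderOf z).Coprime (orderOf v) := hk ▸ hj ▸ coprime_of_ne ht hq hne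
  have hzw : v ∈ zpowers (z * v) := by rw [hzv.eq]; exact mem_zpowers_mul hzv.symm hc.symm
  have hm' : cs (z * v) = m :=
    le_antisymm (h.le_top _) (hvm ▸ Nat.le_of_dvd (cs_pos _) (cs_dvd hzw))
  exact htn (h.max_prime (h.eq_m_of_dvd hz (hm' ▸ cs_dvd (mem_zpowers_mul hzv hc))) ht hk)

theorem factorization_index_eq {C : Subgroup G} (hle : center G ≤ C) {q : ℕ} [Fact q.Prime]
    (h : ∀ v ∈ C, ∀ j, orderOf v = q ^ j → v ∈ center G) :
    C.index.factorization q = (center G).index.factorization q := by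
  obtain ⟨R⟩ : Nonempty (Sylow q C) := inferInstance
  have hR : (R : Subgroup C) ≤ (center G).subgroupOf C := by
    intro u hu
    obtain ⟨j, hj⟩ := orderOf_eq_of_mem R.isPGroup' hu
    exact mem_subgroupOf.mpr (h u u.2 j (by rw [orderOf_coe, hj]))
  have hnd : ¬ q ∣ (center G).relIndex C := fun hd => R.not_dvd_index (hd.trans (index_dvd_of_le hR))
  have : (center G).IsFiniteRelIndex C := ⟨index_ne_zero_of_finite⟩
  rw [← relIndex_mul_index hle, Nat.factorization_mul relIndex_ne_zero index_ne_zero_of_finite,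
    Finsupp.add_apply, Nat.factorization_eq_zero_of_not_dvd hnd, zero_add]

theorem Hyp.other_element (h : Hyp G m n) {z : G} (hz : z ∉ center G) {t k : ℕ} (ht : t.Prime)
    (htn : ¬ t ∣ n) (hk : orderOf z = t ^ k) : cs z = n := by
  obtain ⟨x, hx⟩ := h.exists_n
  have hn0 : n ≠ 0 := by have := h.one_lt; omega
  have hd : n ∣ cs z := by
    rw [← Nat.factorization_le_iff_dvd hn0 (cs_pos z).ne']
    intro q
    by_cases hq : q.Prime ∧ q ∣ n
    · have := Fact.mk hq.1
      have e1 := factorization_index_eq (C := centralizer ({z} : Set G)) (center_le_centralizer _)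
        (q := q) fun v hv j hj => by
          by_contra hvc
          exact h.no_commute_q hz ht htn hk hvc hq.1 hq.2 hj
            (mem_centralizer_singleton_iff.mp hv).symm
      have e2 := factorization_index_eq (C := centralizer ({x} : Set G)) (center_le_centralizer _)
        (q := q) fun v hv j hj => by
          by_contra hvc
          exact h.no_commute hx (h.q_element hvc hq.1 hq.2 hj)
            (mem_centralizer_singleton_iff.mp hv).symm
      change (cs z).factorization q = _ at e1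
      change (cs x).factorization q = _ at e2
      rw [hx] at e2
      rw [e1, e2]
    · have : n.factorization q = 0 := by
        rw [Nat.factorization_eq_zero_iff]
        tauto
      rw [this]
      exact Nat.zero_le _
  refine le_antisymm ((h.cs_cases z).resolve_left fun e => ?_) (Nat.le_of_dvd (cs_pos z) hd)
  exact h.not_mul_dvd hd (e.symm ▸ dvd_rfl)

/-- There are no class sizes besides `1`, `n` and `m`. -/
theorem Hyp.trichotomy (h : Hyp G m n) (z : G) : cs z = 1 ∨ cs z = n ∨ cs z = m := by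
  by_cases hz : z ∈ center G
  · exact Or.inl (cs_eq_one_iff.mpr hz)
  right
  obtain ⟨u, hu, t, k, ht, hk, huc⟩ : ∃ u ∈ zpowers z, ∃ t k : ℕ, t.Prime ∧ orderOf u = t ^ k ∧
      u ∉ center G := by
    by_contra hcon
    push Not at hcon
    exact hz (mem_of_prime_powers fun u hu ⟨t, j, ht, hj⟩ => hcon u hu t j ht hj)
  have hd := cs_dvd hu
  by_cases htn : t ∣ n
  · right
    rw [h.q_element huc ht htn hk] at hd
    exact le_antisymm (h.le_top z) (Nat.le_of_dvd (cs_pos z) hd)
  · rw [h.other_element huc ht htn hk] at hd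
    rcases h.cs_cases z with e | e
    · exact Or.inr e
    · exact Or.inl (le_antisymm e (Nat.le_of_dvd (cs_pos z) hd))

/-- The splitting hypothesis of the coprime families. -/
theorem Hyp.setup (h : Hyp G m n) : Setup {p | p ∣ m} G := by
  have hnc : IsPiNumber {p : ℕ | p ∣ m}ᶜ n := fun p hp hd hdm =>
    hp.ne_one (Nat.eq_one_of_dvd_coprimes h.coprime hdm hd)
  refine ⟨fun z => ?_, ?_, ?_⟩
  · rcases h.trichotomy z with e | e | e
    · exact Or.inl (e ▸ isPiNumber_one _)
    · exact Or.inr (e ▸ hnc)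
    · exact Or.inl (e.symm ▸ fun p _ hd => hd)
  · obtain ⟨y, hy⟩ := h.exists_m
    exact ⟨y, hy.symm ▸ fun p _ hd => hd, fun z => hy ▸ h.le_top z⟩
  · obtain ⟨x, hx⟩ := h.exists_n
    exact ⟨x, by rw [hx]; exact h.one_lt.ne', hx ▸ hnc⟩

end Cfsg.Agent.H46.TwoLargest
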